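import Cfsg.Agent.Lib.Helper3.Cover.Lower

set_option autoImplicit false

/-!
# A permutation representation of a covering group from a table with a central letter

The table has `3 * n` points and a letter `zl` acting as `q ↦ (q + n) % (3 * n)` and commuting with the letters of
the generators.  If every relator `r` of the group acts on the points `p < n` as the power `kr r` of that letter
and the normalising words fix the points `p < n`, the covering group acts on the `3 * n` points.
-/

namespace Cfsg.Agent.Lib.Helper16.McLM.CoverLow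

open Cfsg.Agent.Lib.Helper3.Cover
open Cfsg.Agent.Lib.Helper28.TC2Upper Cfsg.Agent.Lib.Helper28.TC2Lower Cfsg.Agent.Lib.Helper28.TC2Glue
open scoped commutatorElement

variable {α : Type} [DecidableEq α] [Fintype α]

theorem pathProd_append {K : Type*} [Monoid K] (γ : ℕ → K) (u v : List ℕ) :
    pathProd γ (u ++ v) = pathProd γ v * pathProd γ u := by
  induction u with
  | nil => simp [pathProd]
  | cons l ls ih =>
    show pathProd γ (ls ++ v) * γ l = pathProd γ v * (pathProd γ ls * γ l)
    rw [ih, mul_assoc]

theorem pathProd_replicate {K : Type*} [Monoid K] (γ : ℕ → K) (l k : ℕ) :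
    pathProd γ (List.replicate k l) = γ l ^ k := by
  induction k with
  | zero => exact (pow_zero _).symm
  | succ k ih =>
    show pathProd γ (List.replicate k l) * γ l = _
    rw [ih, pow_succ]

theorem pathProd_commute {K : Type*} [Monoid K] (γ : ℕ → K) (z : K) (w : List ℕ)
    (h : ∀ l ∈ w, Commute (γ l) z) : Commute (pathProd γ w) z := by
  induction w with
  | nil => exact Commute.one_left z
  | cons l ls ih =>
    exact (ih fun x hx => h x (List.mem_cons_of_mem _ hx)).mul_left (h l List.mem_cons_self)

/-- the letter `zl` acts as `q ↦ (q + n) % T.n` on the points `lo, …, lo + cnt - 1` -/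
noncomputable def zRange (T : Table) (zl n lo cnt : ℕ) : Bool :=
  allLoop (fun i => Nat.beq (T.tau zl (Nat.add lo i)) (Nat.mod (Nat.add (Nat.add lo i) n) T.n)) cnt

theorem zRange_iff (T : Table) (zl n lo cnt : ℕ) :
    zRange T zl n lo cnt = true ↔ ∀ q, lo ≤ q → q < lo + cnt → T.tau zl q = (q + n) % T.n := by
  unfold zRange
  rw [allLoop_eq_true]
  constructor
  · intro h q h1 h2
    have := h (q - lo) (by omega)
    rw [Data.nbeq_iff] at this
    have e : Nat.add lo (q - lo) = q := by simp only [Nat.add_eq]; omega
    rw [e] at this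
    exact this
  · intro h i hi
    rw [Data.nbeq_iff]
    exact h (Nat.add lo i) (by simp only [Nat.add_eq]; omega) (by simp only [Nat.add_eq]; omega)

section Main

variable (D : CoverData α) (lw : α × Bool → ℕ) (T : Table) (hT : T.OK)

/-- a path of letters commuting with the central letter that fixes the points `p < n` is trivial -/
theorem pathProd_eq_one_of_fix {T : Table} (hT : T.OK) (zl n : ℕ) (hzl : zl < T.k) (hn : T.n = 3 * n)
    (hz : ∀ q, q < T.n → T.tau zl q = (q + n) % T.n)
    (w : List ℕ) (hw : ∀ l ∈ w, l < T.k)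
    (hc : ∀ l ∈ w, Commute (Table.sigma hT l) (Table.sigma hT zl))
    (hfix : ∀ p, p < n → T.walkT w p = p) : pathProd (Table.sigma hT) w = 1 := by
  set Z := Table.sigma hT zl with hZ
  set g := pathProd (Table.sigma hT) w with hg
  have hgZ : Commute g Z := pathProd_commute _ _ _ hc
  have hZval : ∀ q : Fin T.n, (Z q).val = (q.val + n) % T.n := by
    intro q
    rw [hZ, Table.sigma_apply hT hzl, hz q.val q.2]
  have hgfix : ∀ p : Fin T.n, p.val < n → g p = p := by
    intro p hp
    apply Fin.ext
    rw [hg, Table.pathProd_sigma_apply hT w hw, hfix p.val hp]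
  have hcomm : ∀ q : Fin T.n, g (Z q) = Z (g q) := by
    intro q
    have := congrArg (fun f : Equiv.Perm (Fin T.n) => f q) hgZ.eq
    exact this
  ext q
  show (g q).val = q.val
  have hq := q.2
  rcases Nat.lt_or_ge q.val n with h1 | h1
  · rw [hgfix q h1]
  rcases Nat.lt_or_ge q.val (2 * n) with h2 | h2
  · -- q = Z p with p = q - n
    let p : Fin T.n := ⟨q.val - n, by omega⟩
    have hp : Z p = q := by
      apply Fin.ext
      rw [hZval]
      show (q.val - n + n) % T.n = q.val
      rw [Nat.sub_add_cancel h1, Nat.mod_eq_of_lt hq]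
    rw [← hp, hcomm, hgfix p (by show q.val - n < n; omega)]
  · let p : Fin T.n := ⟨q.val - 2 * n, by omega⟩
    have hp1 : (Z p).val = q.val - n := by
      rw [hZval]
      show (q.val - 2 * n + n) % T.n = q.val - n
      rw [Nat.mod_eq_of_lt (by omega)]
      omega
    have hp : Z (Z p) = q := by
      apply Fin.ext
      rw [hZval, hp1, Nat.sub_add_cancel (by omega), Nat.mod_eq_of_lt hq]
    rw [← hp, hcomm, hcomm, hgfix p (by show q.val - 2 * n < n; omega)]

/-- the representation of the covering group on the points of the table -/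
theorem cover_hom {T : Table} (hT : T.OK)
    (lwk : ∀ xb, lw xb < T.k) (lwinv : ∀ x, lw (x, false) = T.invl (lw (x, true)))
    (zl n : ℕ) (hzl : zl < T.k) (hn : T.n = 3 * n)
    (hz : ∀ q, q < T.n → T.tau zl q = (q + n) % T.n)
    (hcomm : ∀ x : α, ∀ q, q < T.n →
      T.walkT [zl, lw (x, true), T.invl zl, lw (x, false)] q = q)
    (kr : List (α × Bool) → ℕ)
    (hrel : ∀ L ∈ D.R, ∀ p, p < n →
      T.walkT (pathOf lw L ++ List.replicate (kr L) (T.invl zl)) p = p)
    (hnrm : ∀ L ∈ D.norms, ∀ p, p < n → T.walkT (pathOf lw L) p = p) :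
    ∃ φ : D.E →* Equiv.Perm (Fin T.n),
      ∀ (L : List (α × Bool)) (p : Fin T.n),
        (φ (PresentedGroup.mk _ (FreeGroup.mk L)) p).val = T.walkT (pathOf lw L) p.val := by
  set σ := Table.sigma hT with hσdef
  set Z := σ zl with hZ
  have hzi : T.invl zl < T.k := (hT.inv zl hzl).1
  have hZi : σ (T.invl zl) = Z⁻¹ := Table.sigma_inv hT hzl
  have hσ : ∀ x b, σ (lw (x, b)) = cond b (σ (lw (x, true))) (σ (lw (x, true)))⁻¹ := by
    intro x b
    cases b with
    | true => rfl
    | false =>
      show σ (lw (x, false)) = (σ (lw (x, true)))⁻¹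
      rw [lwinv, hσdef, Table.sigma_inv hT (lwk _)]
  have hlt : ∀ L : List (α × Bool), ∀ l ∈ pathOf lw L, l < T.k := by
    intro L l hl
    unfold pathOf at hl
    rw [List.mem_reverse, List.mem_map] at hl
    obtain ⟨xb, _, rfl⟩ := hl
    exact lwk _
  have hlift : ∀ L : List (α × Bool), FreeGroup.lift (fun x => σ (lw (x, true))) (FreeGroup.mk L) =
      pathProd σ (pathOf lw L) :=
    fun L => lift_mk_eq_pathProd _ lw _ hσ L
  -- the generators commute with the central letter
  have hcx : ∀ x : α, Commute (σ (lw (x, true))) Z := by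
    intro x
    have h1 : pathProd σ [zl, lw (x, true), T.invl zl, lw (x, false)] = 1 := by
      apply Table.pathProd_sigma_eq_one hT
      · intro l hl
        simp only [List.mem_cons, List.not_mem_nil, or_false] at hl
        rcases hl with rfl | rfl | rfl | rfl
        exacts [hzl, lwk _, hzi, lwk _]
      · exact hcomm x
    have h2 : pathProd σ [zl, lw (x, true), T.invl zl, lw (x, false)] =
        σ (lw (x, false)) * σ (T.invl zl) * σ (lw (x, true)) * σ zl := by
      simp [pathProd, mul_assoc]
    rw [h2, hσ x false, hZi] at h1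
    show σ (lw (x, true)) * Z = Z * σ (lw (x, true))
    have h3 : (σ (lw (x, true)))⁻¹ * Z⁻¹ * σ (lw (x, true)) * Z = 1 := h1
    have h4 : σ (lw (x, true)) * Z = Z * σ (lw (x, true)) := by
      have := congrArg (fun y => Z * σ (lw (x, true)) * y) h3
      simp only [mul_one] at this
      rw [← this]
      group
    exact h4
  have hcl : ∀ xb : α × Bool, Commute (σ (lw xb)) Z := by
    rintro ⟨x, b⟩
    rw [hσ x b]
    cases b with
    | true => exact hcx x
    | false => exact (hcx x).inv_left
  have hcpath : ∀ L : List (α × Bool), ∀ l ∈ pathOf lw L, Commute (σ l) Z := by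
    intro L l hl
    unfold pathOf at hl
    rw [List.mem_reverse, List.mem_map] at hl
    obtain ⟨xb, _, rfl⟩ := hl
    exact hcl xb
  -- the relators are powers of the central letter
  have hRpow : ∀ L ∈ D.R, pathProd σ (pathOf lw L) = Z ^ (kr L) := by
    intro L hL
    have h1 : pathProd σ (pathOf lw L ++ List.replicate (kr L) (T.invl zl)) = 1 := by
      apply pathProd_eq_one_of_fix hT zl n hzl hn hz
      · intro l hl
        rw [List.mem_append] at hl
        rcases hl with hl | hl
        · exact hlt L l hl
        · rw [List.eq_of_mem_replicate hl]; exact hzi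
      · intro l hl
        rw [List.mem_append] at hl
        rcases hl with hl | hl
        · exact hcpath L l hl
        · rw [List.eq_of_mem_replicate hl]
          show Commute (σ (T.invl zl)) Z
          rw [hZi]
          exact (Commute.refl Z).inv_left
      · exact hrel L hL
    rw [pathProd_append, pathProd_replicate, hZi] at h1
    have : pathProd σ (pathOf lw L) = (Z⁻¹ ^ kr L)⁻¹ := eq_inv_of_mul_eq_one_right h1
    rw [this, inv_pow, inv_inv]
  have hr : ∀ r ∈ D.relsE, FreeGroup.lift (fun x => σ (lw (x, true))) r = 1 := by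
    intro r hr
    rcases D.mem_relsE hr with ⟨L, hL, x, rfl⟩ | ⟨x, rfl⟩
    · rw [map_commutatorElement, hlift, hRpow L hL, FreeGroup.lift_apply_of,
        commutatorElement_eq_one_iff_commute]
      exact ((hcx x).pow_right (kr L)).symm
    · rw [hlift]
      apply pathProd_eq_one_of_fix hT zl n hzl hn hz
      · exact hlt _
      · exact hcpath _
      · exact hnrm _ (D.hnorms x)
  refine ⟨PresentedGroup.toGroup hr, ?_⟩
  intro L p
  have h1 : PresentedGroup.toGroup hr (PresentedGroup.mk _ (FreeGroup.mk L)) =
      FreeGroup.lift (fun x => σ (lw (x, true))) (FreeGroup.mk L) := rfl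
  rw [h1, hlift, Table.pathProd_sigma_apply hT _ (hlt L)]

end Main

end Cfsg.Agent.Lib.Helper16.McLM.CoverLow
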