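import Cfsg.Agent.Lib.Helper28.TC2Upper
import Cfsg.Agent.Lib.Helper16.McLM.E1DataC0
set_option autoImplicit false
set_option maxRecDepth 100000

namespace Cfsg.Agent.Lib.Helper16.McLM.E1Data
open Cfsg.Agent.Lib.Helper28.TC2Upper

/-- relators -/
def relT : BT (ℕ × List ℕ × List ℕ) := (BT.node 5 (BT.node 2 (BT.node 1 (BT.node 0 (BT.leaf (10, [1, 1, 1, 1, 1, 0, 0, 0, 0, 0], [1, 1, 1, 1, 1, 0, 0, 0, 0, 0])) (BT.leaf (10, [3, 1, 1, 1, 1, 2, 0, 0, 0, 0], [1, 1, 1, 1, 3, 0, 0, 0, 0, 2]))) (BT.leaf (8, [1, 3, 3, 3, 0, 2, 2, 2], [3, 3, 3, 1, 2, 2, 2, 0]))) (BT.node 4 (BT.node 3 (BT.leaf (8, [3, 3, 3, 3, 2, 2, 2, 2], [3, 3, 3, 3, 2, 2, 2, 2])) (BT.leaf (30, [1, 1, 3, 1, 3, 1, 3, 1, 3, 1, 3, 1, 3, 1, 3, 0, 2, 0, 2, 0, 2, 0, 2, 0, 2, 0, 2, 0, 2, 0], [1, 3, 1, 3, 1, 3, 1, 3, 1,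 3, 1, 3, 1, 3, 1, 2, 0, 2, 0, 2, 0, 2, 0, 2, 0, 2, 0, 2, 0, 0]))) (BT.leaf (30, [3, 1, 3, 1, 3, 1, 3, 1, 3, 1, 3, 1, 3, 1, 3, 2, 2, 0, 2, 0, 2, 0, 2, 0, 2, 0, 2, 0, 2, 0], [1, 3, 1, 3, 1, 3, 1, 3, 1, 3, 1, 3, 1, 3, 3, 2, 0, 2, 0, 2, 0, 2, 0, 2, 0, 2, 0, 2, 0, 2])))) (BT.node 8 (BT.node 7 (BT.node 6 (BT.leaf (14, [1, 1, 1, 3, 0, 0, 2, 0, 3, 1, 1, 2, 0, 0], [1, 1, 3, 0, 0, 2, 1, 3, 1, 1, 2, 0, 0, 0])) (BT.leaf (14, [3, 1, 1, 3, 0, 0, 2, 2, 3, 1, 1, 2, 0, 0], [1, 1, 3, 0, 0, 2, 3, 3, 1, 1, 2, 0, 0, 2]))) (BT.leaf (38, [1, 1, 3, 0, 2, 1, 3, 0, 2, 1, 3, 0, 2, 1, 3, 0, 2, 1, 1, 0, 0, 0, 3, 1, 2, 0, 3, 1, 2, 0, 3, 1, 2, 0, 3, 1, 2, 0], [1, 3, 0, 2, 1, 3, 0, 2, 1, 3, 0, 2, 1, 3, 0, 2, 1, 1, 1, 0, 0, 3, 1, 2, 0, 3, 1, 2, 0, 3, 1, 2, 0, 3, 1, 2, 0, 0]))) (BT.node 10 (BT.node 9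 (BT.leaf (38, [3, 1, 3, 0, 2, 1, 3, 0, 2, 1, 3, 0, 2, 1, 3, 0, 2, 1, 1, 2, 0, 0, 3, 1, 2, 0, 3, 1, 2, 0, 3, 1, 2, 0, 3, 1, 2, 0], [1, 3, 0, 2, 1, 3, 0, 2, 1, 3, 0, 2, 1, 3, 0, 2, 1, 1, 3, 0, 0, 3, 1, 2, 0, 3, 1, 2, 0, 3, 1, 2, 0, 3, 1, 2, 0, 2])) (BT.leaf (83, [2, 0, 2, 0, 2, 0, 2, 0, 2, 0, 2, 0, 2, 0, 2, 0, 2, 0, 2, 0, 2, 0, 2, 0, 2, 0, 2, 0, 2, 0, 2, 0, 2, 0, 2, 0, 2, 0, 2, 0, 2, 0, 1, 1, 1, 1, 1, 1, 1, 1, 1, 1, 1, 1, 1, 1, 1, 1, 1, 1, 1, 1, 3, 3, 3, 3, 3, 3, 3, 3, 3, 3, 3, 3, 3, 3, 3, 3, 3, 3, 3, 3, 3], [2, 2, 2, 2, 2, 2, 2, 2, 2, 2, 2, 2, 2, 2, 2, 2, 2, 2, 2, 2, 2, 0, 0, 0, 0, 0, 0, 0, 0, 0, 0, 0, 0, 0, 0, 0, 0, 0, 0, 0, 0, 1, 3, 1, 3, 1, 3, 1, 3, 1, 3, 1, 3, 1, 3, 1, 3, 1, 3, 1, 3, 1, 3, 1, 3, 1, 3, 1, 3, 1, 3, 1, 3, 1, 3, 1, 3, 1, 3, 1, 3, 1, 3]))) (BT.leaf (73,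 [0, 0, 3, 1, 2, 0, 3, 1, 2, 0, 3, 1, 2, 0, 3, 1, 2, 0, 1, 3, 1, 3, 1, 3, 1, 3, 1, 3, 1, 3, 1, 3, 1, 3, 1, 3, 1, 3, 1, 3, 1, 3, 1, 3, 1, 3, 0, 0, 0, 0, 0, 0, 0, 0, 0, 0, 0, 0, 2, 2, 2, 2, 2, 2, 2, 2, 2, 2, 2, 2, 2, 2, 2], [3, 3, 3, 3, 3, 3, 3, 3, 3, 3, 3, 3, 3, 3, 3, 1, 1, 1, 1, 1, 1, 1, 1, 1, 1, 1, 1, 2, 0, 2, 0, 2, 0, 2, 0, 2, 0, 2, 0, 2, 0, 2, 0, 2, 0, 2, 0, 2, 0, 2, 0, 2, 0, 2, 0, 1, 3, 0, 2, 1, 3, 0, 2, 1, 3, 0, 2, 1, 3, 0, 2, 1, 1])))))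
/-- subgroup generators -/
def subT : BT (ℕ × List ℕ × List ℕ) := (BT.leaf (0, [], []))
/-- fact chunks -/
def colET : BT ℕ := (BT.node 49 (BT.node 24 (BT.node 12 (BT.node 6 (BT.node 3 (BT.node 1 (BT.node 0 (BT.leaf cE0) (BT.leaf cE1)) (BT.node 2 (BT.leaf cE2) (BT.leaf cE3))) (BT.node 5 (BT.node 4 (BT.leaf cE4) (BT.leaf cE5)) (BT.leaf cE6))) (BT.node 9 (BT.node 8 (BT.node 7 (BT.leaf cE7) (BT.leaf cE8)) (BT.leaf cE9)) (BT.node 11 (BT.node 10 (BT.leaf cE10) (BT.leaf cE11)) (BT.leaf cE12)))) (BT.node 18 (BT.node 15 (BT.node 14 (BT.node 13 (BT.leaf cE13) (BT.leaf cE14)) (BT.leaf cE15)) (BT.node 17 (BT.node 16 (BT.leaf cE16) (BT.leaf cE17)) (BT.leaf cE18))) (BT.node 21 (BT.node 20 (BT.node 19 (BT.leaf cE19) (BT.leaf cE20)) (BT.leaf cE21)) (BT.node 23 (BT.node 22 (BT.leaf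 cE22) (BT.leaf cE23)) (BT.leaf cE24))))) (BT.node 37 (BT.node 31 (BT.node 28 (BT.node 26 (BT.node 25 (BT.leaf cE25) (BT.leaf cE26)) (BT.node 27 (BT.leaf cE27) (BT.leaf cE28))) (BT.node 30 (BT.node 29 (BT.leaf cE29) (BT.leaf cE30)) (BT.leaf cE31))) (BT.node 34 (BT.node 33 (BT.node 32 (BT.leaf cE32) (BT.leaf cE33)) (BT.leaf cE34)) (BT.node 36 (BT.node 35 (BT.leaf cE35) (BT.leaf cE36)) (BT.leaf cE37)))) (BT.node 43 (BT.node 40 (BT.node 39 (BT.node 38 (BT.leaf cE38) (BT.leaf cE39)) (BT.leaf cE40)) (BT.node 42 (BT.node 41 (BT.leaf cE41) (BT.leaf cE42)) (BT.leaf cE43))) (BT.node 46 (BT.node 45 (BT.node 44 (BT.leaf cE44) (BT.leaf cE45)) (BT.leaf cE46)) (BT.node 48 (BT.node 47 (BT.leaf cE47) (BT.leaf cE48)) (BT.leaf cE49)))))) (BT.node 74 (BT.node 62 (BT.node 56 (BT.node 53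 (BT.node 51 (BT.node 50 (BT.leaf cE50) (BT.leaf cE51)) (BT.node 52 (BT.leaf cE52) (BT.leaf cE53))) (BT.node 55 (BT.node 54 (BT.leaf cE54) (BT.leaf cE55)) (BT.leaf cE56))) (BT.node 59 (BT.node 58 (BT.node 57 (BT.leaf cE57) (BT.leaf cE58)) (BT.leaf cE59)) (BT.node 61 (BT.node 60 (BT.leaf cE60) (BT.leaf cE61)) (BT.leaf cE62)))) (BT.node 68 (BT.node 65 (BT.node 64 (BT.node 63 (BT.leaf cE63) (BT.leaf cE64)) (BT.leaf cE65)) (BT.node 67 (BT.node 66 (BT.leaf cE66) (BT.leaf cE67)) (BT.leaf cE68))) (BT.node 71 (BT.node 70 (BT.node 69 (BT.leaf cE69) (BT.leaf cE70)) (BT.leaf cE71)) (BT.node 73 (BT.node 72 (BT.leaf cE72) (BT.leaf cE73)) (BT.leaf cE74))))) (BT.node 87 (BT.node 81 (BT.node 78 (BT.node 76 (BT.node 75 (BT.leaf cE75) (BT.leaf cE76)) (BT.node 77 (BT.leaf cE77) (BT.leaf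 cE78))) (BT.node 80 (BT.node 79 (BT.leaf cE79) (BT.leaf cE80)) (BT.leaf cE81))) (BT.node 84 (BT.node 83 (BT.node 82 (BT.leaf cE82) (BT.leaf cE83)) (BT.leaf cE84)) (BT.node 86 (BT.node 85 (BT.leaf cE85) (BT.leaf cE86)) (BT.leaf cE87)))) (BT.node 93 (BT.node 90 (BT.node 89 (BT.node 88 (BT.leaf cE88) (BT.leaf cE89)) (BT.leaf cE90)) (BT.node 92 (BT.node 91 (BT.leaf cE91) (BT.leaf cE92)) (BT.leaf cE93))) (BT.node 96 (BT.node 95 (BT.node 94 (BT.leaf cE94) (BT.leaf cE95)) (BT.leaf cE96)) (BT.node 98 (BT.node 97 (BT.leaf cE97) (BT.leaf cE98)) (BT.leaf cE99)))))))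
/-- justification chunks -/
def colJT : BT ℕ := (BT.node 49 (BT.node 24 (BT.node 12 (BT.node 6 (BT.node 3 (BT.node 1 (BT.node 0 (BT.leaf cJ0) (BT.leaf cJ1)) (BT.node 2 (BT.leaf cJ2) (BT.leaf cJ3))) (BT.node 5 (BT.node 4 (BT.leaf cJ4) (BT.leaf cJ5)) (BT.leaf cJ6))) (BT.node 9 (BT.node 8 (BT.node 7 (BT.leaf cJ7) (BT.leaf cJ8)) (BT.leaf cJ9)) (BT.node 11 (BT.node 10 (BT.leaf cJ10) (BT.leaf cJ11)) (BT.leaf cJ12)))) (BT.node 18 (BT.node 15 (BT.node 14 (BT.node 13 (BT.leaf cJ13) (BT.leaf cJ14)) (BT.leaf cJ15)) (BT.node 17 (BT.node 16 (BT.leaf cJ16) (BT.leaf cJ17)) (BT.leaf cJ18))) (BT.node 21 (BT.node 20 (BT.node 19 (BT.leaf cJ19) (BT.leaf cJ20)) (BT.leaf cJ21)) (BT.node 23 (BT.node 22 (BT.leaf cJ22) (BT.leaf cJ23)) (BT.leaf cJ24))))) (BT.node 37 (BT.node 31 (BT.node 28 (BT.node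 26 (BT.node 25 (BT.leaf cJ25) (BT.leaf cJ26)) (BT.node 27 (BT.leaf cJ27) (BT.leaf cJ28))) (BT.node 30 (BT.node 29 (BT.leaf cJ29) (BT.leaf cJ30)) (BT.leaf cJ31))) (BT.node 34 (BT.node 33 (BT.node 32 (BT.leaf cJ32) (BT.leaf cJ33)) (BT.leaf cJ34)) (BT.node 36 (BT.node 35 (BT.leaf cJ35) (BT.leaf cJ36)) (BT.leaf cJ37)))) (BT.node 43 (BT.node 40 (BT.node 39 (BT.node 38 (BT.leaf cJ38) (BT.leaf cJ39)) (BT.leaf cJ40)) (BT.node 42 (BT.node 41 (BT.leaf cJ41) (BT.leaf cJ42)) (BT.leaf cJ43))) (BT.node 46 (BT.node 45 (BT.node 44 (BT.leaf cJ44) (BT.leaf cJ45)) (BT.leaf cJ46)) (BT.node 48 (BT.node 47 (BT.leaf cJ47) (BT.leaf cJ48)) (BT.leaf cJ49)))))) (BT.node 74 (BT.node 62 (BT.node 56 (BT.node 53 (BT.node 51 (BT.node 50 (BT.leaf cJ50) (BT.leaf cJ51)) (BT.node 52 (BT.leaf cJ52) (BT.leaf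 cJ53))) (BT.node 55 (BT.node 54 (BT.leaf cJ54) (BT.leaf cJ55)) (BT.leaf cJ56))) (BT.node 59 (BT.node 58 (BT.node 57 (BT.leaf cJ57) (BT.leaf cJ58)) (BT.leaf cJ59)) (BT.node 61 (BT.node 60 (BT.leaf cJ60) (BT.leaf cJ61)) (BT.leaf cJ62)))) (BT.node 68 (BT.node 65 (BT.node 64 (BT.node 63 (BT.leaf cJ63) (BT.leaf cJ64)) (BT.leaf cJ65)) (BT.node 67 (BT.node 66 (BT.leaf cJ66) (BT.leaf cJ67)) (BT.leaf cJ68))) (BT.node 71 (BT.node 70 (BT.node 69 (BT.leaf cJ69) (BT.leaf cJ70)) (BT.leaf cJ71)) (BT.node 73 (BT.node 72 (BT.leaf cJ72) (BT.leaf cJ73)) (BT.leaf cJ74))))) (BT.node 87 (BT.node 81 (BT.node 78 (BT.node 76 (BT.node 75 (BT.leaf cJ75) (BT.leaf cJ76)) (BT.node 77 (BT.leaf cJ77) (BT.leaf cJ78))) (BT.node 80 (BT.node 79 (BT.leaf cJ79) (BT.leaf cJ80)) (BT.leaf cJ81))) (BT.node 84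 (BT.node 83 (BT.node 82 (BT.leaf cJ82) (BT.leaf cJ83)) (BT.leaf cJ84)) (BT.node 86 (BT.node 85 (BT.leaf cJ85) (BT.leaf cJ86)) (BT.leaf cJ87)))) (BT.node 93 (BT.node 90 (BT.node 89 (BT.node 88 (BT.leaf cJ88) (BT.leaf cJ89)) (BT.leaf cJ90)) (BT.node 92 (BT.node 91 (BT.leaf cJ91) (BT.leaf cJ92)) (BT.leaf cJ93))) (BT.node 96 (BT.node 95 (BT.node 94 (BT.leaf cJ94) (BT.leaf cJ95)) (BT.leaf cJ96)) (BT.node 98 (BT.node 97 (BT.leaf cJ97) (BT.leaf cJ98)) (BT.leaf cJ99)))))))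
/-- parent chunks -/
def parCT : BT ℕ := (BT.node 9 (BT.node 4 (BT.node 2 (BT.node 1 (BT.node 0 (BT.leaf cP0) (BT.leaf cP1)) (BT.leaf cP2)) (BT.node 3 (BT.leaf cP3) (BT.leaf cP4))) (BT.node 7 (BT.node 6 (BT.node 5 (BT.leaf cP5) (BT.leaf cP6)) (BT.leaf cP7)) (BT.node 8 (BT.leaf cP8) (BT.leaf cP9)))) (BT.node 14 (BT.node 12 (BT.node 11 (BT.node 10 (BT.leaf cP10) (BT.leaf cP11)) (BT.leaf cP12)) (BT.node 13 (BT.leaf cP13) (BT.leaf cP14))) (BT.node 17 (BT.node 16 (BT.node 15 (BT.leaf cP15) (BT.leaf cP16)) (BT.leaf cP17)) (BT.node 18 (BT.leaf cP18) (BT.leaf cP19)))))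
/-- the certificate -/
def data : Data where
  k := 4
  N := 9797
  W := 29
  MW := 536870912
  B := 16384
  CH := 512
  NCH := 20
  colE := colET
  JW := 64
  MJ := 18446744073709551616
  A := 1048576
  colJ := colJT
  PW := 24
  MP := 16777216
  parC := parCT
  inv := (BT.node 2 (BT.node 1 (BT.node 0 (BT.leaf 1) (BT.leaf 0)) (BT.leaf 3)) (BT.node 3 (BT.leaf 2) (BT.leaf 4)))
  rel := relT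
  sub := subT
  fuel := 64

end Cfsg.Agent.Lib.Helper16.McLM.E1Data
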