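import Cfsg.Agent.Lib.Helper3.Cover.Basic
set_option autoImplicit false
set_option maxRecDepth 100000

namespace Cfsg.Agent.Lib.Helper16.McLM.E2Def

/-- the generators -/
inductive Gen
  | a
  | b
  | c
  deriving DecidableEq

instance : Fintype Gen := ⟨⟨(([Gen.a, Gen.b, Gen.c] : List Gen) : Multiset Gen), by decide⟩, by intro x; cases x <;> decide⟩

open Cfsg.Agent.Lib.Helper3.Cover

/-- the relators of the group -/
def R : List (List (Gen × Bool)) := [
  [(.a, true), (.a, true), (.a, true), (.a, true)],
  [(.b, true), (.b, true), (.b, true)],
  [(.a, true), (.b, true), (.a, true), (.b, true), (.a, true), (.b, true), (.a, true), (.b, true), (.a, true), (.b, true), (.a, true), (.b, true), (.a, true), (.b, true)],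
  [(.a, true), (.a, true), (.b, true), (.a, false), (.a, false), (.b, false)],
  [(.a, true), (.b, true), (.a, false), (.b, false), (.a, true), (.b, true), (.a, false), (.b, false), (.a, true), (.b, true), (.a, false), (.b, false), (.a, true), (.b, true), (.a, false), (.b, false), (.a, true), (.a, true)],
  [(.b, true), (.b, true), (.b, true)],
  [(.c, true), (.a, false), (.a, false), (.c, false), (.a, false), (.a, false)],
  [(.c, true), (.a, true), (.a, true), (.c, false), (.a, false), (.a, false)],
  [(.c, true), (.c, true), (.c, true), (.c, true), (.c, true), (.c, true), (.c, true)],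
  [(.c, false), (.b, false), (.a, false), (.a, false), (.b, true), (.c, true), (.a, false), (.a, false)],
  [(.c, false), (.b, false), (.a, true), (.a, true), (.b, true), (.c, true), (.a, false), (.a, false)],
  [(.c, false), (.a, false), (.c, true), (.a, false), (.b, false), (.a, false), (.b, true), (.a, false)],
  [(.c, false), (.a, true), (.c, true), (.a, true), (.b, false), (.a, false), (.b, true), (.a, false)],
  [(.c, false), (.b, true), (.a, false), (.a, false), (.b, false), (.c, true), (.a, false), (.a, false)],
  [(.c, false), (.b, true), (.a, true), (.a, true), (.b, false), (.c, true), (.a, false), (.a, false)],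
  [(.b, true), (.a, true), (.c, false), (.a, true), (.c, true), (.a, false), (.b, false), (.a, false)],
  [(.c, true), (.b, false), (.a, false), (.a, false), (.b, true), (.c, false), (.a, false), (.a, false)],
  [(.c, true), (.b, false), (.a, true), (.a, true), (.b, true), (.c, false), (.a, false), (.a, false)],
  [(.c, true), (.b, true), (.a, false), (.a, false), (.b, false), (.c, false), (.a, false), (.a, false)],
  [(.c, true), (.b, true), (.a, true), (.a, true), (.b, false), (.c, false), (.a, false), (.a, false)],
  [(.c, true), (.c, true), (.a, false), (.a, false), (.c, false), (.c, false), (.a, false), (.a, false)],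
  [(.c, true), (.c, true), (.a, true), (.a, true), (.c, false), (.c, false), (.a, false), (.a, false)],
  [(.b, true), (.a, true), (.b, true), (.a, true), (.c, false), (.a, false), (.c, true), (.a, false), (.b, true)],
  [(.c, false), (.b, false), (.c, false), (.b, false), (.c, false), (.b, false), (.c, false), (.b, false), (.a, false), (.a, false)],
  [(.c, false), (.b, false), (.a, true), (.c, true), (.b, true), (.a, false), (.c, false), (.b, true), (.c, true), (.b, true)],
  [(.c, false), (.b, false), (.c, true), (.a, false), (.a, false), (.c, false), (.b, true), (.c, true), (.a, false), (.a, false)],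
  [(.c, false), (.b, false), (.c, true), (.a, true), (.a, true), (.c, false), (.b, true), (.c, true), (.a, false), (.a, false)],
  [(.c, true), (.b, false), (.c, false), (.b, false), (.c, true), (.a, false), (.b, false), (.c, false), (.a, true), (.b, true)],
  [(.c, true), (.b, false), (.a, true), (.b, true), (.c, false), (.c, false), (.b, false), (.c, false), (.b, false), (.a, true)],
  [(.c, true), (.a, true), (.c, false), (.c, false), (.b, false), (.c, true), (.a, false), (.c, false), (.c, false), (.b, false)],
  [(.c, true), (.a, true), (.c, false), (.a, false), (.a, false), (.c, true), (.a, false), (.c, false), (.a, false), (.a, false)],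
  [(.c, true), (.a, true), (.c, false), (.a, true), (.a, true), (.c, true), (.a, false), (.c, false), (.a, false), (.a, false)],
  [(.c, true), (.a, true), (.b, true), (.a, false), (.a, false), (.b, false), (.a, false), (.c, false), (.a, false), (.a, false)],
  [(.c, true), (.a, true), (.b, true), (.a, true), (.a, true), (.b, false), (.a, false), (.c, false), (.a, false), (.a, false)],
  [(.c, true), (.a, true), (.b, true), (.c, true), (.b, true), (.c, true), (.a, false), (.b, true), (.c, true), (.b, true)] ]

/-- the normalising word of `a` -/
def nrm_a : List (Gen × Bool) := combWord [(R.getD 1 [], -7), (R.getD 0 [], -5), (R.getD 2 [], 3)]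
/-- the normalising word of `b` -/
def nrm_b : List (Gen × Bool) := combWord [(R.getD 1 [], 5), (R.getD 0 [], 3), (R.getD 2 [], -2), (R.getD 4 [], 1)]
/-- the normalising word of `c` -/
def nrm_c : List (Gen × Bool) := combWord [(R.getD 1 [], 2), (R.getD 8 [], 1), (R.getD 29 [], 3)]

/-- the normalising words -/
def nrm : Gen → List (Gen × Bool)
  | .a => nrm_a
  | .b => nrm_b
  | .c => nrm_c

theorem hR : ∀ L ∈ R, PresentedGroup.mk (relSet R) (FreeGroup.mk L) = 1 :=
  fun L hL => PresentedGroup.one_of_mem ⟨L, hL, rfl⟩

theorem hn_a : PresentedGroup.mk (relSet R) (FreeGroup.mk nrm_a) = 1 :=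
  map_combWord_eq_one _ _ (by
    intro p hp
    simp only [List.mem_cons, List.not_mem_nil, or_false] at hp
    rcases hp with rfl | rfl | rfl
    · exact hR _ (by decide)
    · exact hR _ (by decide)
    · exact hR _ (by decide))

theorem hn_b : PresentedGroup.mk (relSet R) (FreeGroup.mk nrm_b) = 1 :=
  map_combWord_eq_one _ _ (by
    intro p hp
    simp only [List.mem_cons, List.not_mem_nil, or_false] at hp
    rcases hp with rfl | rfl | rfl | rfl
    · exact hR _ (by decide)
    · exact hR _ (by decide)
    · exact hR _ (by decide)
    · exact hR _ (by decide))

theorem hn_c : PresentedGroup.mk (relSet R) (FreeGroup.mk nrm_c) = 1 :=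
  map_combWord_eq_one _ _ (by
    intro p hp
    simp only [List.mem_cons, List.not_mem_nil, or_false] at hp
    rcases hp with rfl | rfl | rfl
    · exact hR _ (by decide)
    · exact hR _ (by decide)
    · exact hR _ (by decide))

/-- the covering presentation -/
def cover : CoverData Gen where
  R := R
  gens := [.a, .b, .c]
  nrm := nrm
  norms := [nrm_a, nrm_b, nrm_c]
  hgens := by intro x; cases x <;> decide
  hnorms := by intro x; cases x <;> simp [nrm]
  hnorms' := by
    intro L hL
    simp only [List.mem_cons, List.not_mem_nil, or_false] at hL
    rcases hL with rfl | rfl | rfl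
    · exact ⟨.a, rfl⟩
    · exact ⟨.b, rfl⟩
    · exact ⟨.c, rfl⟩
  hnrm := by
    intro x
    cases x
    · exact hn_a
    · exact hn_b
    · exact hn_c
  hexp := by intro x y; cases x <;> cases y <;> decide +kernel

/-- the relators of the covering group in list form -/
abbrev relWords : List (List (Gen × Bool)) := coverWords cover.R cover.gens cover.norms

end Cfsg.Agent.Lib.Helper16.McLM.E2Def
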