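import Cfsg.Agent.Lib.Helper28.TC2Glue
import Cfsg.Agent.Lib.Helper28.TC2Range
import Cfsg.Agent.Lib.Helper16.McLM.E2Link
import Cfsg.Agent.Lib.Helper16.McLM.E2M0
import Cfsg.Agent.Lib.Helper16.McLM.E2U0

set_option autoImplicit false
set_option maxRecDepth 100000
open Cfsg

namespace Cfsg.Agent.Lib.Helper16.McLM.E2MainU
open Cfsg.Agent.Lib.Helper28.TC2Upper Cfsg.Agent.Lib.Helper28.TC2Lower Cfsg.Agent.Lib.Helper28.TC2Glue Cfsg.Agent.Lib.Helper28.TC2Range
open Cfsg.Agent.Lib.Helper16.McLM.E2Data Cfsg.Agent.Lib.Helper16.McLM.E2Table Cfsg.Agent.Lib.Helper16.McLM.E2Link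

theorem hchk : ∀ v, v < data.N → data.checkNode v = true := by
  intro v hv
  have hv' : v < 5157 := hv
  rcases Nat.lt_or_ge v 994 with h0 | h0
  · exact (data.checkRange_iff 0 994).mp Cfsg.Agent.Lib.Helper16.McLM.E2U0.chk0 v (by omega) (by omega)
  rcases Nat.lt_or_ge v 2356 with h1 | h1
  · exact (data.checkRange_iff 994 1362).mp Cfsg.Agent.Lib.Helper16.McLM.E2U0.chk1 v (by omega) (by omega)
  rcases Nat.lt_or_ge v 3967 with h2 | h2
  · exact (data.checkRange_iff 2356 1611).mp Cfsg.Agent.Lib.Helper16.McLM.E2U0.chk2 v (by omega) (by omega)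
  exact (data.checkRange_iff 3967 1190).mp Cfsg.Agent.Lib.Helper16.McLM.E2U0.chk3 v (by omega) (by omega)

theorem hrows : ∀ v, v < data.N → Data.rowOK data v = true := by
  intro v hv
  have hv' : v < 5157 := hv
  exact (Data.finalRange_iff data 0 5157).mp Cfsg.Agent.Lib.Helper16.McLM.E2M0.fin0 v (by omega) (by omega)

theorem hfin : data.finalOK = true := Data.finalOK_of_rows data Cfsg.Agent.Lib.Helper16.McLM.E2M0.hlive0 (by decide) hrows

theorem pc0 : Data.countFrom data 0 5157 = 120 := Cfsg.Agent.Lib.Helper16.McLM.E2M0.cnt0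

theorem hcount : data.countLive = 120 := by
  rw [Data.countLive_eq]
  exact pc0

/-- the number of cosets is at most `120` -/
theorem mainU : Finite (PresentedGroup rels ⧸ (Subgroup.closure S).map (PresentedGroup.mk rels)) ∧
    Nat.card (PresentedGroup rels ⧸ (Subgroup.closure S).map (PresentedGroup.mk rels)) ≤ 120 := by
  have h := upper link hchk hfin
  rw [hcount] at h
  exact h

end Cfsg.Agent.Lib.Helper16.McLM.E2MainU
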