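import Cfsg.Agent.Lib.Helper28.TC2Range
import Cfsg.Agent.Lib.Helper16.McLM.E3Data
set_option autoImplicit false
set_option maxRecDepth 100000
set_option maxHeartbeats 0

namespace Cfsg.Agent.Lib.Helper16.McLM.E3M8
open Cfsg.Agent.Lib.Helper28.TC2Upper Cfsg.Agent.Lib.Helper28.TC2Lower Cfsg.Agent.Lib.Helper28.TC2Range Cfsg.Agent.Lib.Helper16.McLM.E3Data

theorem cnt14 : Data.countFrom data 84000 6000 = 2309 := by decide +kernel
theorem cnt15 : Data.countFrom data 90000 6000 = 1501 := by decide +kernel
theorem cnt16 : Data.countFrom data 96000 6000 = 1954 := by decide +kernel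
theorem cnt17 : Data.countFrom data 102000 6000 = 1747 := by decide +kernel
theorem cnt18 : Data.countFrom data 108000 6000 = 1374 := by decide +kernel

end Cfsg.Agent.Lib.Helper16.McLM.E3M8
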