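import Cfsg.Agent.Lib.Helper16.McLM.E3Data
set_option autoImplicit false
set_option maxRecDepth 100000
set_option maxHeartbeats 0

namespace Cfsg.Agent.Lib.Helper16.McLM.E3U3
open Cfsg.Agent.Lib.Helper28.TC2Upper Cfsg.Agent.Lib.Helper16.McLM.E3Data

theorem chk15 : data.checkRange 11940 672 = true := by decide +kernel
theorem chk16 : data.checkRange 12612 674 = true := by decide +kernel
theorem chk17 : data.checkRange 13286 684 = true := by decide +kernel
theorem chk18 : data.checkRange 13970 698 = true := by decide +kernel
theorem chk19 : data.checkRange 14668 688 = true := by decide +kernel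

end Cfsg.Agent.Lib.Helper16.McLM.E3U3
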