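import Cfsg.Agent.Lib.Helper16.McLM.E3Data
import Cfsg.Agent.Lib.Helper16.McLM.E3U3
set_option autoImplicit false
set_option maxRecDepth 100000
set_option maxHeartbeats 0

namespace Cfsg.Agent.Lib.Helper16.McLM.E3U13
open Cfsg.Agent.Lib.Helper28.TC2Upper Cfsg.Agent.Lib.Helper16.McLM.E3Data

theorem chk65 : data.checkRange 49775 859 = true := by decide +kernel
theorem chk66 : data.checkRange 50634 879 = true := by decide +kernel
theorem chk67 : data.checkRange 51513 889 = true := by decide +kernel
theorem chk68 : data.checkRange 52402 901 = true := by decide +kernel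
theorem chk69 : data.checkRange 53303 899 = true := by decide +kernel

end Cfsg.Agent.Lib.Helper16.McLM.E3U13
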