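import Cfsg.Agent.Lib.Helper16.McLM.E3Data
import Cfsg.Agent.Lib.Helper16.McLM.E3U4
set_option autoImplicit false
set_option maxRecDepth 100000
set_option maxHeartbeats 0

namespace Cfsg.Agent.Lib.Helper16.McLM.E3U14
open Cfsg.Agent.Lib.Helper28.TC2Upper Cfsg.Agent.Lib.Helper16.McLM.E3Data

theorem chk70 : data.checkRange 54202 885 = true := by decide +kernel
theorem chk71 : data.checkRange 55087 875 = true := by decide +kernel
theorem chk72 : data.checkRange 55962 887 = true := by decide +kernel
theorem chk73 : data.checkRange 56849 891 = true := by decide +kernel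
theorem chk74 : data.checkRange 57740 914 = true := by decide +kernel

end Cfsg.Agent.Lib.Helper16.McLM.E3U14
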