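import Cfsg.Agent.Lib.Helper16.McLM.E3Data
import Cfsg.Agent.Lib.Helper16.McLM.E3U5
set_option autoImplicit false
set_option maxRecDepth 100000
set_option maxHeartbeats 0

namespace Cfsg.Agent.Lib.Helper16.McLM.E3U15
open Cfsg.Agent.Lib.Helper28.TC2Upper Cfsg.Agent.Lib.Helper16.McLM.E3Data

theorem chk75 : data.checkRange 58654 1013 = true := by decide +kernel
theorem chk76 : data.checkRange 59667 959 = true := by decide +kernel
theorem chk77 : data.checkRange 60626 1034 = true := by decide +kernel
theorem chk78 : data.checkRange 61660 1018 = true := by decide +kernel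
theorem chk79 : data.checkRange 62678 957 = true := by decide +kernel

end Cfsg.Agent.Lib.Helper16.McLM.E3U15
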