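import Cfsg.Agent.Lib.Helper16.McLM.E3Data
set_option autoImplicit false
set_option maxRecDepth 100000
set_option maxHeartbeats 0

namespace Cfsg.Agent.Lib.Helper16.McLM.E3U6
open Cfsg.Agent.Lib.Helper28.TC2Upper Cfsg.Agent.Lib.Helper16.McLM.E3Data

theorem chk30 : data.checkRange 22408 690 = true := by decide +kernel
theorem chk31 : data.checkRange 23098 706 = true := by decide +kernel
theorem chk32 : data.checkRange 23804 720 = true := by decide +kernel
theorem chk33 : data.checkRange 24524 704 = true := by decide +kernel
theorem chk34 : data.checkRange 25228 701 = true := by decide +kernel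

end Cfsg.Agent.Lib.Helper16.McLM.E3U6
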