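import Cfsg.Agent.Lib.Helper16.McLM.E3Data
import Cfsg.Agent.Lib.Helper16.McLM.E3U6
set_option autoImplicit false
set_option maxRecDepth 100000
set_option maxHeartbeats 0

namespace Cfsg.Agent.Lib.Helper16.McLM.E3U16
open Cfsg.Agent.Lib.Helper28.TC2Upper Cfsg.Agent.Lib.Helper16.McLM.E3Data

theorem chk80 : data.checkRange 63635 811 = true := by decide +kernel
theorem chk81 : data.checkRange 64446 970 = true := by decide +kernel
theorem chk82 : data.checkRange 65416 930 = true := by decide +kernel
theorem chk83 : data.checkRange 66346 1023 = true := by decide +kernel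
theorem chk84 : data.checkRange 67369 961 = true := by decide +kernel

end Cfsg.Agent.Lib.Helper16.McLM.E3U16
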