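import Cfsg.Agent.Lib.Helper16.McLM.E3Data
import Cfsg.Agent.Lib.Helper16.McLM.E3U7
set_option autoImplicit false
set_option maxRecDepth 100000
set_option maxHeartbeats 0

namespace Cfsg.Agent.Lib.Helper16.McLM.E3U17
open Cfsg.Agent.Lib.Helper28.TC2Upper Cfsg.Agent.Lib.Helper16.McLM.E3Data

theorem chk85 : data.checkRange 68330 1024 = true := by decide +kernel
theorem chk86 : data.checkRange 69354 941 = true := by decide +kernel
theorem chk87 : data.checkRange 70295 880 = true := by decide +kernel
theorem chk88 : data.checkRange 71175 885 = true := by decide +kernel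
theorem chk89 : data.checkRange 72060 861 = true := by decide +kernel

end Cfsg.Agent.Lib.Helper16.McLM.E3U17
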