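import Cfsg.Agent.Lib.Helper16.McLM.E3Data
import Cfsg.Agent.Lib.Helper16.McLM.E3U10
set_option autoImplicit false
set_option maxRecDepth 100000
set_option maxHeartbeats 0

namespace Cfsg.Agent.Lib.Helper16.McLM.E3U20
open Cfsg.Agent.Lib.Helper28.TC2Upper Cfsg.Agent.Lib.Helper16.McLM.E3Data

theorem chk100 : data.checkRange 82276 954 = true := by decide +kernel
theorem chk101 : data.checkRange 83230 1054 = true := by decide +kernel
theorem chk102 : data.checkRange 84284 1042 = true := by decide +kernel
theorem chk103 : data.checkRange 85326 1092 = true := by decide +kernel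
theorem chk104 : data.checkRange 86418 950 = true := by decide +kernel

end Cfsg.Agent.Lib.Helper16.McLM.E3U20
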