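import Cfsg.Agent.Lib.Helper16.McLM.E3Data
import Cfsg.Agent.Lib.Helper16.McLM.E3U12
set_option autoImplicit false
set_option maxRecDepth 100000
set_option maxHeartbeats 0

namespace Cfsg.Agent.Lib.Helper16.McLM.E3U22
open Cfsg.Agent.Lib.Helper28.TC2Upper Cfsg.Agent.Lib.Helper16.McLM.E3Data

theorem chk110 : data.checkRange 92197 1138 = true := by decide +kernel
theorem chk111 : data.checkRange 93335 1065 = true := by decide +kernel
theorem chk112 : data.checkRange 94400 1086 = true := by decide +kernel
theorem chk113 : data.checkRange 95486 994 = true := by decide +kernel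
theorem chk114 : data.checkRange 96480 1076 = true := by decide +kernel

end Cfsg.Agent.Lib.Helper16.McLM.E3U22
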