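import Cfsg.Agent.Lib.Helper16.McLM.E3Data
import Cfsg.Agent.Lib.Helper16.McLM.E3U14
set_option autoImplicit false
set_option maxRecDepth 100000
set_option maxHeartbeats 0

namespace Cfsg.Agent.Lib.Helper16.McLM.E3U24
open Cfsg.Agent.Lib.Helper28.TC2Upper Cfsg.Agent.Lib.Helper16.McLM.E3Data

theorem chk120 : data.checkRange 102701 1031 = true := by decide +kernel
theorem chk121 : data.checkRange 103732 1101 = true := by decide +kernel
theorem chk122 : data.checkRange 104833 1077 = true := by decide +kernel
theorem chk123 : data.checkRange 105910 1034 = true := by decide +kernel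
theorem chk124 : data.checkRange 106944 1206 = true := by decide +kernel

end Cfsg.Agent.Lib.Helper16.McLM.E3U24
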