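import Cfsg.Agent.Lib.Helper16.McLM.E3Data
import Cfsg.Agent.Lib.Helper16.McLM.E3U16
set_option autoImplicit false
set_option maxRecDepth 100000
set_option maxHeartbeats 0

namespace Cfsg.Agent.Lib.Helper16.McLM.E3U26
open Cfsg.Agent.Lib.Helper28.TC2Upper Cfsg.Agent.Lib.Helper16.McLM.E3Data

theorem chk130 : data.checkRange 113508 1099 = true := by decide +kernel
theorem chk131 : data.checkRange 114607 1183 = true := by decide +kernel
theorem chk132 : data.checkRange 115790 1222 = true := by decide +kernel
theorem chk133 : data.checkRange 117012 1075 = true := by decide +kernel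
theorem chk134 : data.checkRange 118087 1158 = true := by decide +kernel

end Cfsg.Agent.Lib.Helper16.McLM.E3U26
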