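import Cfsg.Agent.Lib.Helper16.McLM.E3Data
import Cfsg.Agent.Lib.Helper16.McLM.E3U17
set_option autoImplicit false
set_option maxRecDepth 100000
set_option maxHeartbeats 0

namespace Cfsg.Agent.Lib.Helper16.McLM.E3U27
open Cfsg.Agent.Lib.Helper28.TC2Upper Cfsg.Agent.Lib.Helper16.McLM.E3Data

theorem chk135 : data.checkRange 119245 1138 = true := by decide +kernel
theorem chk136 : data.checkRange 120383 1179 = true := by decide +kernel
theorem chk137 : data.checkRange 121562 1120 = true := by decide +kernel
theorem chk138 : data.checkRange 122682 1153 = true := by decide +kernel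
theorem chk139 : data.checkRange 123835 1174 = true := by decide +kernel

end Cfsg.Agent.Lib.Helper16.McLM.E3U27
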