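import Cfsg.Agent.Lib.Helper16.McLM.E3Data
import Cfsg.Agent.Lib.Helper16.McLM.E3U18
set_option autoImplicit false
set_option maxRecDepth 100000
set_option maxHeartbeats 0

namespace Cfsg.Agent.Lib.Helper16.McLM.E3U28
open Cfsg.Agent.Lib.Helper28.TC2Upper Cfsg.Agent.Lib.Helper16.McLM.E3Data

theorem chk140 : data.checkRange 125009 1155 = true := by decide +kernel
theorem chk141 : data.checkRange 126164 1189 = true := by decide +kernel
theorem chk142 : data.checkRange 127353 1193 = true := by decide +kernel
theorem chk143 : data.checkRange 128546 1251 = true := by decide +kernel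
theorem chk144 : data.checkRange 129797 1127 = true := by decide +kernel

end Cfsg.Agent.Lib.Helper16.McLM.E3U28
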