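import Cfsg.Agent.Lib.Helper16.McLM.E3Data
import Cfsg.Agent.Lib.Helper16.McLM.E3U19
set_option autoImplicit false
set_option maxRecDepth 100000
set_option maxHeartbeats 0

namespace Cfsg.Agent.Lib.Helper16.McLM.E3U29
open Cfsg.Agent.Lib.Helper28.TC2Upper Cfsg.Agent.Lib.Helper16.McLM.E3Data

theorem chk145 : data.checkRange 130924 1089 = true := by decide +kernel
theorem chk146 : data.checkRange 132013 1053 = true := by decide +kernel
theorem chk147 : data.checkRange 133066 1115 = true := by decide +kernel
theorem chk148 : data.checkRange 134181 1197 = true := by decide +kernel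
theorem chk149 : data.checkRange 135378 1158 = true := by decide +kernel

end Cfsg.Agent.Lib.Helper16.McLM.E3U29
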