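import Cfsg.Agent.Lib.Helper16.McLM.E3Data
import Cfsg.Agent.Lib.Helper16.McLM.E3U21
set_option autoImplicit false
set_option maxRecDepth 100000
set_option maxHeartbeats 0

namespace Cfsg.Agent.Lib.Helper16.McLM.E3U31
open Cfsg.Agent.Lib.Helper28.TC2Upper Cfsg.Agent.Lib.Helper16.McLM.E3Data

theorem chk155 : data.checkRange 140557 667 = true := by decide +kernel
theorem chk156 : data.checkRange 141224 667 = true := by decide +kernel
theorem chk157 : data.checkRange 141891 667 = true := by decide +kernel
theorem chk158 : data.checkRange 142558 667 = true := by decide +kernel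
theorem chk159 : data.checkRange 143225 667 = true := by decide +kernel

end Cfsg.Agent.Lib.Helper16.McLM.E3U31
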