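import Cfsg.Agent.Lib.Helper16.McLM.E3Data
import Cfsg.Agent.Lib.Helper16.McLM.E3U22
set_option autoImplicit false
set_option maxRecDepth 100000
set_option maxHeartbeats 0

namespace Cfsg.Agent.Lib.Helper16.McLM.E3U32
open Cfsg.Agent.Lib.Helper28.TC2Upper Cfsg.Agent.Lib.Helper16.McLM.E3Data

theorem chk160 : data.checkRange 143892 667 = true := by decide +kernel
theorem chk161 : data.checkRange 144559 667 = true := by decide +kernel
theorem chk162 : data.checkRange 145226 667 = true := by decide +kernel
theorem chk163 : data.checkRange 145893 667 = true := by decide +kernel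
theorem chk164 : data.checkRange 146560 667 = true := by decide +kernel

end Cfsg.Agent.Lib.Helper16.McLM.E3U32
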