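import Cfsg.Agent.Lib.Helper16.McLM.E3Data
import Cfsg.Agent.Lib.Helper16.McLM.E3U13
set_option autoImplicit false
set_option maxRecDepth 100000
set_option maxHeartbeats 0

namespace Cfsg.Agent.Lib.Helper16.McLM.E3U23
open Cfsg.Agent.Lib.Helper28.TC2Upper Cfsg.Agent.Lib.Helper16.McLM.E3Data

theorem chk115 : data.checkRange 97556 1010 = true := by decide +kernel
theorem chk116 : data.checkRange 98566 1006 = true := by decide +kernel
theorem chk117 : data.checkRange 99572 999 = true := by decide +kernel
theorem chk118 : data.checkRange 100571 1004 = true := by decide +kernel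
theorem chk119 : data.checkRange 101575 1126 = true := by decide +kernel

end Cfsg.Agent.Lib.Helper16.McLM.E3U23
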