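import Cfsg.Agent.Lib.Helper16.McLM.E3Data
import Cfsg.Agent.Lib.Helper16.McLM.E3U23
set_option autoImplicit false
set_option maxRecDepth 100000
set_option maxHeartbeats 0

namespace Cfsg.Agent.Lib.Helper16.McLM.E3U33
open Cfsg.Agent.Lib.Helper28.TC2Upper Cfsg.Agent.Lib.Helper16.McLM.E3Data

theorem chk165 : data.checkRange 147227 667 = true := by decide +kernel
theorem chk166 : data.checkRange 147894 496 = true := by decide +kernel

end Cfsg.Agent.Lib.Helper16.McLM.E3U33
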