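import Cfsg.Agent.Lib.Helper28.TC2Glue
import Cfsg.Agent.Lib.Helper28.TC2Range
import Cfsg.Agent.Lib.Helper16.McLM.E3Link
import Cfsg.Agent.Lib.Helper16.McLM.E3M0
import Cfsg.Agent.Lib.Helper16.McLM.E3M1
import Cfsg.Agent.Lib.Helper16.McLM.E3M2
import Cfsg.Agent.Lib.Helper16.McLM.E3M3
import Cfsg.Agent.Lib.Helper16.McLM.E3M4
import Cfsg.Agent.Lib.Helper16.McLM.E3M5
import Cfsg.Agent.Lib.Helper16.McLM.E3M6
import Cfsg.Agent.Lib.Helper16.McLM.E3M7
import Cfsg.Agent.Lib.Helper16.McLM.E3M8
import Cfsg.Agent.Lib.Helper16.McLM.E3M9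
import Cfsg.Agent.Lib.Helper16.McLM.E3M10
import Cfsg.Agent.Lib.Helper16.McLM.E3U0
import Cfsg.Agent.Lib.Helper16.McLM.E3U1
import Cfsg.Agent.Lib.Helper16.McLM.E3U2
import Cfsg.Agent.Lib.Helper16.McLM.E3U3
import Cfsg.Agent.Lib.Helper16.McLM.E3U4
import Cfsg.Agent.Lib.Helper16.McLM.E3U5
import Cfsg.Agent.Lib.Helper16.McLM.E3U6
import Cfsg.Agent.Lib.Helper16.McLM.E3U7
import Cfsg.Agent.Lib.Helper16.McLM.E3U8
import Cfsg.Agent.Lib.Helper16.McLM.E3U9
import Cfsg.Agent.Lib.Helper16.McLM.E3U10
import Cfsg.Agent.Lib.Helper16.McLM.E3U11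
import Cfsg.Agent.Lib.Helper16.McLM.E3U12
import Cfsg.Agent.Lib.Helper16.McLM.E3U13
import Cfsg.Agent.Lib.Helper16.McLM.E3U14
import Cfsg.Agent.Lib.Helper16.McLM.E3U15
import Cfsg.Agent.Lib.Helper16.McLM.E3U16
import Cfsg.Agent.Lib.Helper16.McLM.E3U17
import Cfsg.Agent.Lib.Helper16.McLM.E3U18
import Cfsg.Agent.Lib.Helper16.McLM.E3U19
import Cfsg.Agent.Lib.Helper16.McLM.E3U20
import Cfsg.Agent.Lib.Helper16.McLM.E3U21
import Cfsg.Agent.Lib.Helper16.McLM.E3U22
import Cfsg.Agent.Lib.Helper16.McLM.E3U23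
import Cfsg.Agent.Lib.Helper16.McLM.E3U24
import Cfsg.Agent.Lib.Helper16.McLM.E3U25
import Cfsg.Agent.Lib.Helper16.McLM.E3U26
import Cfsg.Agent.Lib.Helper16.McLM.E3U27
import Cfsg.Agent.Lib.Helper16.McLM.E3U28
import Cfsg.Agent.Lib.Helper16.McLM.E3U29
import Cfsg.Agent.Lib.Helper16.McLM.E3U30
import Cfsg.Agent.Lib.Helper16.McLM.E3U31
import Cfsg.Agent.Lib.Helper16.McLM.E3U32
import Cfsg.Agent.Lib.Helper16.McLM.E3U33

set_option autoImplicit false
set_option maxRecDepth 100000
open Cfsg

namespace Cfsg.Agent.Lib.Helper16.McLM.E3MainU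
open Cfsg.Agent.Lib.Helper28.TC2Upper Cfsg.Agent.Lib.Helper28.TC2Lower Cfsg.Agent.Lib.Helper28.TC2Glue Cfsg.Agent.Lib.Helper28.TC2Range
open Cfsg.Agent.Lib.Helper16.McLM.E3Data Cfsg.Agent.Lib.Helper16.McLM.E3Table Cfsg.Agent.Lib.Helper16.McLM.E3Link

theorem hchk : ∀ v, v < data.N → data.checkNode v = true := by
  intro v hv
  have hv' : v < 148390 := hv
  rcases Nat.lt_or_ge v 755 with h0 | h0
  · exact (data.checkRange_iff 0 755).mp Cfsg.Agent.Lib.Helper16.McLM.E3U0.chk0 v (by omega) (by omega)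
  rcases Nat.lt_or_ge v 1625 with h1 | h1
  · exact (data.checkRange_iff 755 870).mp Cfsg.Agent.Lib.Helper16.McLM.E3U0.chk1 v (by omega) (by omega)
  rcases Nat.lt_or_ge v 2554 with h2 | h2
  · exact (data.checkRange_iff 1625 929).mp Cfsg.Agent.Lib.Helper16.McLM.E3U0.chk2 v (by omega) (by omega)
  rcases Nat.lt_or_ge v 3392 with h3 | h3
  · exact (data.checkRange_iff 2554 838).mp Cfsg.Agent.Lib.Helper16.McLM.E3U0.chk3 v (by omega) (by omega)
  rcases Nat.lt_or_ge v 4311 with h4 | h4
  · exact (data.checkRange_iff 3392 919).mp Cfsg.Agent.Lib.Helper16.McLM.E3U0.chk4 v (by omega) (by omega)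
  rcases Nat.lt_or_ge v 5163 with h5 | h5
  · exact (data.checkRange_iff 4311 852).mp Cfsg.Agent.Lib.Helper16.McLM.E3U1.chk5 v (by omega) (by omega)
  rcases Nat.lt_or_ge v 6048 with h6 | h6
  · exact (data.checkRange_iff 5163 885).mp Cfsg.Agent.Lib.Helper16.McLM.E3U1.chk6 v (by omega) (by omega)
  rcases Nat.lt_or_ge v 6897 with h7 | h7
  · exact (data.checkRange_iff 6048 849).mp Cfsg.Agent.Lib.Helper16.McLM.E3U1.chk7 v (by omega) (by omega)
  rcases Nat.lt_or_ge v 7742 with h8 | h8
  · exact (data.checkRange_iff 6897 845).mp Cfsg.Agent.Lib.Helper16.McLM.E3U1.chk8 v (by omega) (by omega)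
  rcases Nat.lt_or_ge v 8561 with h9 | h9
  · exact (data.checkRange_iff 7742 819).mp Cfsg.Agent.Lib.Helper16.McLM.E3U1.chk9 v (by omega) (by omega)
  rcases Nat.lt_or_ge v 9231 with h10 | h10
  · exact (data.checkRange_iff 8561 670).mp Cfsg.Agent.Lib.Helper16.McLM.E3U2.chk10 v (by omega) (by omega)
  rcases Nat.lt_or_ge v 9911 with h11 | h11
  · exact (data.checkRange_iff 9231 680).mp Cfsg.Agent.Lib.Helper16.McLM.E3U2.chk11 v (by omega) (by omega)
  rcases Nat.lt_or_ge v 10579 with h12 | h12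
  · exact (data.checkRange_iff 9911 668).mp Cfsg.Agent.Lib.Helper16.McLM.E3U2.chk12 v (by omega) (by omega)
  rcases Nat.lt_or_ge v 11251 with h13 | h13
  · exact (data.checkRange_iff 10579 672).mp Cfsg.Agent.Lib.Helper16.McLM.E3U2.chk13 v (by omega) (by omega)
  rcases Nat.lt_or_ge v 11940 with h14 | h14
  · exact (data.checkRange_iff 11251 689).mp Cfsg.Agent.Lib.Helper16.McLM.E3U2.chk14 v (by omega) (by omega)
  rcases Nat.lt_or_ge v 12612 with h15 | h15
  · exact (data.checkRange_iff 11940 672).mp Cfsg.Agent.Lib.Helper16.McLM.E3U3.chk15 v (by omega) (by omega)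
  rcases Nat.lt_or_ge v 13286 with h16 | h16
  · exact (data.checkRange_iff 12612 674).mp Cfsg.Agent.Lib.Helper16.McLM.E3U3.chk16 v (by omega) (by omega)
  rcases Nat.lt_or_ge v 13970 with h17 | h17
  · exact (data.checkRange_iff 13286 684).mp Cfsg.Agent.Lib.Helper16.McLM.E3U3.chk17 v (by omega) (by omega)
  rcases Nat.lt_or_ge v 14668 with h18 | h18
  · exact (data.checkRange_iff 13970 698).mp Cfsg.Agent.Lib.Helper16.McLM.E3U3.chk18 v (by omega) (by omega)
  rcases Nat.lt_or_ge v 15356 with h19 | h19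
  · exact (data.checkRange_iff 14668 688).mp Cfsg.Agent.Lib.Helper16.McLM.E3U3.chk19 v (by omega) (by omega)
  rcases Nat.lt_or_ge v 16060 with h20 | h20
  · exact (data.checkRange_iff 15356 704).mp Cfsg.Agent.Lib.Helper16.McLM.E3U4.chk20 v (by omega) (by omega)
  rcases Nat.lt_or_ge v 16753 with h21 | h21
  · exact (data.checkRange_iff 16060 693).mp Cfsg.Agent.Lib.Helper16.McLM.E3U4.chk21 v (by omega) (by omega)
  rcases Nat.lt_or_ge v 17467 with h22 | h22
  · exact (data.checkRange_iff 16753 714).mp Cfsg.Agent.Lib.Helper16.McLM.E3U4.chk22 v (by omega) (by omega)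
  rcases Nat.lt_or_ge v 18199 with h23 | h23
  · exact (data.checkRange_iff 17467 732).mp Cfsg.Agent.Lib.Helper16.McLM.E3U4.chk23 v (by omega) (by omega)
  rcases Nat.lt_or_ge v 18895 with h24 | h24
  · exact (data.checkRange_iff 18199 696).mp Cfsg.Agent.Lib.Helper16.McLM.E3U4.chk24 v (by omega) (by omega)
  rcases Nat.lt_or_ge v 19599 with h25 | h25
  · exact (data.checkRange_iff 18895 704).mp Cfsg.Agent.Lib.Helper16.McLM.E3U5.chk25 v (by omega) (by omega)
  rcases Nat.lt_or_ge v 20295 with h26 | h26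
  · exact (data.checkRange_iff 19599 696).mp Cfsg.Agent.Lib.Helper16.McLM.E3U5.chk26 v (by omega) (by omega)
  rcases Nat.lt_or_ge v 20975 with h27 | h27
  · exact (data.checkRange_iff 20295 680).mp Cfsg.Agent.Lib.Helper16.McLM.E3U5.chk27 v (by omega) (by omega)
  rcases Nat.lt_or_ge v 21693 with h28 | h28
  · exact (data.checkRange_iff 20975 718).mp Cfsg.Agent.Lib.Helper16.McLM.E3U5.chk28 v (by omega) (by omega)
  rcases Nat.lt_or_ge v 22408 with h29 | h29
  · exact (data.checkRange_iff 21693 715).mp Cfsg.Agent.Lib.Helper16.McLM.E3U5.chk29 v (by omega) (by omega)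
  rcases Nat.lt_or_ge v 23098 with h30 | h30
  · exact (data.checkRange_iff 22408 690).mp Cfsg.Agent.Lib.Helper16.McLM.E3U6.chk30 v (by omega) (by omega)
  rcases Nat.lt_or_ge v 23804 with h31 | h31
  · exact (data.checkRange_iff 23098 706).mp Cfsg.Agent.Lib.Helper16.McLM.E3U6.chk31 v (by omega) (by omega)
  rcases Nat.lt_or_ge v 24524 with h32 | h32
  · exact (data.checkRange_iff 23804 720).mp Cfsg.Agent.Lib.Helper16.McLM.E3U6.chk32 v (by omega) (by omega)
  rcases Nat.lt_or_ge v 25228 with h33 | h33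
  · exact (data.checkRange_iff 24524 704).mp Cfsg.Agent.Lib.Helper16.McLM.E3U6.chk33 v (by omega) (by omega)
  rcases Nat.lt_or_ge v 25929 with h34 | h34
  · exact (data.checkRange_iff 25228 701).mp Cfsg.Agent.Lib.Helper16.McLM.E3U6.chk34 v (by omega) (by omega)
  rcases Nat.lt_or_ge v 26669 with h35 | h35
  · exact (data.checkRange_iff 25929 740).mp Cfsg.Agent.Lib.Helper16.McLM.E3U7.chk35 v (by omega) (by omega)
  rcases Nat.lt_or_ge v 27415 with h36 | h36
  · exact (data.checkRange_iff 26669 746).mp Cfsg.Agent.Lib.Helper16.McLM.E3U7.chk36 v (by omega) (by omega)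
  rcases Nat.lt_or_ge v 28173 with h37 | h37
  · exact (data.checkRange_iff 27415 758).mp Cfsg.Agent.Lib.Helper16.McLM.E3U7.chk37 v (by omega) (by omega)
  rcases Nat.lt_or_ge v 28910 with h38 | h38
  · exact (data.checkRange_iff 28173 737).mp Cfsg.Agent.Lib.Helper16.McLM.E3U7.chk38 v (by omega) (by omega)
  rcases Nat.lt_or_ge v 29683 with h39 | h39
  · exact (data.checkRange_iff 28910 773).mp Cfsg.Agent.Lib.Helper16.McLM.E3U7.chk39 v (by omega) (by omega)
  rcases Nat.lt_or_ge v 30447 with h40 | h40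
  · exact (data.checkRange_iff 29683 764).mp Cfsg.Agent.Lib.Helper16.McLM.E3U8.chk40 v (by omega) (by omega)
  rcases Nat.lt_or_ge v 31265 with h41 | h41
  · exact (data.checkRange_iff 30447 818).mp Cfsg.Agent.Lib.Helper16.McLM.E3U8.chk41 v (by omega) (by omega)
  rcases Nat.lt_or_ge v 32018 with h42 | h42
  · exact (data.checkRange_iff 31265 753).mp Cfsg.Agent.Lib.Helper16.McLM.E3U8.chk42 v (by omega) (by omega)
  rcases Nat.lt_or_ge v 32763 with h43 | h43
  · exact (data.checkRange_iff 32018 745).mp Cfsg.Agent.Lib.Helper16.McLM.E3U8.chk43 v (by omega) (by omega)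
  rcases Nat.lt_or_ge v 33512 with h44 | h44
  · exact (data.checkRange_iff 32763 749).mp Cfsg.Agent.Lib.Helper16.McLM.E3U8.chk44 v (by omega) (by omega)
  rcases Nat.lt_or_ge v 34260 with h45 | h45
  · exact (data.checkRange_iff 33512 748).mp Cfsg.Agent.Lib.Helper16.McLM.E3U9.chk45 v (by omega) (by omega)
  rcases Nat.lt_or_ge v 35054 with h46 | h46
  · exact (data.checkRange_iff 34260 794).mp Cfsg.Agent.Lib.Helper16.McLM.E3U9.chk46 v (by omega) (by omega)
  rcases Nat.lt_or_ge v 35844 with h47 | h47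
  · exact (data.checkRange_iff 35054 790).mp Cfsg.Agent.Lib.Helper16.McLM.E3U9.chk47 v (by omega) (by omega)
  rcases Nat.lt_or_ge v 36647 with h48 | h48
  · exact (data.checkRange_iff 35844 803).mp Cfsg.Agent.Lib.Helper16.McLM.E3U9.chk48 v (by omega) (by omega)
  rcases Nat.lt_or_ge v 37467 with h49 | h49
  · exact (data.checkRange_iff 36647 820).mp Cfsg.Agent.Lib.Helper16.McLM.E3U9.chk49 v (by omega) (by omega)
  rcases Nat.lt_or_ge v 38251 with h50 | h50
  · exact (data.checkRange_iff 37467 784).mp Cfsg.Agent.Lib.Helper16.McLM.E3U10.chk50 v (by omega) (by omega)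
  rcases Nat.lt_or_ge v 39065 with h51 | h51
  · exact (data.checkRange_iff 38251 814).mp Cfsg.Agent.Lib.Helper16.McLM.E3U10.chk51 v (by omega) (by omega)
  rcases Nat.lt_or_ge v 39836 with h52 | h52
  · exact (data.checkRange_iff 39065 771).mp Cfsg.Agent.Lib.Helper16.McLM.E3U10.chk52 v (by omega) (by omega)
  rcases Nat.lt_or_ge v 40639 with h53 | h53
  · exact (data.checkRange_iff 39836 803).mp Cfsg.Agent.Lib.Helper16.McLM.E3U10.chk53 v (by omega) (by omega)
  rcases Nat.lt_or_ge v 41400 with h54 | h54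
  · exact (data.checkRange_iff 40639 761).mp Cfsg.Agent.Lib.Helper16.McLM.E3U10.chk54 v (by omega) (by omega)
  rcases Nat.lt_or_ge v 42133 with h55 | h55
  · exact (data.checkRange_iff 41400 733).mp Cfsg.Agent.Lib.Helper16.McLM.E3U11.chk55 v (by omega) (by omega)
  rcases Nat.lt_or_ge v 42922 with h56 | h56
  · exact (data.checkRange_iff 42133 789).mp Cfsg.Agent.Lib.Helper16.McLM.E3U11.chk56 v (by omega) (by omega)
  rcases Nat.lt_or_ge v 43726 with h57 | h57
  · exact (data.checkRange_iff 42922 804).mp Cfsg.Agent.Lib.Helper16.McLM.E3U11.chk57 v (by omega) (by omega)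
  rcases Nat.lt_or_ge v 44547 with h58 | h58
  · exact (data.checkRange_iff 43726 821).mp Cfsg.Agent.Lib.Helper16.McLM.E3U11.chk58 v (by omega) (by omega)
  rcases Nat.lt_or_ge v 45408 with h59 | h59
  · exact (data.checkRange_iff 44547 861).mp Cfsg.Agent.Lib.Helper16.McLM.E3U11.chk59 v (by omega) (by omega)
  rcases Nat.lt_or_ge v 46302 with h60 | h60
  · exact (data.checkRange_iff 45408 894).mp Cfsg.Agent.Lib.Helper16.McLM.E3U12.chk60 v (by omega) (by omega)
  rcases Nat.lt_or_ge v 47103 with h61 | h61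
  · exact (data.checkRange_iff 46302 801).mp Cfsg.Agent.Lib.Helper16.McLM.E3U12.chk61 v (by omega) (by omega)
  rcases Nat.lt_or_ge v 48039 with h62 | h62
  · exact (data.checkRange_iff 47103 936).mp Cfsg.Agent.Lib.Helper16.McLM.E3U12.chk62 v (by omega) (by omega)
  rcases Nat.lt_or_ge v 48939 with h63 | h63
  · exact (data.checkRange_iff 48039 900).mp Cfsg.Agent.Lib.Helper16.McLM.E3U12.chk63 v (by omega) (by omega)
  rcases Nat.lt_or_ge v 49775 with h64 | h64
  · exact (data.checkRange_iff 48939 836).mp Cfsg.Agent.Lib.Helper16.McLM.E3U12.chk64 v (by omega) (by omega)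
  rcases Nat.lt_or_ge v 50634 with h65 | h65
  · exact (data.checkRange_iff 49775 859).mp Cfsg.Agent.Lib.Helper16.McLM.E3U13.chk65 v (by omega) (by omega)
  rcases Nat.lt_or_ge v 51513 with h66 | h66
  · exact (data.checkRange_iff 50634 879).mp Cfsg.Agent.Lib.Helper16.McLM.E3U13.chk66 v (by omega) (by omega)
  rcases Nat.lt_or_ge v 52402 with h67 | h67
  · exact (data.checkRange_iff 51513 889).mp Cfsg.Agent.Lib.Helper16.McLM.E3U13.chk67 v (by omega) (by omega)
  rcases Nat.lt_or_ge v 53303 with h68 | h68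
  · exact (data.checkRange_iff 52402 901).mp Cfsg.Agent.Lib.Helper16.McLM.E3U13.chk68 v (by omega) (by omega)
  rcases Nat.lt_or_ge v 54202 with h69 | h69
  · exact (data.checkRange_iff 53303 899).mp Cfsg.Agent.Lib.Helper16.McLM.E3U13.chk69 v (by omega) (by omega)
  rcases Nat.lt_or_ge v 55087 with h70 | h70
  · exact (data.checkRange_iff 54202 885).mp Cfsg.Agent.Lib.Helper16.McLM.E3U14.chk70 v (by omega) (by omega)
  rcases Nat.lt_or_ge v 55962 with h71 | h71
  · exact (data.checkRange_iff 55087 875).mp Cfsg.Agent.Lib.Helper16.McLM.E3U14.chk71 v (by omega) (by omega)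
  rcases Nat.lt_or_ge v 56849 with h72 | h72
  · exact (data.checkRange_iff 55962 887).mp Cfsg.Agent.Lib.Helper16.McLM.E3U14.chk72 v (by omega) (by omega)
  rcases Nat.lt_or_ge v 57740 with h73 | h73
  · exact (data.checkRange_iff 56849 891).mp Cfsg.Agent.Lib.Helper16.McLM.E3U14.chk73 v (by omega) (by omega)
  rcases Nat.lt_or_ge v 58654 with h74 | h74
  · exact (data.checkRange_iff 57740 914).mp Cfsg.Agent.Lib.Helper16.McLM.E3U14.chk74 v (by omega) (by omega)
  rcases Nat.lt_or_ge v 59667 with h75 | h75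
  · exact (data.checkRange_iff 58654 1013).mp Cfsg.Agent.Lib.Helper16.McLM.E3U15.chk75 v (by omega) (by omega)
  rcases Nat.lt_or_ge v 60626 with h76 | h76
  · exact (data.checkRange_iff 59667 959).mp Cfsg.Agent.Lib.Helper16.McLM.E3U15.chk76 v (by omega) (by omega)
  rcases Nat.lt_or_ge v 61660 with h77 | h77
  · exact (data.checkRange_iff 60626 1034).mp Cfsg.Agent.Lib.Helper16.McLM.E3U15.chk77 v (by omega) (by omega)
  rcases Nat.lt_or_ge v 62678 with h78 | h78
  · exact (data.checkRange_iff 61660 1018).mp Cfsg.Agent.Lib.Helper16.McLM.E3U15.chk78 v (by omega) (by omega)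
  rcases Nat.lt_or_ge v 63635 with h79 | h79
  · exact (data.checkRange_iff 62678 957).mp Cfsg.Agent.Lib.Helper16.McLM.E3U15.chk79 v (by omega) (by omega)
  rcases Nat.lt_or_ge v 64446 with h80 | h80
  · exact (data.checkRange_iff 63635 811).mp Cfsg.Agent.Lib.Helper16.McLM.E3U16.chk80 v (by omega) (by omega)
  rcases Nat.lt_or_ge v 65416 with h81 | h81
  · exact (data.checkRange_iff 64446 970).mp Cfsg.Agent.Lib.Helper16.McLM.E3U16.chk81 v (by omega) (by omega)
  rcases Nat.lt_or_ge v 66346 with h82 | h82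
  · exact (data.checkRange_iff 65416 930).mp Cfsg.Agent.Lib.Helper16.McLM.E3U16.chk82 v (by omega) (by omega)
  rcases Nat.lt_or_ge v 67369 with h83 | h83
  · exact (data.checkRange_iff 66346 1023).mp Cfsg.Agent.Lib.Helper16.McLM.E3U16.chk83 v (by omega) (by omega)
  rcases Nat.lt_or_ge v 68330 with h84 | h84
  · exact (data.checkRange_iff 67369 961).mp Cfsg.Agent.Lib.Helper16.McLM.E3U16.chk84 v (by omega) (by omega)
  rcases Nat.lt_or_ge v 69354 with h85 | h85
  · exact (data.checkRange_iff 68330 1024).mp Cfsg.Agent.Lib.Helper16.McLM.E3U17.chk85 v (by omega) (by omega)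
  rcases Nat.lt_or_ge v 70295 with h86 | h86
  · exact (data.checkRange_iff 69354 941).mp Cfsg.Agent.Lib.Helper16.McLM.E3U17.chk86 v (by omega) (by omega)
  rcases Nat.lt_or_ge v 71175 with h87 | h87
  · exact (data.checkRange_iff 70295 880).mp Cfsg.Agent.Lib.Helper16.McLM.E3U17.chk87 v (by omega) (by omega)
  rcases Nat.lt_or_ge v 72060 with h88 | h88
  · exact (data.checkRange_iff 71175 885).mp Cfsg.Agent.Lib.Helper16.McLM.E3U17.chk88 v (by omega) (by omega)
  rcases Nat.lt_or_ge v 72921 with h89 | h89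
  · exact (data.checkRange_iff 72060 861).mp Cfsg.Agent.Lib.Helper16.McLM.E3U17.chk89 v (by omega) (by omega)
  rcases Nat.lt_or_ge v 73848 with h90 | h90
  · exact (data.checkRange_iff 72921 927).mp Cfsg.Agent.Lib.Helper16.McLM.E3U18.chk90 v (by omega) (by omega)
  rcases Nat.lt_or_ge v 74787 with h91 | h91
  · exact (data.checkRange_iff 73848 939).mp Cfsg.Agent.Lib.Helper16.McLM.E3U18.chk91 v (by omega) (by omega)
  rcases Nat.lt_or_ge v 75735 with h92 | h92
  · exact (data.checkRange_iff 74787 948).mp Cfsg.Agent.Lib.Helper16.McLM.E3U18.chk92 v (by omega) (by omega)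
  rcases Nat.lt_or_ge v 76696 with h93 | h93
  · exact (data.checkRange_iff 75735 961).mp Cfsg.Agent.Lib.Helper16.McLM.E3U18.chk93 v (by omega) (by omega)
  rcases Nat.lt_or_ge v 77618 with h94 | h94
  · exact (data.checkRange_iff 76696 922).mp Cfsg.Agent.Lib.Helper16.McLM.E3U18.chk94 v (by omega) (by omega)
  rcases Nat.lt_or_ge v 78654 with h95 | h95
  · exact (data.checkRange_iff 77618 1036).mp Cfsg.Agent.Lib.Helper16.McLM.E3U19.chk95 v (by omega) (by omega)
  rcases Nat.lt_or_ge v 79538 with h96 | h96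
  · exact (data.checkRange_iff 78654 884).mp Cfsg.Agent.Lib.Helper16.McLM.E3U19.chk96 v (by omega) (by omega)
  rcases Nat.lt_or_ge v 80416 with h97 | h97
  · exact (data.checkRange_iff 79538 878).mp Cfsg.Agent.Lib.Helper16.McLM.E3U19.chk97 v (by omega) (by omega)
  rcases Nat.lt_or_ge v 81337 with h98 | h98
  · exact (data.checkRange_iff 80416 921).mp Cfsg.Agent.Lib.Helper16.McLM.E3U19.chk98 v (by omega) (by omega)
  rcases Nat.lt_or_ge v 82276 with h99 | h99
  · exact (data.checkRange_iff 81337 939).mp Cfsg.Agent.Lib.Helper16.McLM.E3U19.chk99 v (by omega) (by omega)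
  rcases Nat.lt_or_ge v 83230 with h100 | h100
  · exact (data.checkRange_iff 82276 954).mp Cfsg.Agent.Lib.Helper16.McLM.E3U20.chk100 v (by omega) (by omega)
  rcases Nat.lt_or_ge v 84284 with h101 | h101
  · exact (data.checkRange_iff 83230 1054).mp Cfsg.Agent.Lib.Helper16.McLM.E3U20.chk101 v (by omega) (by omega)
  rcases Nat.lt_or_ge v 85326 with h102 | h102
  · exact (data.checkRange_iff 84284 1042).mp Cfsg.Agent.Lib.Helper16.McLM.E3U20.chk102 v (by omega) (by omega)
  rcases Nat.lt_or_ge v 86418 with h103 | h103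
  · exact (data.checkRange_iff 85326 1092).mp Cfsg.Agent.Lib.Helper16.McLM.E3U20.chk103 v (by omega) (by omega)
  rcases Nat.lt_or_ge v 87368 with h104 | h104
  · exact (data.checkRange_iff 86418 950).mp Cfsg.Agent.Lib.Helper16.McLM.E3U20.chk104 v (by omega) (by omega)
  rcases Nat.lt_or_ge v 88254 with h105 | h105
  · exact (data.checkRange_iff 87368 886).mp Cfsg.Agent.Lib.Helper16.McLM.E3U21.chk105 v (by omega) (by omega)
  rcases Nat.lt_or_ge v 89202 with h106 | h106
  · exact (data.checkRange_iff 88254 948).mp Cfsg.Agent.Lib.Helper16.McLM.E3U21.chk106 v (by omega) (by omega)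
  rcases Nat.lt_or_ge v 90160 with h107 | h107
  · exact (data.checkRange_iff 89202 958).mp Cfsg.Agent.Lib.Helper16.McLM.E3U21.chk107 v (by omega) (by omega)
  rcases Nat.lt_or_ge v 91193 with h108 | h108
  · exact (data.checkRange_iff 90160 1033).mp Cfsg.Agent.Lib.Helper16.McLM.E3U21.chk108 v (by omega) (by omega)
  rcases Nat.lt_or_ge v 92197 with h109 | h109
  · exact (data.checkRange_iff 91193 1004).mp Cfsg.Agent.Lib.Helper16.McLM.E3U21.chk109 v (by omega) (by omega)
  rcases Nat.lt_or_ge v 93335 with h110 | h110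
  · exact (data.checkRange_iff 92197 1138).mp Cfsg.Agent.Lib.Helper16.McLM.E3U22.chk110 v (by omega) (by omega)
  rcases Nat.lt_or_ge v 94400 with h111 | h111
  · exact (data.checkRange_iff 93335 1065).mp Cfsg.Agent.Lib.Helper16.McLM.E3U22.chk111 v (by omega) (by omega)
  rcases Nat.lt_or_ge v 95486 with h112 | h112
  · exact (data.checkRange_iff 94400 1086).mp Cfsg.Agent.Lib.Helper16.McLM.E3U22.chk112 v (by omega) (by omega)
  rcases Nat.lt_or_ge v 96480 with h113 | h113
  · exact (data.checkRange_iff 95486 994).mp Cfsg.Agent.Lib.Helper16.McLM.E3U22.chk113 v (by omega) (by omega)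
  rcases Nat.lt_or_ge v 97556 with h114 | h114
  · exact (data.checkRange_iff 96480 1076).mp Cfsg.Agent.Lib.Helper16.McLM.E3U22.chk114 v (by omega) (by omega)
  rcases Nat.lt_or_ge v 98566 with h115 | h115
  · exact (data.checkRange_iff 97556 1010).mp Cfsg.Agent.Lib.Helper16.McLM.E3U23.chk115 v (by omega) (by omega)
  rcases Nat.lt_or_ge v 99572 with h116 | h116
  · exact (data.checkRange_iff 98566 1006).mp Cfsg.Agent.Lib.Helper16.McLM.E3U23.chk116 v (by omega) (by omega)
  rcases Nat.lt_or_ge v 100571 with h117 | h117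
  · exact (data.checkRange_iff 99572 999).mp Cfsg.Agent.Lib.Helper16.McLM.E3U23.chk117 v (by omega) (by omega)
  rcases Nat.lt_or_ge v 101575 with h118 | h118
  · exact (data.checkRange_iff 100571 1004).mp Cfsg.Agent.Lib.Helper16.McLM.E3U23.chk118 v (by omega) (by omega)
  rcases Nat.lt_or_ge v 102701 with h119 | h119
  · exact (data.checkRange_iff 101575 1126).mp Cfsg.Agent.Lib.Helper16.McLM.E3U23.chk119 v (by omega) (by omega)
  rcases Nat.lt_or_ge v 103732 with h120 | h120
  · exact (data.checkRange_iff 102701 1031).mp Cfsg.Agent.Lib.Helper16.McLM.E3U24.chk120 v (by omega) (by omega)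
  rcases Nat.lt_or_ge v 104833 with h121 | h121
  · exact (data.checkRange_iff 103732 1101).mp Cfsg.Agent.Lib.Helper16.McLM.E3U24.chk121 v (by omega) (by omega)
  rcases Nat.lt_or_ge v 105910 with h122 | h122
  · exact (data.checkRange_iff 104833 1077).mp Cfsg.Agent.Lib.Helper16.McLM.E3U24.chk122 v (by omega) (by omega)
  rcases Nat.lt_or_ge v 106944 with h123 | h123
  · exact (data.checkRange_iff 105910 1034).mp Cfsg.Agent.Lib.Helper16.McLM.E3U24.chk123 v (by omega) (by omega)
  rcases Nat.lt_or_ge v 108150 with h124 | h124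
  · exact (data.checkRange_iff 106944 1206).mp Cfsg.Agent.Lib.Helper16.McLM.E3U24.chk124 v (by omega) (by omega)
  rcases Nat.lt_or_ge v 109156 with h125 | h125
  · exact (data.checkRange_iff 108150 1006).mp Cfsg.Agent.Lib.Helper16.McLM.E3U25.chk125 v (by omega) (by omega)
  rcases Nat.lt_or_ge v 110223 with h126 | h126
  · exact (data.checkRange_iff 109156 1067).mp Cfsg.Agent.Lib.Helper16.McLM.E3U25.chk126 v (by omega) (by omega)
  rcases Nat.lt_or_ge v 111312 with h127 | h127
  · exact (data.checkRange_iff 110223 1089).mp Cfsg.Agent.Lib.Helper16.McLM.E3U25.chk127 v (by omega) (by omega)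
  rcases Nat.lt_or_ge v 112403 with h128 | h128
  · exact (data.checkRange_iff 111312 1091).mp Cfsg.Agent.Lib.Helper16.McLM.E3U25.chk128 v (by omega) (by omega)
  rcases Nat.lt_or_ge v 113508 with h129 | h129
  · exact (data.checkRange_iff 112403 1105).mp Cfsg.Agent.Lib.Helper16.McLM.E3U25.chk129 v (by omega) (by omega)
  rcases Nat.lt_or_ge v 114607 with h130 | h130
  · exact (data.checkRange_iff 113508 1099).mp Cfsg.Agent.Lib.Helper16.McLM.E3U26.chk130 v (by omega) (by omega)
  rcases Nat.lt_or_ge v 115790 with h131 | h131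
  · exact (data.checkRange_iff 114607 1183).mp Cfsg.Agent.Lib.Helper16.McLM.E3U26.chk131 v (by omega) (by omega)
  rcases Nat.lt_or_ge v 117012 with h132 | h132
  · exact (data.checkRange_iff 115790 1222).mp Cfsg.Agent.Lib.Helper16.McLM.E3U26.chk132 v (by omega) (by omega)
  rcases Nat.lt_or_ge v 118087 with h133 | h133
  · exact (data.checkRange_iff 117012 1075).mp Cfsg.Agent.Lib.Helper16.McLM.E3U26.chk133 v (by omega) (by omega)
  rcases Nat.lt_or_ge v 119245 with h134 | h134
  · exact (data.checkRange_iff 118087 1158).mp Cfsg.Agent.Lib.Helper16.McLM.E3U26.chk134 v (by omega) (by omega)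
  rcases Nat.lt_or_ge v 120383 with h135 | h135
  · exact (data.checkRange_iff 119245 1138).mp Cfsg.Agent.Lib.Helper16.McLM.E3U27.chk135 v (by omega) (by omega)
  rcases Nat.lt_or_ge v 121562 with h136 | h136
  · exact (data.checkRange_iff 120383 1179).mp Cfsg.Agent.Lib.Helper16.McLM.E3U27.chk136 v (by omega) (by omega)
  rcases Nat.lt_or_ge v 122682 with h137 | h137
  · exact (data.checkRange_iff 121562 1120).mp Cfsg.Agent.Lib.Helper16.McLM.E3U27.chk137 v (by omega) (by omega)
  rcases Nat.lt_or_ge v 123835 with h138 | h138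
  · exact (data.checkRange_iff 122682 1153).mp Cfsg.Agent.Lib.Helper16.McLM.E3U27.chk138 v (by omega) (by omega)
  rcases Nat.lt_or_ge v 125009 with h139 | h139
  · exact (data.checkRange_iff 123835 1174).mp Cfsg.Agent.Lib.Helper16.McLM.E3U27.chk139 v (by omega) (by omega)
  rcases Nat.lt_or_ge v 126164 with h140 | h140
  · exact (data.checkRange_iff 125009 1155).mp Cfsg.Agent.Lib.Helper16.McLM.E3U28.chk140 v (by omega) (by omega)
  rcases Nat.lt_or_ge v 127353 with h141 | h141
  · exact (data.checkRange_iff 126164 1189).mp Cfsg.Agent.Lib.Helper16.McLM.E3U28.chk141 v (by omega) (by omega)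
  rcases Nat.lt_or_ge v 128546 with h142 | h142
  · exact (data.checkRange_iff 127353 1193).mp Cfsg.Agent.Lib.Helper16.McLM.E3U28.chk142 v (by omega) (by omega)
  rcases Nat.lt_or_ge v 129797 with h143 | h143
  · exact (data.checkRange_iff 128546 1251).mp Cfsg.Agent.Lib.Helper16.McLM.E3U28.chk143 v (by omega) (by omega)
  rcases Nat.lt_or_ge v 130924 with h144 | h144
  · exact (data.checkRange_iff 129797 1127).mp Cfsg.Agent.Lib.Helper16.McLM.E3U28.chk144 v (by omega) (by omega)
  rcases Nat.lt_or_ge v 132013 with h145 | h145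
  · exact (data.checkRange_iff 130924 1089).mp Cfsg.Agent.Lib.Helper16.McLM.E3U29.chk145 v (by omega) (by omega)
  rcases Nat.lt_or_ge v 133066 with h146 | h146
  · exact (data.checkRange_iff 132013 1053).mp Cfsg.Agent.Lib.Helper16.McLM.E3U29.chk146 v (by omega) (by omega)
  rcases Nat.lt_or_ge v 134181 with h147 | h147
  · exact (data.checkRange_iff 133066 1115).mp Cfsg.Agent.Lib.Helper16.McLM.E3U29.chk147 v (by omega) (by omega)
  rcases Nat.lt_or_ge v 135378 with h148 | h148
  · exact (data.checkRange_iff 134181 1197).mp Cfsg.Agent.Lib.Helper16.McLM.E3U29.chk148 v (by omega) (by omega)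
  rcases Nat.lt_or_ge v 136536 with h149 | h149
  · exact (data.checkRange_iff 135378 1158).mp Cfsg.Agent.Lib.Helper16.McLM.E3U29.chk149 v (by omega) (by omega)
  rcases Nat.lt_or_ge v 137776 with h150 | h150
  · exact (data.checkRange_iff 136536 1240).mp Cfsg.Agent.Lib.Helper16.McLM.E3U30.chk150 v (by omega) (by omega)
  rcases Nat.lt_or_ge v 138556 with h151 | h151
  · exact (data.checkRange_iff 137776 780).mp Cfsg.Agent.Lib.Helper16.McLM.E3U30.chk151 v (by omega) (by omega)
  rcases Nat.lt_or_ge v 139223 with h152 | h152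
  · exact (data.checkRange_iff 138556 667).mp Cfsg.Agent.Lib.Helper16.McLM.E3U30.chk152 v (by omega) (by omega)
  rcases Nat.lt_or_ge v 139890 with h153 | h153
  · exact (data.checkRange_iff 139223 667).mp Cfsg.Agent.Lib.Helper16.McLM.E3U30.chk153 v (by omega) (by omega)
  rcases Nat.lt_or_ge v 140557 with h154 | h154
  · exact (data.checkRange_iff 139890 667).mp Cfsg.Agent.Lib.Helper16.McLM.E3U30.chk154 v (by omega) (by omega)
  rcases Nat.lt_or_ge v 141224 with h155 | h155
  · exact (data.checkRange_iff 140557 667).mp Cfsg.Agent.Lib.Helper16.McLM.E3U31.chk155 v (by omega) (by omega)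
  rcases Nat.lt_or_ge v 141891 with h156 | h156
  · exact (data.checkRange_iff 141224 667).mp Cfsg.Agent.Lib.Helper16.McLM.E3U31.chk156 v (by omega) (by omega)
  rcases Nat.lt_or_ge v 142558 with h157 | h157
  · exact (data.checkRange_iff 141891 667).mp Cfsg.Agent.Lib.Helper16.McLM.E3U31.chk157 v (by omega) (by omega)
  rcases Nat.lt_or_ge v 143225 with h158 | h158
  · exact (data.checkRange_iff 142558 667).mp Cfsg.Agent.Lib.Helper16.McLM.E3U31.chk158 v (by omega) (by omega)
  rcases Nat.lt_or_ge v 143892 with h159 | h159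
  · exact (data.checkRange_iff 143225 667).mp Cfsg.Agent.Lib.Helper16.McLM.E3U31.chk159 v (by omega) (by omega)
  rcases Nat.lt_or_ge v 144559 with h160 | h160
  · exact (data.checkRange_iff 143892 667).mp Cfsg.Agent.Lib.Helper16.McLM.E3U32.chk160 v (by omega) (by omega)
  rcases Nat.lt_or_ge v 145226 with h161 | h161
  · exact (data.checkRange_iff 144559 667).mp Cfsg.Agent.Lib.Helper16.McLM.E3U32.chk161 v (by omega) (by omega)
  rcases Nat.lt_or_ge v 145893 with h162 | h162
  · exact (data.checkRange_iff 145226 667).mp Cfsg.Agent.Lib.Helper16.McLM.E3U32.chk162 v (by omega) (by omega)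
  rcases Nat.lt_or_ge v 146560 with h163 | h163
  · exact (data.checkRange_iff 145893 667).mp Cfsg.Agent.Lib.Helper16.McLM.E3U32.chk163 v (by omega) (by omega)
  rcases Nat.lt_or_ge v 147227 with h164 | h164
  · exact (data.checkRange_iff 146560 667).mp Cfsg.Agent.Lib.Helper16.McLM.E3U32.chk164 v (by omega) (by omega)
  rcases Nat.lt_or_ge v 147894 with h165 | h165
  · exact (data.checkRange_iff 147227 667).mp Cfsg.Agent.Lib.Helper16.McLM.E3U33.chk165 v (by omega) (by omega)
  exact (data.checkRange_iff 147894 496).mp Cfsg.Agent.Lib.Helper16.McLM.E3U33.chk166 v (by omega) (by omega)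

theorem hrows : ∀ v, v < data.N → Data.rowOK data v = true := by
  intro v hv
  have hv' : v < 148390 := hv
  rcases Nat.lt_or_ge v 6000 with h0 | h0
  · exact (Data.finalRange_iff data 0 6000).mp Cfsg.Agent.Lib.Helper16.McLM.E3M0.fin0 v (by omega) (by omega)
  rcases Nat.lt_or_ge v 12000 with h1 | h1
  · exact (Data.finalRange_iff data 6000 6000).mp Cfsg.Agent.Lib.Helper16.McLM.E3M0.fin1 v (by omega) (by omega)
  rcases Nat.lt_or_ge v 18000 with h2 | h2
  · exact (Data.finalRange_iff data 12000 6000).mp Cfsg.Agent.Lib.Helper16.McLM.E3M0.fin2 v (by omega) (by omega)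
  rcases Nat.lt_or_ge v 24000 with h3 | h3
  · exact (Data.finalRange_iff data 18000 6000).mp Cfsg.Agent.Lib.Helper16.McLM.E3M0.fin3 v (by omega) (by omega)
  rcases Nat.lt_or_ge v 30000 with h4 | h4
  · exact (Data.finalRange_iff data 24000 6000).mp Cfsg.Agent.Lib.Helper16.McLM.E3M1.fin4 v (by omega) (by omega)
  rcases Nat.lt_or_ge v 36000 with h5 | h5
  · exact (Data.finalRange_iff data 30000 6000).mp Cfsg.Agent.Lib.Helper16.McLM.E3M1.fin5 v (by omega) (by omega)
  rcases Nat.lt_or_ge v 42000 with h6 | h6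
  · exact (Data.finalRange_iff data 36000 6000).mp Cfsg.Agent.Lib.Helper16.McLM.E3M1.fin6 v (by omega) (by omega)
  rcases Nat.lt_or_ge v 48000 with h7 | h7
  · exact (Data.finalRange_iff data 42000 6000).mp Cfsg.Agent.Lib.Helper16.McLM.E3M1.fin7 v (by omega) (by omega)
  rcases Nat.lt_or_ge v 54000 with h8 | h8
  · exact (Data.finalRange_iff data 48000 6000).mp Cfsg.Agent.Lib.Helper16.McLM.E3M1.fin8 v (by omega) (by omega)
  rcases Nat.lt_or_ge v 60000 with h9 | h9
  · exact (Data.finalRange_iff data 54000 6000).mp Cfsg.Agent.Lib.Helper16.McLM.E3M2.fin9 v (by omega) (by omega)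
  rcases Nat.lt_or_ge v 66000 with h10 | h10
  · exact (Data.finalRange_iff data 60000 6000).mp Cfsg.Agent.Lib.Helper16.McLM.E3M2.fin10 v (by omega) (by omega)
  rcases Nat.lt_or_ge v 72000 with h11 | h11
  · exact (Data.finalRange_iff data 66000 6000).mp Cfsg.Agent.Lib.Helper16.McLM.E3M2.fin11 v (by omega) (by omega)
  rcases Nat.lt_or_ge v 78000 with h12 | h12
  · exact (Data.finalRange_iff data 72000 6000).mp Cfsg.Agent.Lib.Helper16.McLM.E3M2.fin12 v (by omega) (by omega)
  rcases Nat.lt_or_ge v 84000 with h13 | h13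
  · exact (Data.finalRange_iff data 78000 6000).mp Cfsg.Agent.Lib.Helper16.McLM.E3M2.fin13 v (by omega) (by omega)
  rcases Nat.lt_or_ge v 90000 with h14 | h14
  · exact (Data.finalRange_iff data 84000 6000).mp Cfsg.Agent.Lib.Helper16.McLM.E3M3.fin14 v (by omega) (by omega)
  rcases Nat.lt_or_ge v 96000 with h15 | h15
  · exact (Data.finalRange_iff data 90000 6000).mp Cfsg.Agent.Lib.Helper16.McLM.E3M3.fin15 v (by omega) (by omega)
  rcases Nat.lt_or_ge v 102000 with h16 | h16
  · exact (Data.finalRange_iff data 96000 6000).mp Cfsg.Agent.Lib.Helper16.McLM.E3M3.fin16 v (by omega) (by omega)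
  rcases Nat.lt_or_ge v 108000 with h17 | h17
  · exact (Data.finalRange_iff data 102000 6000).mp Cfsg.Agent.Lib.Helper16.McLM.E3M3.fin17 v (by omega) (by omega)
  rcases Nat.lt_or_ge v 114000 with h18 | h18
  · exact (Data.finalRange_iff data 108000 6000).mp Cfsg.Agent.Lib.Helper16.McLM.E3M3.fin18 v (by omega) (by omega)
  rcases Nat.lt_or_ge v 120000 with h19 | h19
  · exact (Data.finalRange_iff data 114000 6000).mp Cfsg.Agent.Lib.Helper16.McLM.E3M4.fin19 v (by omega) (by omega)
  rcases Nat.lt_or_ge v 126000 with h20 | h20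
  · exact (Data.finalRange_iff data 120000 6000).mp Cfsg.Agent.Lib.Helper16.McLM.E3M4.fin20 v (by omega) (by omega)
  rcases Nat.lt_or_ge v 132000 with h21 | h21
  · exact (Data.finalRange_iff data 126000 6000).mp Cfsg.Agent.Lib.Helper16.McLM.E3M4.fin21 v (by omega) (by omega)
  rcases Nat.lt_or_ge v 138000 with h22 | h22
  · exact (Data.finalRange_iff data 132000 6000).mp Cfsg.Agent.Lib.Helper16.McLM.E3M4.fin22 v (by omega) (by omega)
  rcases Nat.lt_or_ge v 144000 with h23 | h23
  · exact (Data.finalRange_iff data 138000 6000).mp Cfsg.Agent.Lib.Helper16.McLM.E3M4.fin23 v (by omega) (by omega)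
  exact (Data.finalRange_iff data 144000 4390).mp Cfsg.Agent.Lib.Helper16.McLM.E3M5.fin24 v (by omega) (by omega)

theorem hfin : data.finalOK = true := Data.finalOK_of_rows data Cfsg.Agent.Lib.Helper16.McLM.E3M0.hlive0 (by decide) hrows

theorem pc0 : Data.countFrom data 0 6000 = 3003 := Cfsg.Agent.Lib.Helper16.McLM.E3M5.cnt0
theorem pc1 : Data.countFrom data 0 12000 = 7199 := Data.countFrom_step data pc0 Cfsg.Agent.Lib.Helper16.McLM.E3M5.cnt1 (by norm_num) (by norm_num)
theorem pc2 : Data.countFrom data 0 18000 = 11417 := Data.countFrom_step data pc1 Cfsg.Agent.Lib.Helper16.McLM.E3M5.cnt2 (by norm_num) (by norm_num)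
theorem pc3 : Data.countFrom data 0 24000 = 15766 := Data.countFrom_step data pc2 Cfsg.Agent.Lib.Helper16.McLM.E3M5.cnt3 (by norm_num) (by norm_num)
theorem pc4 : Data.countFrom data 0 30000 = 19451 := Data.countFrom_step data pc3 Cfsg.Agent.Lib.Helper16.McLM.E3M6.cnt4 (by norm_num) (by norm_num)
theorem pc5 : Data.countFrom data 0 36000 = 22398 := Data.countFrom_step data pc4 Cfsg.Agent.Lib.Helper16.McLM.E3M6.cnt5 (by norm_num) (by norm_num)
theorem pc6 : Data.countFrom data 0 42000 = 25362 := Data.countFrom_step data pc5 Cfsg.Agent.Lib.Helper16.McLM.E3M6.cnt6 (by norm_num) (by norm_num)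
theorem pc7 : Data.countFrom data 0 48000 = 28116 := Data.countFrom_step data pc6 Cfsg.Agent.Lib.Helper16.McLM.E3M6.cnt7 (by norm_num) (by norm_num)
theorem pc8 : Data.countFrom data 0 54000 = 30761 := Data.countFrom_step data pc7 Cfsg.Agent.Lib.Helper16.McLM.E3M6.cnt8 (by norm_num) (by norm_num)
theorem pc9 : Data.countFrom data 0 60000 = 33202 := Data.countFrom_step data pc8 Cfsg.Agent.Lib.Helper16.McLM.E3M7.cnt9 (by norm_num) (by norm_num)
theorem pc10 : Data.countFrom data 0 66000 = 35502 := Data.countFrom_step data pc9 Cfsg.Agent.Lib.Helper16.McLM.E3M7.cnt10 (by norm_num) (by norm_num)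
theorem pc11 : Data.countFrom data 0 72000 = 37837 := Data.countFrom_step data pc10 Cfsg.Agent.Lib.Helper16.McLM.E3M7.cnt11 (by norm_num) (by norm_num)
theorem pc12 : Data.countFrom data 0 78000 = 40104 := Data.countFrom_step data pc11 Cfsg.Agent.Lib.Helper16.McLM.E3M7.cnt12 (by norm_num) (by norm_num)
theorem pc13 : Data.countFrom data 0 84000 = 42555 := Data.countFrom_step data pc12 Cfsg.Agent.Lib.Helper16.McLM.E3M7.cnt13 (by norm_num) (by norm_num)
theorem pc14 : Data.countFrom data 0 90000 = 44864 := Data.countFrom_step data pc13 Cfsg.Agent.Lib.Helper16.McLM.E3M8.cnt14 (by norm_num) (by norm_num)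
theorem pc15 : Data.countFrom data 0 96000 = 46365 := Data.countFrom_step data pc14 Cfsg.Agent.Lib.Helper16.McLM.E3M8.cnt15 (by norm_num) (by norm_num)
theorem pc16 : Data.countFrom data 0 102000 = 48319 := Data.countFrom_step data pc15 Cfsg.Agent.Lib.Helper16.McLM.E3M8.cnt16 (by norm_num) (by norm_num)
theorem pc17 : Data.countFrom data 0 108000 = 50066 := Data.countFrom_step data pc16 Cfsg.Agent.Lib.Helper16.McLM.E3M8.cnt17 (by norm_num) (by norm_num)
theorem pc18 : Data.countFrom data 0 114000 = 51440 := Data.countFrom_step data pc17 Cfsg.Agent.Lib.Helper16.McLM.E3M8.cnt18 (by norm_num) (by norm_num)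
theorem pc19 : Data.countFrom data 0 120000 = 52559 := Data.countFrom_step data pc18 Cfsg.Agent.Lib.Helper16.McLM.E3M9.cnt19 (by norm_num) (by norm_num)
theorem pc20 : Data.countFrom data 0 126000 = 54020 := Data.countFrom_step data pc19 Cfsg.Agent.Lib.Helper16.McLM.E3M9.cnt20 (by norm_num) (by norm_num)
theorem pc21 : Data.countFrom data 0 132000 = 55216 := Data.countFrom_step data pc20 Cfsg.Agent.Lib.Helper16.McLM.E3M9.cnt21 (by norm_num) (by norm_num)
theorem pc22 : Data.countFrom data 0 138000 = 56457 := Data.countFrom_step data pc21 Cfsg.Agent.Lib.Helper16.McLM.E3M9.cnt22 (by norm_num) (by norm_num)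
theorem pc23 : Data.countFrom data 0 144000 = 62435 := Data.countFrom_step data pc22 Cfsg.Agent.Lib.Helper16.McLM.E3M9.cnt23 (by norm_num) (by norm_num)
theorem pc24 : Data.countFrom data 0 148390 = 66825 := Data.countFrom_step data pc23 Cfsg.Agent.Lib.Helper16.McLM.E3M10.cnt24 (by norm_num) (by norm_num)

theorem hcount : data.countLive = 66825 := by
  rw [Data.countLive_eq]
  exact pc24

/-- the number of cosets is at most `66825` -/
theorem mainU : Finite (PresentedGroup rels ⧸ (Subgroup.closure S).map (PresentedGroup.mk rels)) ∧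
    Nat.card (PresentedGroup rels ⧸ (Subgroup.closure S).map (PresentedGroup.mk rels)) ≤ 66825 := by
  have h := upper link hchk hfin
  rw [hcount] at h
  exact h

end Cfsg.Agent.Lib.Helper16.McLM.E3MainU
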