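import Cfsg.Agent.Lib.Helper28.TC2Range
import Cfsg.Agent.Lib.Helper16.McLM.CoverLow
import Cfsg.Agent.Lib.Helper16.McLM.LCovTable
set_option autoImplicit false
set_option maxRecDepth 100000
set_option maxHeartbeats 0

namespace Cfsg.Agent.Lib.Helper16.McLM.LCovC1
open Cfsg.Agent.Lib.Helper28.TC2Upper Cfsg.Agent.Lib.Helper28.TC2Lower Cfsg.Agent.Lib.Helper28.TC2Range Cfsg.Agent.Lib.Helper16.McLM.CoverLow Cfsg.Agent.Lib.Helper16.McLM.LCovTable

theorem prm4 : Table.permRange table 24000 6000 = true := by decide +kernel
theorem prm5 : Table.permRange table 30000 6000 = true := by decide +kernel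
theorem prm6 : Table.permRange table 36000 6000 = true := by decide +kernel
theorem prm7 : Table.permRange table 42000 6000 = true := by decide +kernel
theorem prm8 : Table.permRange table 48000 6000 = true := by decide +kernel

end Cfsg.Agent.Lib.Helper16.McLM.LCovC1
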