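import Cfsg.Agent.Lib.Helper28.TC2Range
import Cfsg.Agent.Lib.Helper16.McLM.CoverLow
import Cfsg.Agent.Lib.Helper16.McLM.LCovTable
import Cfsg.Agent.Lib.Helper16.McLM.LCovC1
set_option autoImplicit false
set_option maxRecDepth 100000
set_option maxHeartbeats 0

namespace Cfsg.Agent.Lib.Helper16.McLM.LCovC11
open Cfsg.Agent.Lib.Helper28.TC2Upper Cfsg.Agent.Lib.Helper28.TC2Lower Cfsg.Agent.Lib.Helper28.TC2Range Cfsg.Agent.Lib.Helper16.McLM.CoverLow Cfsg.Agent.Lib.Helper16.McLM.LCovTable

theorem rel27 : table.relOK relzPaths 3294 122 = true := by decide +kernel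
theorem rel28 : table.relOK relzPaths 3416 122 = true := by decide +kernel
theorem rel29 : table.relOK relzPaths 3538 122 = true := by decide +kernel
theorem rel30 : table.relOK relzPaths 3660 122 = true := by decide +kernel
theorem rel31 : table.relOK relzPaths 3782 122 = true := by decide +kernel

end Cfsg.Agent.Lib.Helper16.McLM.LCovC11
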