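import Cfsg.Agent.Lib.Helper28.TC2Range
import Cfsg.Agent.Lib.Helper16.McLM.CoverLow
import Cfsg.Agent.Lib.Helper16.McLM.LCovTable
import Cfsg.Agent.Lib.Helper16.McLM.LCovC5
set_option autoImplicit false
set_option maxRecDepth 100000
set_option maxHeartbeats 0

namespace Cfsg.Agent.Lib.Helper16.McLM.LCovC15
open Cfsg.Agent.Lib.Helper28.TC2Upper Cfsg.Agent.Lib.Helper28.TC2Lower Cfsg.Agent.Lib.Helper28.TC2Range Cfsg.Agent.Lib.Helper16.McLM.CoverLow Cfsg.Agent.Lib.Helper16.McLM.LCovTable

theorem rel47 : table.relOK relzPaths 5734 122 = true := by decide +kernel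
theorem rel48 : table.relOK relzPaths 5856 122 = true := by decide +kernel
theorem rel49 : table.relOK relzPaths 5978 122 = true := by decide +kernel
theorem rel50 : table.relOK relzPaths 6100 122 = true := by decide +kernel
theorem rel51 : table.relOK relzPaths 6222 122 = true := by decide +kernel

end Cfsg.Agent.Lib.Helper16.McLM.LCovC15
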