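import Cfsg.Agent.Lib.Helper28.TC2Range
import Cfsg.Agent.Lib.Helper16.McLM.CoverLow
import Cfsg.Agent.Lib.Helper16.McLM.LCovTable
import Cfsg.Agent.Lib.Helper16.McLM.LCovC6
set_option autoImplicit false
set_option maxRecDepth 100000
set_option maxHeartbeats 0

namespace Cfsg.Agent.Lib.Helper16.McLM.LCovC16
open Cfsg.Agent.Lib.Helper28.TC2Upper Cfsg.Agent.Lib.Helper28.TC2Lower Cfsg.Agent.Lib.Helper28.TC2Range Cfsg.Agent.Lib.Helper16.McLM.CoverLow Cfsg.Agent.Lib.Helper16.McLM.LCovTable

theorem rel52 : table.relOK relzPaths 6344 122 = true := by decide +kernel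
theorem rel53 : table.relOK relzPaths 6466 122 = true := by decide +kernel
theorem rel54 : table.relOK relzPaths 6588 122 = true := by decide +kernel
theorem rel55 : table.relOK relzPaths 6710 122 = true := by decide +kernel
theorem rel56 : table.relOK relzPaths 6832 122 = true := by decide +kernel

end Cfsg.Agent.Lib.Helper16.McLM.LCovC16
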