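import Cfsg.Agent.Lib.Helper28.TC2Range
import Cfsg.Agent.Lib.Helper16.McLM.CoverLow
import Cfsg.Agent.Lib.Helper16.McLM.LCovTable
set_option autoImplicit false
set_option maxRecDepth 100000
set_option maxHeartbeats 0

namespace Cfsg.Agent.Lib.Helper16.McLM.LCovC8
open Cfsg.Agent.Lib.Helper28.TC2Upper Cfsg.Agent.Lib.Helper28.TC2Lower Cfsg.Agent.Lib.Helper28.TC2Range Cfsg.Agent.Lib.Helper16.McLM.CoverLow Cfsg.Agent.Lib.Helper16.McLM.LCovTable

theorem rel12 : table.relOK relzPaths 1464 122 = true := by decide +kernel
theorem rel13 : table.relOK relzPaths 1586 122 = true := by decide +kernel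
theorem rel14 : table.relOK relzPaths 1708 122 = true := by decide +kernel
theorem rel15 : table.relOK relzPaths 1830 122 = true := by decide +kernel
theorem rel16 : table.relOK relzPaths 1952 122 = true := by decide +kernel

end Cfsg.Agent.Lib.Helper16.McLM.LCovC8
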