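import Cfsg.Agent.Lib.Helper28.TC2Range
import Cfsg.Agent.Lib.Helper16.McLM.CoverLow
import Cfsg.Agent.Lib.Helper16.McLM.LCovTable
set_option autoImplicit false
set_option maxRecDepth 100000
set_option maxHeartbeats 0

namespace Cfsg.Agent.Lib.Helper16.McLM.LCovC9
open Cfsg.Agent.Lib.Helper28.TC2Upper Cfsg.Agent.Lib.Helper28.TC2Lower Cfsg.Agent.Lib.Helper28.TC2Range Cfsg.Agent.Lib.Helper16.McLM.CoverLow Cfsg.Agent.Lib.Helper16.McLM.LCovTable

theorem rel17 : table.relOK relzPaths 2074 122 = true := by decide +kernel
theorem rel18 : table.relOK relzPaths 2196 122 = true := by decide +kernel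
theorem rel19 : table.relOK relzPaths 2318 122 = true := by decide +kernel
theorem rel20 : table.relOK relzPaths 2440 122 = true := by decide +kernel
theorem rel21 : table.relOK relzPaths 2562 122 = true := by decide +kernel

end Cfsg.Agent.Lib.Helper16.McLM.LCovC9
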