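import Cfsg.Agent.Lib.Helper28.TC2Range
import Cfsg.Agent.Lib.Helper16.McLM.CoverLow
import Cfsg.Agent.Lib.Helper16.McLM.LCovTable
import Cfsg.Agent.Lib.Helper16.McLM.LCovC12
set_option autoImplicit false
set_option maxRecDepth 100000
set_option maxHeartbeats 0

namespace Cfsg.Agent.Lib.Helper16.McLM.LCovC22
open Cfsg.Agent.Lib.Helper28.TC2Upper Cfsg.Agent.Lib.Helper28.TC2Lower Cfsg.Agent.Lib.Helper28.TC2Range Cfsg.Agent.Lib.Helper16.McLM.CoverLow Cfsg.Agent.Lib.Helper16.McLM.LCovTable

theorem rel82 : table.relOK relzPaths 10004 122 = true := by decide +kernel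
theorem rel83 : table.relOK relzPaths 10126 122 = true := by decide +kernel
theorem rel84 : table.relOK relzPaths 10248 122 = true := by decide +kernel
theorem rel85 : table.relOK relzPaths 10370 122 = true := by decide +kernel
theorem rel86 : table.relOK relzPaths 10492 122 = true := by decide +kernel

end Cfsg.Agent.Lib.Helper16.McLM.LCovC22
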