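import Cfsg.Agent.Lib.Helper28.TC2Range
import Cfsg.Agent.Lib.Helper16.McLM.CoverLow
import Cfsg.Agent.Lib.Helper16.McLM.LCovTable
import Cfsg.Agent.Lib.Helper16.McLM.LCovC17
set_option autoImplicit false
set_option maxRecDepth 100000
set_option maxHeartbeats 0

namespace Cfsg.Agent.Lib.Helper16.McLM.LCovC27
open Cfsg.Agent.Lib.Helper28.TC2Upper Cfsg.Agent.Lib.Helper28.TC2Lower Cfsg.Agent.Lib.Helper28.TC2Range Cfsg.Agent.Lib.Helper16.McLM.CoverLow Cfsg.Agent.Lib.Helper16.McLM.LCovTable

theorem rel107 : table.relOK relzPaths 13054 122 = true := by decide +kernel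
theorem rel108 : table.relOK relzPaths 13176 122 = true := by decide +kernel
theorem rel109 : table.relOK relzPaths 13298 122 = true := by decide +kernel
theorem rel110 : table.relOK relzPaths 13420 122 = true := by decide +kernel
theorem rel111 : table.relOK relzPaths 13542 122 = true := by decide +kernel

end Cfsg.Agent.Lib.Helper16.McLM.LCovC27
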