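import Cfsg.Agent.Lib.Helper28.TC2Range
import Cfsg.Agent.Lib.Helper16.McLM.CoverLow
import Cfsg.Agent.Lib.Helper16.McLM.LCovTable
import Cfsg.Agent.Lib.Helper16.McLM.LCovC19
set_option autoImplicit false
set_option maxRecDepth 100000
set_option maxHeartbeats 0

namespace Cfsg.Agent.Lib.Helper16.McLM.LCovC29
open Cfsg.Agent.Lib.Helper28.TC2Upper Cfsg.Agent.Lib.Helper28.TC2Lower Cfsg.Agent.Lib.Helper28.TC2Range Cfsg.Agent.Lib.Helper16.McLM.CoverLow Cfsg.Agent.Lib.Helper16.McLM.LCovTable

theorem rel117 : table.relOK relzPaths 14274 122 = true := by decide +kernel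
theorem rel118 : table.relOK relzPaths 14396 122 = true := by decide +kernel
theorem rel119 : table.relOK relzPaths 14518 122 = true := by decide +kernel
theorem rel120 : table.relOK relzPaths 14640 122 = true := by decide +kernel
theorem rel121 : table.relOK relzPaths 14762 122 = true := by decide +kernel

end Cfsg.Agent.Lib.Helper16.McLM.LCovC29
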