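import Cfsg.Agent.Lib.Helper28.TC2Range
import Cfsg.Agent.Lib.Helper16.McLM.CoverLow
import Cfsg.Agent.Lib.Helper16.McLM.LCovTable
import Cfsg.Agent.Lib.Helper16.McLM.LCovC0
import Cfsg.Agent.Lib.Helper16.McLM.LCovC1
import Cfsg.Agent.Lib.Helper16.McLM.LCovC2
import Cfsg.Agent.Lib.Helper16.McLM.LCovC3
import Cfsg.Agent.Lib.Helper16.McLM.LCovC4
import Cfsg.Agent.Lib.Helper16.McLM.LCovC5
import Cfsg.Agent.Lib.Helper16.McLM.LCovC6
import Cfsg.Agent.Lib.Helper16.McLM.LCovC7
import Cfsg.Agent.Lib.Helper16.McLM.LCovC8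
import Cfsg.Agent.Lib.Helper16.McLM.LCovC9
import Cfsg.Agent.Lib.Helper16.McLM.LCovC10
import Cfsg.Agent.Lib.Helper16.McLM.LCovC11
import Cfsg.Agent.Lib.Helper16.McLM.LCovC12
import Cfsg.Agent.Lib.Helper16.McLM.LCovC13
import Cfsg.Agent.Lib.Helper16.McLM.LCovC14
import Cfsg.Agent.Lib.Helper16.McLM.LCovC15
import Cfsg.Agent.Lib.Helper16.McLM.LCovC16
import Cfsg.Agent.Lib.Helper16.McLM.LCovC17
import Cfsg.Agent.Lib.Helper16.McLM.LCovC18
import Cfsg.Agent.Lib.Helper16.McLM.LCovC19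
import Cfsg.Agent.Lib.Helper16.McLM.LCovC20
import Cfsg.Agent.Lib.Helper16.McLM.LCovC21
import Cfsg.Agent.Lib.Helper16.McLM.LCovC22
import Cfsg.Agent.Lib.Helper16.McLM.LCovC23
import Cfsg.Agent.Lib.Helper16.McLM.LCovC24
import Cfsg.Agent.Lib.Helper16.McLM.LCovC25
import Cfsg.Agent.Lib.Helper16.McLM.LCovC26
import Cfsg.Agent.Lib.Helper16.McLM.LCovC27
import Cfsg.Agent.Lib.Helper16.McLM.LCovC28
import Cfsg.Agent.Lib.Helper16.McLM.LCovC29
import Cfsg.Agent.Lib.Helper16.McLM.LCovC30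
import Cfsg.Agent.Lib.Helper16.McLM.LCovC31
import Cfsg.Agent.Lib.Helper16.McLM.LCovC32
import Cfsg.Agent.Lib.Helper16.McLM.LCovC33
import Cfsg.Agent.Lib.Helper16.McLM.LCovC34
import Cfsg.Agent.Lib.Helper16.McLM.LCovC35
import Cfsg.Agent.Lib.Helper16.McLM.LCovC36
import Cfsg.Agent.Lib.Helper16.McLM.LCovC37
import Cfsg.Agent.Lib.Helper16.McLM.LCovC38
import Cfsg.Agent.Lib.Helper16.McLM.LCovC39
import Cfsg.Agent.Lib.Helper16.McLM.LCovC40
import Cfsg.Agent.Lib.Helper16.McLM.LCovC41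
import Cfsg.Agent.Lib.Helper16.McLM.LCovC42

set_option autoImplicit false
set_option maxRecDepth 100000

namespace Cfsg.Agent.Lib.Helper16.McLM.LCovLow
open Cfsg.Agent.Lib.Helper28.TC2Upper Cfsg.Agent.Lib.Helper28.TC2Lower Cfsg.Agent.Lib.Helper28.TC2Range Cfsg.Agent.Lib.Helper16.McLM.CoverLow Cfsg.Agent.Lib.Helper16.McLM.LCovTable

theorem hpermAll : ∀ p, p < table.n → Table.permRow table p = true := by
  intro p hv
  have hv' : p < 66825 := hv
  rcases Nat.lt_or_ge p 6000 with h0 | h0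
  · exact (Table.permRange_iff table 0 6000).mp Cfsg.Agent.Lib.Helper16.McLM.LCovC0.prm0 p (by omega) (by omega)
  rcases Nat.lt_or_ge p 12000 with h1 | h1
  · exact (Table.permRange_iff table 6000 6000).mp Cfsg.Agent.Lib.Helper16.McLM.LCovC0.prm1 p (by omega) (by omega)
  rcases Nat.lt_or_ge p 18000 with h2 | h2
  · exact (Table.permRange_iff table 12000 6000).mp Cfsg.Agent.Lib.Helper16.McLM.LCovC0.prm2 p (by omega) (by omega)
  rcases Nat.lt_or_ge p 24000 with h3 | h3
  · exact (Table.permRange_iff table 18000 6000).mp Cfsg.Agent.Lib.Helper16.McLM.LCovC0.prm3 p (by omega) (by omega)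
  rcases Nat.lt_or_ge p 30000 with h4 | h4
  · exact (Table.permRange_iff table 24000 6000).mp Cfsg.Agent.Lib.Helper16.McLM.LCovC1.prm4 p (by omega) (by omega)
  rcases Nat.lt_or_ge p 36000 with h5 | h5
  · exact (Table.permRange_iff table 30000 6000).mp Cfsg.Agent.Lib.Helper16.McLM.LCovC1.prm5 p (by omega) (by omega)
  rcases Nat.lt_or_ge p 42000 with h6 | h6
  · exact (Table.permRange_iff table 36000 6000).mp Cfsg.Agent.Lib.Helper16.McLM.LCovC1.prm6 p (by omega) (by omega)
  rcases Nat.lt_or_ge p 48000 with h7 | h7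
  · exact (Table.permRange_iff table 42000 6000).mp Cfsg.Agent.Lib.Helper16.McLM.LCovC1.prm7 p (by omega) (by omega)
  rcases Nat.lt_or_ge p 54000 with h8 | h8
  · exact (Table.permRange_iff table 48000 6000).mp Cfsg.Agent.Lib.Helper16.McLM.LCovC1.prm8 p (by omega) (by omega)
  rcases Nat.lt_or_ge p 60000 with h9 | h9
  · exact (Table.permRange_iff table 54000 6000).mp Cfsg.Agent.Lib.Helper16.McLM.LCovC2.prm9 p (by omega) (by omega)
  rcases Nat.lt_or_ge p 66000 with h10 | h10
  · exact (Table.permRange_iff table 60000 6000).mp Cfsg.Agent.Lib.Helper16.McLM.LCovC2.prm10 p (by omega) (by omega)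
  exact (Table.permRange_iff table 66000 825).mp Cfsg.Agent.Lib.Helper16.McLM.LCovC2.prm11 p (by omega) (by omega)

theorem hT : table.OK := Table.ok_of_rows table Cfsg.Agent.Lib.Helper16.McLM.LCovC0.hinvOK hpermAll

theorem hz : ∀ q, q < table.n → table.tau 8 q = (q + 22275) % table.n := by
  intro q hv
  have hv' : q < 66825 := hv
  rcases Nat.lt_or_ge q 24000 with h0 | h0
  · exact (zRange_iff table 8 22275 0 24000).mp Cfsg.Agent.Lib.Helper16.McLM.LCovC2.zr0 q (by omega) (by omega)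
  rcases Nat.lt_or_ge q 48000 with h1 | h1
  · exact (zRange_iff table 8 22275 24000 24000).mp Cfsg.Agent.Lib.Helper16.McLM.LCovC2.zr1 q (by omega) (by omega)
  exact (zRange_iff table 8 22275 48000 18825).mp Cfsg.Agent.Lib.Helper16.McLM.LCovC3.zr2 q (by omega) (by omega)

theorem hcommT : ∀ P ∈ commPaths, ∀ p, p < table.n → table.walkT P p = p := by
  intro P hm p hv
  have hv' : p < 66825 := hv
  rcases Nat.lt_or_ge p 6000 with h0 | h0
  · exact (Table.relOK_iff commPaths 0 6000).mp Cfsg.Agent.Lib.Helper16.McLM.LCovC3.cm0 p (by omega) (by omega) _ hm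
  rcases Nat.lt_or_ge p 12000 with h1 | h1
  · exact (Table.relOK_iff commPaths 6000 6000).mp Cfsg.Agent.Lib.Helper16.McLM.LCovC3.cm1 p (by omega) (by omega) _ hm
  rcases Nat.lt_or_ge p 18000 with h2 | h2
  · exact (Table.relOK_iff commPaths 12000 6000).mp Cfsg.Agent.Lib.Helper16.McLM.LCovC3.cm2 p (by omega) (by omega) _ hm
  rcases Nat.lt_or_ge p 24000 with h3 | h3
  · exact (Table.relOK_iff commPaths 18000 6000).mp Cfsg.Agent.Lib.Helper16.McLM.LCovC3.cm3 p (by omega) (by omega) _ hm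
  rcases Nat.lt_or_ge p 30000 with h4 | h4
  · exact (Table.relOK_iff commPaths 24000 6000).mp Cfsg.Agent.Lib.Helper16.McLM.LCovC4.cm4 p (by omega) (by omega) _ hm
  rcases Nat.lt_or_ge p 36000 with h5 | h5
  · exact (Table.relOK_iff commPaths 30000 6000).mp Cfsg.Agent.Lib.Helper16.McLM.LCovC4.cm5 p (by omega) (by omega) _ hm
  rcases Nat.lt_or_ge p 42000 with h6 | h6
  · exact (Table.relOK_iff commPaths 36000 6000).mp Cfsg.Agent.Lib.Helper16.McLM.LCovC4.cm6 p (by omega) (by omega) _ hm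
  rcases Nat.lt_or_ge p 48000 with h7 | h7
  · exact (Table.relOK_iff commPaths 42000 6000).mp Cfsg.Agent.Lib.Helper16.McLM.LCovC4.cm7 p (by omega) (by omega) _ hm
  rcases Nat.lt_or_ge p 54000 with h8 | h8
  · exact (Table.relOK_iff commPaths 48000 6000).mp Cfsg.Agent.Lib.Helper16.McLM.LCovC4.cm8 p (by omega) (by omega) _ hm
  rcases Nat.lt_or_ge p 60000 with h9 | h9
  · exact (Table.relOK_iff commPaths 54000 6000).mp Cfsg.Agent.Lib.Helper16.McLM.LCovC5.cm9 p (by omega) (by omega) _ hm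
  rcases Nat.lt_or_ge p 66000 with h10 | h10
  · exact (Table.relOK_iff commPaths 60000 6000).mp Cfsg.Agent.Lib.Helper16.McLM.LCovC5.cm10 p (by omega) (by omega) _ hm
  exact (Table.relOK_iff commPaths 66000 825).mp Cfsg.Agent.Lib.Helper16.McLM.LCovC5.cm11 p (by omega) (by omega) _ hm

theorem hrelzT : ∀ P ∈ relzPaths, ∀ p, p < 22275 → table.walkT P p = p := by
  intro P hm p hv
  have hv' : p < 22275 := hv
  rcases Nat.lt_or_ge p 122 with h0 | h0
  · exact (Table.relOK_iff relzPaths 0 122).mp Cfsg.Agent.Lib.Helper16.McLM.LCovC5.rel0 p (by omega) (by omega) _ hm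
  rcases Nat.lt_or_ge p 244 with h1 | h1
  · exact (Table.relOK_iff relzPaths 122 122).mp Cfsg.Agent.Lib.Helper16.McLM.LCovC5.rel1 p (by omega) (by omega) _ hm
  rcases Nat.lt_or_ge p 366 with h2 | h2
  · exact (Table.relOK_iff relzPaths 244 122).mp Cfsg.Agent.Lib.Helper16.McLM.LCovC6.rel2 p (by omega) (by omega) _ hm
  rcases Nat.lt_or_ge p 488 with h3 | h3
  · exact (Table.relOK_iff relzPaths 366 122).mp Cfsg.Agent.Lib.Helper16.McLM.LCovC6.rel3 p (by omega) (by omega) _ hm
  rcases Nat.lt_or_ge p 610 with h4 | h4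
  · exact (Table.relOK_iff relzPaths 488 122).mp Cfsg.Agent.Lib.Helper16.McLM.LCovC6.rel4 p (by omega) (by omega) _ hm
  rcases Nat.lt_or_ge p 732 with h5 | h5
  · exact (Table.relOK_iff relzPaths 610 122).mp Cfsg.Agent.Lib.Helper16.McLM.LCovC6.rel5 p (by omega) (by omega) _ hm
  rcases Nat.lt_or_ge p 854 with h6 | h6
  · exact (Table.relOK_iff relzPaths 732 122).mp Cfsg.Agent.Lib.Helper16.McLM.LCovC6.rel6 p (by omega) (by omega) _ hm
  rcases Nat.lt_or_ge p 976 with h7 | h7
  · exact (Table.relOK_iff relzPaths 854 122).mp Cfsg.Agent.Lib.Helper16.McLM.LCovC7.rel7 p (by omega) (by omega) _ hm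
  rcases Nat.lt_or_ge p 1098 with h8 | h8
  · exact (Table.relOK_iff relzPaths 976 122).mp Cfsg.Agent.Lib.Helper16.McLM.LCovC7.rel8 p (by omega) (by omega) _ hm
  rcases Nat.lt_or_ge p 1220 with h9 | h9
  · exact (Table.relOK_iff relzPaths 1098 122).mp Cfsg.Agent.Lib.Helper16.McLM.LCovC7.rel9 p (by omega) (by omega) _ hm
  rcases Nat.lt_or_ge p 1342 with h10 | h10
  · exact (Table.relOK_iff relzPaths 1220 122).mp Cfsg.Agent.Lib.Helper16.McLM.LCovC7.rel10 p (by omega) (by omega) _ hm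
  rcases Nat.lt_or_ge p 1464 with h11 | h11
  · exact (Table.relOK_iff relzPaths 1342 122).mp Cfsg.Agent.Lib.Helper16.McLM.LCovC7.rel11 p (by omega) (by omega) _ hm
  rcases Nat.lt_or_ge p 1586 with h12 | h12
  · exact (Table.relOK_iff relzPaths 1464 122).mp Cfsg.Agent.Lib.Helper16.McLM.LCovC8.rel12 p (by omega) (by omega) _ hm
  rcases Nat.lt_or_ge p 1708 with h13 | h13
  · exact (Table.relOK_iff relzPaths 1586 122).mp Cfsg.Agent.Lib.Helper16.McLM.LCovC8.rel13 p (by omega) (by omega) _ hm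
  rcases Nat.lt_or_ge p 1830 with h14 | h14
  · exact (Table.relOK_iff relzPaths 1708 122).mp Cfsg.Agent.Lib.Helper16.McLM.LCovC8.rel14 p (by omega) (by omega) _ hm
  rcases Nat.lt_or_ge p 1952 with h15 | h15
  · exact (Table.relOK_iff relzPaths 1830 122).mp Cfsg.Agent.Lib.Helper16.McLM.LCovC8.rel15 p (by omega) (by omega) _ hm
  rcases Nat.lt_or_ge p 2074 with h16 | h16
  · exact (Table.relOK_iff relzPaths 1952 122).mp Cfsg.Agent.Lib.Helper16.McLM.LCovC8.rel16 p (by omega) (by omega) _ hm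
  rcases Nat.lt_or_ge p 2196 with h17 | h17
  · exact (Table.relOK_iff relzPaths 2074 122).mp Cfsg.Agent.Lib.Helper16.McLM.LCovC9.rel17 p (by omega) (by omega) _ hm
  rcases Nat.lt_or_ge p 2318 with h18 | h18
  · exact (Table.relOK_iff relzPaths 2196 122).mp Cfsg.Agent.Lib.Helper16.McLM.LCovC9.rel18 p (by omega) (by omega) _ hm
  rcases Nat.lt_or_ge p 2440 with h19 | h19
  · exact (Table.relOK_iff relzPaths 2318 122).mp Cfsg.Agent.Lib.Helper16.McLM.LCovC9.rel19 p (by omega) (by omega) _ hm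
  rcases Nat.lt_or_ge p 2562 with h20 | h20
  · exact (Table.relOK_iff relzPaths 2440 122).mp Cfsg.Agent.Lib.Helper16.McLM.LCovC9.rel20 p (by omega) (by omega) _ hm
  rcases Nat.lt_or_ge p 2684 with h21 | h21
  · exact (Table.relOK_iff relzPaths 2562 122).mp Cfsg.Agent.Lib.Helper16.McLM.LCovC9.rel21 p (by omega) (by omega) _ hm
  rcases Nat.lt_or_ge p 2806 with h22 | h22
  · exact (Table.relOK_iff relzPaths 2684 122).mp Cfsg.Agent.Lib.Helper16.McLM.LCovC10.rel22 p (by omega) (by omega) _ hm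
  rcases Nat.lt_or_ge p 2928 with h23 | h23
  · exact (Table.relOK_iff relzPaths 2806 122).mp Cfsg.Agent.Lib.Helper16.McLM.LCovC10.rel23 p (by omega) (by omega) _ hm
  rcases Nat.lt_or_ge p 3050 with h24 | h24
  · exact (Table.relOK_iff relzPaths 2928 122).mp Cfsg.Agent.Lib.Helper16.McLM.LCovC10.rel24 p (by omega) (by omega) _ hm
  rcases Nat.lt_or_ge p 3172 with h25 | h25
  · exact (Table.relOK_iff relzPaths 3050 122).mp Cfsg.Agent.Lib.Helper16.McLM.LCovC10.rel25 p (by omega) (by omega) _ hm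
  rcases Nat.lt_or_ge p 3294 with h26 | h26
  · exact (Table.relOK_iff relzPaths 3172 122).mp Cfsg.Agent.Lib.Helper16.McLM.LCovC10.rel26 p (by omega) (by omega) _ hm
  rcases Nat.lt_or_ge p 3416 with h27 | h27
  · exact (Table.relOK_iff relzPaths 3294 122).mp Cfsg.Agent.Lib.Helper16.McLM.LCovC11.rel27 p (by omega) (by omega) _ hm
  rcases Nat.lt_or_ge p 3538 with h28 | h28
  · exact (Table.relOK_iff relzPaths 3416 122).mp Cfsg.Agent.Lib.Helper16.McLM.LCovC11.rel28 p (by omega) (by omega) _ hm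
  rcases Nat.lt_or_ge p 3660 with h29 | h29
  · exact (Table.relOK_iff relzPaths 3538 122).mp Cfsg.Agent.Lib.Helper16.McLM.LCovC11.rel29 p (by omega) (by omega) _ hm
  rcases Nat.lt_or_ge p 3782 with h30 | h30
  · exact (Table.relOK_iff relzPaths 3660 122).mp Cfsg.Agent.Lib.Helper16.McLM.LCovC11.rel30 p (by omega) (by omega) _ hm
  rcases Nat.lt_or_ge p 3904 with h31 | h31
  · exact (Table.relOK_iff relzPaths 3782 122).mp Cfsg.Agent.Lib.Helper16.McLM.LCovC11.rel31 p (by omega) (by omega) _ hm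
  rcases Nat.lt_or_ge p 4026 with h32 | h32
  · exact (Table.relOK_iff relzPaths 3904 122).mp Cfsg.Agent.Lib.Helper16.McLM.LCovC12.rel32 p (by omega) (by omega) _ hm
  rcases Nat.lt_or_ge p 4148 with h33 | h33
  · exact (Table.relOK_iff relzPaths 4026 122).mp Cfsg.Agent.Lib.Helper16.McLM.LCovC12.rel33 p (by omega) (by omega) _ hm
  rcases Nat.lt_or_ge p 4270 with h34 | h34
  · exact (Table.relOK_iff relzPaths 4148 122).mp Cfsg.Agent.Lib.Helper16.McLM.LCovC12.rel34 p (by omega) (by omega) _ hm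
  rcases Nat.lt_or_ge p 4392 with h35 | h35
  · exact (Table.relOK_iff relzPaths 4270 122).mp Cfsg.Agent.Lib.Helper16.McLM.LCovC12.rel35 p (by omega) (by omega) _ hm
  rcases Nat.lt_or_ge p 4514 with h36 | h36
  · exact (Table.relOK_iff relzPaths 4392 122).mp Cfsg.Agent.Lib.Helper16.McLM.LCovC12.rel36 p (by omega) (by omega) _ hm
  rcases Nat.lt_or_ge p 4636 with h37 | h37
  · exact (Table.relOK_iff relzPaths 4514 122).mp Cfsg.Agent.Lib.Helper16.McLM.LCovC13.rel37 p (by omega) (by omega) _ hm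
  rcases Nat.lt_or_ge p 4758 with h38 | h38
  · exact (Table.relOK_iff relzPaths 4636 122).mp Cfsg.Agent.Lib.Helper16.McLM.LCovC13.rel38 p (by omega) (by omega) _ hm
  rcases Nat.lt_or_ge p 4880 with h39 | h39
  · exact (Table.relOK_iff relzPaths 4758 122).mp Cfsg.Agent.Lib.Helper16.McLM.LCovC13.rel39 p (by omega) (by omega) _ hm
  rcases Nat.lt_or_ge p 5002 with h40 | h40
  · exact (Table.relOK_iff relzPaths 4880 122).mp Cfsg.Agent.Lib.Helper16.McLM.LCovC13.rel40 p (by omega) (by omega) _ hm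
  rcases Nat.lt_or_ge p 5124 with h41 | h41
  · exact (Table.relOK_iff relzPaths 5002 122).mp Cfsg.Agent.Lib.Helper16.McLM.LCovC13.rel41 p (by omega) (by omega) _ hm
  rcases Nat.lt_or_ge p 5246 with h42 | h42
  · exact (Table.relOK_iff relzPaths 5124 122).mp Cfsg.Agent.Lib.Helper16.McLM.LCovC14.rel42 p (by omega) (by omega) _ hm
  rcases Nat.lt_or_ge p 5368 with h43 | h43
  · exact (Table.relOK_iff relzPaths 5246 122).mp Cfsg.Agent.Lib.Helper16.McLM.LCovC14.rel43 p (by omega) (by omega) _ hm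
  rcases Nat.lt_or_ge p 5490 with h44 | h44
  · exact (Table.relOK_iff relzPaths 5368 122).mp Cfsg.Agent.Lib.Helper16.McLM.LCovC14.rel44 p (by omega) (by omega) _ hm
  rcases Nat.lt_or_ge p 5612 with h45 | h45
  · exact (Table.relOK_iff relzPaths 5490 122).mp Cfsg.Agent.Lib.Helper16.McLM.LCovC14.rel45 p (by omega) (by omega) _ hm
  rcases Nat.lt_or_ge p 5734 with h46 | h46
  · exact (Table.relOK_iff relzPaths 5612 122).mp Cfsg.Agent.Lib.Helper16.McLM.LCovC14.rel46 p (by omega) (by omega) _ hm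
  rcases Nat.lt_or_ge p 5856 with h47 | h47
  · exact (Table.relOK_iff relzPaths 5734 122).mp Cfsg.Agent.Lib.Helper16.McLM.LCovC15.rel47 p (by omega) (by omega) _ hm
  rcases Nat.lt_or_ge p 5978 with h48 | h48
  · exact (Table.relOK_iff relzPaths 5856 122).mp Cfsg.Agent.Lib.Helper16.McLM.LCovC15.rel48 p (by omega) (by omega) _ hm
  rcases Nat.lt_or_ge p 6100 with h49 | h49
  · exact (Table.relOK_iff relzPaths 5978 122).mp Cfsg.Agent.Lib.Helper16.McLM.LCovC15.rel49 p (by omega) (by omega) _ hm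
  rcases Nat.lt_or_ge p 6222 with h50 | h50
  · exact (Table.relOK_iff relzPaths 6100 122).mp Cfsg.Agent.Lib.Helper16.McLM.LCovC15.rel50 p (by omega) (by omega) _ hm
  rcases Nat.lt_or_ge p 6344 with h51 | h51
  · exact (Table.relOK_iff relzPaths 6222 122).mp Cfsg.Agent.Lib.Helper16.McLM.LCovC15.rel51 p (by omega) (by omega) _ hm
  rcases Nat.lt_or_ge p 6466 with h52 | h52
  · exact (Table.relOK_iff relzPaths 6344 122).mp Cfsg.Agent.Lib.Helper16.McLM.LCovC16.rel52 p (by omega) (by omega) _ hm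
  rcases Nat.lt_or_ge p 6588 with h53 | h53
  · exact (Table.relOK_iff relzPaths 6466 122).mp Cfsg.Agent.Lib.Helper16.McLM.LCovC16.rel53 p (by omega) (by omega) _ hm
  rcases Nat.lt_or_ge p 6710 with h54 | h54
  · exact (Table.relOK_iff relzPaths 6588 122).mp Cfsg.Agent.Lib.Helper16.McLM.LCovC16.rel54 p (by omega) (by omega) _ hm
  rcases Nat.lt_or_ge p 6832 with h55 | h55
  · exact (Table.relOK_iff relzPaths 6710 122).mp Cfsg.Agent.Lib.Helper16.McLM.LCovC16.rel55 p (by omega) (by omega) _ hm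
  rcases Nat.lt_or_ge p 6954 with h56 | h56
  · exact (Table.relOK_iff relzPaths 6832 122).mp Cfsg.Agent.Lib.Helper16.McLM.LCovC16.rel56 p (by omega) (by omega) _ hm
  rcases Nat.lt_or_ge p 7076 with h57 | h57
  · exact (Table.relOK_iff relzPaths 6954 122).mp Cfsg.Agent.Lib.Helper16.McLM.LCovC17.rel57 p (by omega) (by omega) _ hm
  rcases Nat.lt_or_ge p 7198 with h58 | h58
  · exact (Table.relOK_iff relzPaths 7076 122).mp Cfsg.Agent.Lib.Helper16.McLM.LCovC17.rel58 p (by omega) (by omega) _ hm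
  rcases Nat.lt_or_ge p 7320 with h59 | h59
  · exact (Table.relOK_iff relzPaths 7198 122).mp Cfsg.Agent.Lib.Helper16.McLM.LCovC17.rel59 p (by omega) (by omega) _ hm
  rcases Nat.lt_or_ge p 7442 with h60 | h60
  · exact (Table.relOK_iff relzPaths 7320 122).mp Cfsg.Agent.Lib.Helper16.McLM.LCovC17.rel60 p (by omega) (by omega) _ hm
  rcases Nat.lt_or_ge p 7564 with h61 | h61
  · exact (Table.relOK_iff relzPaths 7442 122).mp Cfsg.Agent.Lib.Helper16.McLM.LCovC17.rel61 p (by omega) (by omega) _ hm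
  rcases Nat.lt_or_ge p 7686 with h62 | h62
  · exact (Table.relOK_iff relzPaths 7564 122).mp Cfsg.Agent.Lib.Helper16.McLM.LCovC18.rel62 p (by omega) (by omega) _ hm
  rcases Nat.lt_or_ge p 7808 with h63 | h63
  · exact (Table.relOK_iff relzPaths 7686 122).mp Cfsg.Agent.Lib.Helper16.McLM.LCovC18.rel63 p (by omega) (by omega) _ hm
  rcases Nat.lt_or_ge p 7930 with h64 | h64
  · exact (Table.relOK_iff relzPaths 7808 122).mp Cfsg.Agent.Lib.Helper16.McLM.LCovC18.rel64 p (by omega) (by omega) _ hm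
  rcases Nat.lt_or_ge p 8052 with h65 | h65
  · exact (Table.relOK_iff relzPaths 7930 122).mp Cfsg.Agent.Lib.Helper16.McLM.LCovC18.rel65 p (by omega) (by omega) _ hm
  rcases Nat.lt_or_ge p 8174 with h66 | h66
  · exact (Table.relOK_iff relzPaths 8052 122).mp Cfsg.Agent.Lib.Helper16.McLM.LCovC18.rel66 p (by omega) (by omega) _ hm
  rcases Nat.lt_or_ge p 8296 with h67 | h67
  · exact (Table.relOK_iff relzPaths 8174 122).mp Cfsg.Agent.Lib.Helper16.McLM.LCovC19.rel67 p (by omega) (by omega) _ hm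
  rcases Nat.lt_or_ge p 8418 with h68 | h68
  · exact (Table.relOK_iff relzPaths 8296 122).mp Cfsg.Agent.Lib.Helper16.McLM.LCovC19.rel68 p (by omega) (by omega) _ hm
  rcases Nat.lt_or_ge p 8540 with h69 | h69
  · exact (Table.relOK_iff relzPaths 8418 122).mp Cfsg.Agent.Lib.Helper16.McLM.LCovC19.rel69 p (by omega) (by omega) _ hm
  rcases Nat.lt_or_ge p 8662 with h70 | h70
  · exact (Table.relOK_iff relzPaths 8540 122).mp Cfsg.Agent.Lib.Helper16.McLM.LCovC19.rel70 p (by omega) (by omega) _ hm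
  rcases Nat.lt_or_ge p 8784 with h71 | h71
  · exact (Table.relOK_iff relzPaths 8662 122).mp Cfsg.Agent.Lib.Helper16.McLM.LCovC19.rel71 p (by omega) (by omega) _ hm
  rcases Nat.lt_or_ge p 8906 with h72 | h72
  · exact (Table.relOK_iff relzPaths 8784 122).mp Cfsg.Agent.Lib.Helper16.McLM.LCovC20.rel72 p (by omega) (by omega) _ hm
  rcases Nat.lt_or_ge p 9028 with h73 | h73
  · exact (Table.relOK_iff relzPaths 8906 122).mp Cfsg.Agent.Lib.Helper16.McLM.LCovC20.rel73 p (by omega) (by omega) _ hm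
  rcases Nat.lt_or_ge p 9150 with h74 | h74
  · exact (Table.relOK_iff relzPaths 9028 122).mp Cfsg.Agent.Lib.Helper16.McLM.LCovC20.rel74 p (by omega) (by omega) _ hm
  rcases Nat.lt_or_ge p 9272 with h75 | h75
  · exact (Table.relOK_iff relzPaths 9150 122).mp Cfsg.Agent.Lib.Helper16.McLM.LCovC20.rel75 p (by omega) (by omega) _ hm
  rcases Nat.lt_or_ge p 9394 with h76 | h76
  · exact (Table.relOK_iff relzPaths 9272 122).mp Cfsg.Agent.Lib.Helper16.McLM.LCovC20.rel76 p (by omega) (by omega) _ hm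
  rcases Nat.lt_or_ge p 9516 with h77 | h77
  · exact (Table.relOK_iff relzPaths 9394 122).mp Cfsg.Agent.Lib.Helper16.McLM.LCovC21.rel77 p (by omega) (by omega) _ hm
  rcases Nat.lt_or_ge p 9638 with h78 | h78
  · exact (Table.relOK_iff relzPaths 9516 122).mp Cfsg.Agent.Lib.Helper16.McLM.LCovC21.rel78 p (by omega) (by omega) _ hm
  rcases Nat.lt_or_ge p 9760 with h79 | h79
  · exact (Table.relOK_iff relzPaths 9638 122).mp Cfsg.Agent.Lib.Helper16.McLM.LCovC21.rel79 p (by omega) (by omega) _ hm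
  rcases Nat.lt_or_ge p 9882 with h80 | h80
  · exact (Table.relOK_iff relzPaths 9760 122).mp Cfsg.Agent.Lib.Helper16.McLM.LCovC21.rel80 p (by omega) (by omega) _ hm
  rcases Nat.lt_or_ge p 10004 with h81 | h81
  · exact (Table.relOK_iff relzPaths 9882 122).mp Cfsg.Agent.Lib.Helper16.McLM.LCovC21.rel81 p (by omega) (by omega) _ hm
  rcases Nat.lt_or_ge p 10126 with h82 | h82
  · exact (Table.relOK_iff relzPaths 10004 122).mp Cfsg.Agent.Lib.Helper16.McLM.LCovC22.rel82 p (by omega) (by omega) _ hm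
  rcases Nat.lt_or_ge p 10248 with h83 | h83
  · exact (Table.relOK_iff relzPaths 10126 122).mp Cfsg.Agent.Lib.Helper16.McLM.LCovC22.rel83 p (by omega) (by omega) _ hm
  rcases Nat.lt_or_ge p 10370 with h84 | h84
  · exact (Table.relOK_iff relzPaths 10248 122).mp Cfsg.Agent.Lib.Helper16.McLM.LCovC22.rel84 p (by omega) (by omega) _ hm
  rcases Nat.lt_or_ge p 10492 with h85 | h85
  · exact (Table.relOK_iff relzPaths 10370 122).mp Cfsg.Agent.Lib.Helper16.McLM.LCovC22.rel85 p (by omega) (by omega) _ hm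
  rcases Nat.lt_or_ge p 10614 with h86 | h86
  · exact (Table.relOK_iff relzPaths 10492 122).mp Cfsg.Agent.Lib.Helper16.McLM.LCovC22.rel86 p (by omega) (by omega) _ hm
  rcases Nat.lt_or_ge p 10736 with h87 | h87
  · exact (Table.relOK_iff relzPaths 10614 122).mp Cfsg.Agent.Lib.Helper16.McLM.LCovC23.rel87 p (by omega) (by omega) _ hm
  rcases Nat.lt_or_ge p 10858 with h88 | h88
  · exact (Table.relOK_iff relzPaths 10736 122).mp Cfsg.Agent.Lib.Helper16.McLM.LCovC23.rel88 p (by omega) (by omega) _ hm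
  rcases Nat.lt_or_ge p 10980 with h89 | h89
  · exact (Table.relOK_iff relzPaths 10858 122).mp Cfsg.Agent.Lib.Helper16.McLM.LCovC23.rel89 p (by omega) (by omega) _ hm
  rcases Nat.lt_or_ge p 11102 with h90 | h90
  · exact (Table.relOK_iff relzPaths 10980 122).mp Cfsg.Agent.Lib.Helper16.McLM.LCovC23.rel90 p (by omega) (by omega) _ hm
  rcases Nat.lt_or_ge p 11224 with h91 | h91
  · exact (Table.relOK_iff relzPaths 11102 122).mp Cfsg.Agent.Lib.Helper16.McLM.LCovC23.rel91 p (by omega) (by omega) _ hm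
  rcases Nat.lt_or_ge p 11346 with h92 | h92
  · exact (Table.relOK_iff relzPaths 11224 122).mp Cfsg.Agent.Lib.Helper16.McLM.LCovC24.rel92 p (by omega) (by omega) _ hm
  rcases Nat.lt_or_ge p 11468 with h93 | h93
  · exact (Table.relOK_iff relzPaths 11346 122).mp Cfsg.Agent.Lib.Helper16.McLM.LCovC24.rel93 p (by omega) (by omega) _ hm
  rcases Nat.lt_or_ge p 11590 with h94 | h94
  · exact (Table.relOK_iff relzPaths 11468 122).mp Cfsg.Agent.Lib.Helper16.McLM.LCovC24.rel94 p (by omega) (by omega) _ hm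
  rcases Nat.lt_or_ge p 11712 with h95 | h95
  · exact (Table.relOK_iff relzPaths 11590 122).mp Cfsg.Agent.Lib.Helper16.McLM.LCovC24.rel95 p (by omega) (by omega) _ hm
  rcases Nat.lt_or_ge p 11834 with h96 | h96
  · exact (Table.relOK_iff relzPaths 11712 122).mp Cfsg.Agent.Lib.Helper16.McLM.LCovC24.rel96 p (by omega) (by omega) _ hm
  rcases Nat.lt_or_ge p 11956 with h97 | h97
  · exact (Table.relOK_iff relzPaths 11834 122).mp Cfsg.Agent.Lib.Helper16.McLM.LCovC25.rel97 p (by omega) (by omega) _ hm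
  rcases Nat.lt_or_ge p 12078 with h98 | h98
  · exact (Table.relOK_iff relzPaths 11956 122).mp Cfsg.Agent.Lib.Helper16.McLM.LCovC25.rel98 p (by omega) (by omega) _ hm
  rcases Nat.lt_or_ge p 12200 with h99 | h99
  · exact (Table.relOK_iff relzPaths 12078 122).mp Cfsg.Agent.Lib.Helper16.McLM.LCovC25.rel99 p (by omega) (by omega) _ hm
  rcases Nat.lt_or_ge p 12322 with h100 | h100
  · exact (Table.relOK_iff relzPaths 12200 122).mp Cfsg.Agent.Lib.Helper16.McLM.LCovC25.rel100 p (by omega) (by omega) _ hm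
  rcases Nat.lt_or_ge p 12444 with h101 | h101
  · exact (Table.relOK_iff relzPaths 12322 122).mp Cfsg.Agent.Lib.Helper16.McLM.LCovC25.rel101 p (by omega) (by omega) _ hm
  rcases Nat.lt_or_ge p 12566 with h102 | h102
  · exact (Table.relOK_iff relzPaths 12444 122).mp Cfsg.Agent.Lib.Helper16.McLM.LCovC26.rel102 p (by omega) (by omega) _ hm
  rcases Nat.lt_or_ge p 12688 with h103 | h103
  · exact (Table.relOK_iff relzPaths 12566 122).mp Cfsg.Agent.Lib.Helper16.McLM.LCovC26.rel103 p (by omega) (by omega) _ hm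
  rcases Nat.lt_or_ge p 12810 with h104 | h104
  · exact (Table.relOK_iff relzPaths 12688 122).mp Cfsg.Agent.Lib.Helper16.McLM.LCovC26.rel104 p (by omega) (by omega) _ hm
  rcases Nat.lt_or_ge p 12932 with h105 | h105
  · exact (Table.relOK_iff relzPaths 12810 122).mp Cfsg.Agent.Lib.Helper16.McLM.LCovC26.rel105 p (by omega) (by omega) _ hm
  rcases Nat.lt_or_ge p 13054 with h106 | h106
  · exact (Table.relOK_iff relzPaths 12932 122).mp Cfsg.Agent.Lib.Helper16.McLM.LCovC26.rel106 p (by omega) (by omega) _ hm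
  rcases Nat.lt_or_ge p 13176 with h107 | h107
  · exact (Table.relOK_iff relzPaths 13054 122).mp Cfsg.Agent.Lib.Helper16.McLM.LCovC27.rel107 p (by omega) (by omega) _ hm
  rcases Nat.lt_or_ge p 13298 with h108 | h108
  · exact (Table.relOK_iff relzPaths 13176 122).mp Cfsg.Agent.Lib.Helper16.McLM.LCovC27.rel108 p (by omega) (by omega) _ hm
  rcases Nat.lt_or_ge p 13420 with h109 | h109
  · exact (Table.relOK_iff relzPaths 13298 122).mp Cfsg.Agent.Lib.Helper16.McLM.LCovC27.rel109 p (by omega) (by omega) _ hm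
  rcases Nat.lt_or_ge p 13542 with h110 | h110
  · exact (Table.relOK_iff relzPaths 13420 122).mp Cfsg.Agent.Lib.Helper16.McLM.LCovC27.rel110 p (by omega) (by omega) _ hm
  rcases Nat.lt_or_ge p 13664 with h111 | h111
  · exact (Table.relOK_iff relzPaths 13542 122).mp Cfsg.Agent.Lib.Helper16.McLM.LCovC27.rel111 p (by omega) (by omega) _ hm
  rcases Nat.lt_or_ge p 13786 with h112 | h112
  · exact (Table.relOK_iff relzPaths 13664 122).mp Cfsg.Agent.Lib.Helper16.McLM.LCovC28.rel112 p (by omega) (by omega) _ hm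
  rcases Nat.lt_or_ge p 13908 with h113 | h113
  · exact (Table.relOK_iff relzPaths 13786 122).mp Cfsg.Agent.Lib.Helper16.McLM.LCovC28.rel113 p (by omega) (by omega) _ hm
  rcases Nat.lt_or_ge p 14030 with h114 | h114
  · exact (Table.relOK_iff relzPaths 13908 122).mp Cfsg.Agent.Lib.Helper16.McLM.LCovC28.rel114 p (by omega) (by omega) _ hm
  rcases Nat.lt_or_ge p 14152 with h115 | h115
  · exact (Table.relOK_iff relzPaths 14030 122).mp Cfsg.Agent.Lib.Helper16.McLM.LCovC28.rel115 p (by omega) (by omega) _ hm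
  rcases Nat.lt_or_ge p 14274 with h116 | h116
  · exact (Table.relOK_iff relzPaths 14152 122).mp Cfsg.Agent.Lib.Helper16.McLM.LCovC28.rel116 p (by omega) (by omega) _ hm
  rcases Nat.lt_or_ge p 14396 with h117 | h117
  · exact (Table.relOK_iff relzPaths 14274 122).mp Cfsg.Agent.Lib.Helper16.McLM.LCovC29.rel117 p (by omega) (by omega) _ hm
  rcases Nat.lt_or_ge p 14518 with h118 | h118
  · exact (Table.relOK_iff relzPaths 14396 122).mp Cfsg.Agent.Lib.Helper16.McLM.LCovC29.rel118 p (by omega) (by omega) _ hm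
  rcases Nat.lt_or_ge p 14640 with h119 | h119
  · exact (Table.relOK_iff relzPaths 14518 122).mp Cfsg.Agent.Lib.Helper16.McLM.LCovC29.rel119 p (by omega) (by omega) _ hm
  rcases Nat.lt_or_ge p 14762 with h120 | h120
  · exact (Table.relOK_iff relzPaths 14640 122).mp Cfsg.Agent.Lib.Helper16.McLM.LCovC29.rel120 p (by omega) (by omega) _ hm
  rcases Nat.lt_or_ge p 14884 with h121 | h121
  · exact (Table.relOK_iff relzPaths 14762 122).mp Cfsg.Agent.Lib.Helper16.McLM.LCovC29.rel121 p (by omega) (by omega) _ hm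
  rcases Nat.lt_or_ge p 15006 with h122 | h122
  · exact (Table.relOK_iff relzPaths 14884 122).mp Cfsg.Agent.Lib.Helper16.McLM.LCovC30.rel122 p (by omega) (by omega) _ hm
  rcases Nat.lt_or_ge p 15128 with h123 | h123
  · exact (Table.relOK_iff relzPaths 15006 122).mp Cfsg.Agent.Lib.Helper16.McLM.LCovC30.rel123 p (by omega) (by omega) _ hm
  rcases Nat.lt_or_ge p 15250 with h124 | h124
  · exact (Table.relOK_iff relzPaths 15128 122).mp Cfsg.Agent.Lib.Helper16.McLM.LCovC30.rel124 p (by omega) (by omega) _ hm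
  rcases Nat.lt_or_ge p 15372 with h125 | h125
  · exact (Table.relOK_iff relzPaths 15250 122).mp Cfsg.Agent.Lib.Helper16.McLM.LCovC30.rel125 p (by omega) (by omega) _ hm
  rcases Nat.lt_or_ge p 15494 with h126 | h126
  · exact (Table.relOK_iff relzPaths 15372 122).mp Cfsg.Agent.Lib.Helper16.McLM.LCovC30.rel126 p (by omega) (by omega) _ hm
  rcases Nat.lt_or_ge p 15616 with h127 | h127
  · exact (Table.relOK_iff relzPaths 15494 122).mp Cfsg.Agent.Lib.Helper16.McLM.LCovC31.rel127 p (by omega) (by omega) _ hm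
  rcases Nat.lt_or_ge p 15738 with h128 | h128
  · exact (Table.relOK_iff relzPaths 15616 122).mp Cfsg.Agent.Lib.Helper16.McLM.LCovC31.rel128 p (by omega) (by omega) _ hm
  rcases Nat.lt_or_ge p 15860 with h129 | h129
  · exact (Table.relOK_iff relzPaths 15738 122).mp Cfsg.Agent.Lib.Helper16.McLM.LCovC31.rel129 p (by omega) (by omega) _ hm
  rcases Nat.lt_or_ge p 15982 with h130 | h130
  · exact (Table.relOK_iff relzPaths 15860 122).mp Cfsg.Agent.Lib.Helper16.McLM.LCovC31.rel130 p (by omega) (by omega) _ hm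
  rcases Nat.lt_or_ge p 16104 with h131 | h131
  · exact (Table.relOK_iff relzPaths 15982 122).mp Cfsg.Agent.Lib.Helper16.McLM.LCovC31.rel131 p (by omega) (by omega) _ hm
  rcases Nat.lt_or_ge p 16226 with h132 | h132
  · exact (Table.relOK_iff relzPaths 16104 122).mp Cfsg.Agent.Lib.Helper16.McLM.LCovC32.rel132 p (by omega) (by omega) _ hm
  rcases Nat.lt_or_ge p 16348 with h133 | h133
  · exact (Table.relOK_iff relzPaths 16226 122).mp Cfsg.Agent.Lib.Helper16.McLM.LCovC32.rel133 p (by omega) (by omega) _ hm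
  rcases Nat.lt_or_ge p 16470 with h134 | h134
  · exact (Table.relOK_iff relzPaths 16348 122).mp Cfsg.Agent.Lib.Helper16.McLM.LCovC32.rel134 p (by omega) (by omega) _ hm
  rcases Nat.lt_or_ge p 16592 with h135 | h135
  · exact (Table.relOK_iff relzPaths 16470 122).mp Cfsg.Agent.Lib.Helper16.McLM.LCovC32.rel135 p (by omega) (by omega) _ hm
  rcases Nat.lt_or_ge p 16714 with h136 | h136
  · exact (Table.relOK_iff relzPaths 16592 122).mp Cfsg.Agent.Lib.Helper16.McLM.LCovC32.rel136 p (by omega) (by omega) _ hm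
  rcases Nat.lt_or_ge p 16836 with h137 | h137
  · exact (Table.relOK_iff relzPaths 16714 122).mp Cfsg.Agent.Lib.Helper16.McLM.LCovC33.rel137 p (by omega) (by omega) _ hm
  rcases Nat.lt_or_ge p 16958 with h138 | h138
  · exact (Table.relOK_iff relzPaths 16836 122).mp Cfsg.Agent.Lib.Helper16.McLM.LCovC33.rel138 p (by omega) (by omega) _ hm
  rcases Nat.lt_or_ge p 17080 with h139 | h139
  · exact (Table.relOK_iff relzPaths 16958 122).mp Cfsg.Agent.Lib.Helper16.McLM.LCovC33.rel139 p (by omega) (by omega) _ hm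
  rcases Nat.lt_or_ge p 17202 with h140 | h140
  · exact (Table.relOK_iff relzPaths 17080 122).mp Cfsg.Agent.Lib.Helper16.McLM.LCovC33.rel140 p (by omega) (by omega) _ hm
  rcases Nat.lt_or_ge p 17324 with h141 | h141
  · exact (Table.relOK_iff relzPaths 17202 122).mp Cfsg.Agent.Lib.Helper16.McLM.LCovC33.rel141 p (by omega) (by omega) _ hm
  rcases Nat.lt_or_ge p 17446 with h142 | h142
  · exact (Table.relOK_iff relzPaths 17324 122).mp Cfsg.Agent.Lib.Helper16.McLM.LCovC34.rel142 p (by omega) (by omega) _ hm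
  rcases Nat.lt_or_ge p 17568 with h143 | h143
  · exact (Table.relOK_iff relzPaths 17446 122).mp Cfsg.Agent.Lib.Helper16.McLM.LCovC34.rel143 p (by omega) (by omega) _ hm
  rcases Nat.lt_or_ge p 17690 with h144 | h144
  · exact (Table.relOK_iff relzPaths 17568 122).mp Cfsg.Agent.Lib.Helper16.McLM.LCovC34.rel144 p (by omega) (by omega) _ hm
  rcases Nat.lt_or_ge p 17812 with h145 | h145
  · exact (Table.relOK_iff relzPaths 17690 122).mp Cfsg.Agent.Lib.Helper16.McLM.LCovC34.rel145 p (by omega) (by omega) _ hm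
  rcases Nat.lt_or_ge p 17934 with h146 | h146
  · exact (Table.relOK_iff relzPaths 17812 122).mp Cfsg.Agent.Lib.Helper16.McLM.LCovC34.rel146 p (by omega) (by omega) _ hm
  rcases Nat.lt_or_ge p 18056 with h147 | h147
  · exact (Table.relOK_iff relzPaths 17934 122).mp Cfsg.Agent.Lib.Helper16.McLM.LCovC35.rel147 p (by omega) (by omega) _ hm
  rcases Nat.lt_or_ge p 18178 with h148 | h148
  · exact (Table.relOK_iff relzPaths 18056 122).mp Cfsg.Agent.Lib.Helper16.McLM.LCovC35.rel148 p (by omega) (by omega) _ hm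
  rcases Nat.lt_or_ge p 18300 with h149 | h149
  · exact (Table.relOK_iff relzPaths 18178 122).mp Cfsg.Agent.Lib.Helper16.McLM.LCovC35.rel149 p (by omega) (by omega) _ hm
  rcases Nat.lt_or_ge p 18422 with h150 | h150
  · exact (Table.relOK_iff relzPaths 18300 122).mp Cfsg.Agent.Lib.Helper16.McLM.LCovC35.rel150 p (by omega) (by omega) _ hm
  rcases Nat.lt_or_ge p 18544 with h151 | h151
  · exact (Table.relOK_iff relzPaths 18422 122).mp Cfsg.Agent.Lib.Helper16.McLM.LCovC35.rel151 p (by omega) (by omega) _ hm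
  rcases Nat.lt_or_ge p 18666 with h152 | h152
  · exact (Table.relOK_iff relzPaths 18544 122).mp Cfsg.Agent.Lib.Helper16.McLM.LCovC36.rel152 p (by omega) (by omega) _ hm
  rcases Nat.lt_or_ge p 18788 with h153 | h153
  · exact (Table.relOK_iff relzPaths 18666 122).mp Cfsg.Agent.Lib.Helper16.McLM.LCovC36.rel153 p (by omega) (by omega) _ hm
  rcases Nat.lt_or_ge p 18910 with h154 | h154
  · exact (Table.relOK_iff relzPaths 18788 122).mp Cfsg.Agent.Lib.Helper16.McLM.LCovC36.rel154 p (by omega) (by omega) _ hm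
  rcases Nat.lt_or_ge p 19032 with h155 | h155
  · exact (Table.relOK_iff relzPaths 18910 122).mp Cfsg.Agent.Lib.Helper16.McLM.LCovC36.rel155 p (by omega) (by omega) _ hm
  rcases Nat.lt_or_ge p 19154 with h156 | h156
  · exact (Table.relOK_iff relzPaths 19032 122).mp Cfsg.Agent.Lib.Helper16.McLM.LCovC36.rel156 p (by omega) (by omega) _ hm
  rcases Nat.lt_or_ge p 19276 with h157 | h157
  · exact (Table.relOK_iff relzPaths 19154 122).mp Cfsg.Agent.Lib.Helper16.McLM.LCovC37.rel157 p (by omega) (by omega) _ hm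
  rcases Nat.lt_or_ge p 19398 with h158 | h158
  · exact (Table.relOK_iff relzPaths 19276 122).mp Cfsg.Agent.Lib.Helper16.McLM.LCovC37.rel158 p (by omega) (by omega) _ hm
  rcases Nat.lt_or_ge p 19520 with h159 | h159
  · exact (Table.relOK_iff relzPaths 19398 122).mp Cfsg.Agent.Lib.Helper16.McLM.LCovC37.rel159 p (by omega) (by omega) _ hm
  rcases Nat.lt_or_ge p 19642 with h160 | h160
  · exact (Table.relOK_iff relzPaths 19520 122).mp Cfsg.Agent.Lib.Helper16.McLM.LCovC37.rel160 p (by omega) (by omega) _ hm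
  rcases Nat.lt_or_ge p 19764 with h161 | h161
  · exact (Table.relOK_iff relzPaths 19642 122).mp Cfsg.Agent.Lib.Helper16.McLM.LCovC37.rel161 p (by omega) (by omega) _ hm
  rcases Nat.lt_or_ge p 19886 with h162 | h162
  · exact (Table.relOK_iff relzPaths 19764 122).mp Cfsg.Agent.Lib.Helper16.McLM.LCovC38.rel162 p (by omega) (by omega) _ hm
  rcases Nat.lt_or_ge p 20008 with h163 | h163
  · exact (Table.relOK_iff relzPaths 19886 122).mp Cfsg.Agent.Lib.Helper16.McLM.LCovC38.rel163 p (by omega) (by omega) _ hm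
  rcases Nat.lt_or_ge p 20130 with h164 | h164
  · exact (Table.relOK_iff relzPaths 20008 122).mp Cfsg.Agent.Lib.Helper16.McLM.LCovC38.rel164 p (by omega) (by omega) _ hm
  rcases Nat.lt_or_ge p 20252 with h165 | h165
  · exact (Table.relOK_iff relzPaths 20130 122).mp Cfsg.Agent.Lib.Helper16.McLM.LCovC38.rel165 p (by omega) (by omega) _ hm
  rcases Nat.lt_or_ge p 20374 with h166 | h166
  · exact (Table.relOK_iff relzPaths 20252 122).mp Cfsg.Agent.Lib.Helper16.McLM.LCovC38.rel166 p (by omega) (by omega) _ hm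
  rcases Nat.lt_or_ge p 20496 with h167 | h167
  · exact (Table.relOK_iff relzPaths 20374 122).mp Cfsg.Agent.Lib.Helper16.McLM.LCovC39.rel167 p (by omega) (by omega) _ hm
  rcases Nat.lt_or_ge p 20618 with h168 | h168
  · exact (Table.relOK_iff relzPaths 20496 122).mp Cfsg.Agent.Lib.Helper16.McLM.LCovC39.rel168 p (by omega) (by omega) _ hm
  rcases Nat.lt_or_ge p 20740 with h169 | h169
  · exact (Table.relOK_iff relzPaths 20618 122).mp Cfsg.Agent.Lib.Helper16.McLM.LCovC39.rel169 p (by omega) (by omega) _ hm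
  rcases Nat.lt_or_ge p 20862 with h170 | h170
  · exact (Table.relOK_iff relzPaths 20740 122).mp Cfsg.Agent.Lib.Helper16.McLM.LCovC39.rel170 p (by omega) (by omega) _ hm
  rcases Nat.lt_or_ge p 20984 with h171 | h171
  · exact (Table.relOK_iff relzPaths 20862 122).mp Cfsg.Agent.Lib.Helper16.McLM.LCovC39.rel171 p (by omega) (by omega) _ hm
  rcases Nat.lt_or_ge p 21106 with h172 | h172
  · exact (Table.relOK_iff relzPaths 20984 122).mp Cfsg.Agent.Lib.Helper16.McLM.LCovC40.rel172 p (by omega) (by omega) _ hm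
  rcases Nat.lt_or_ge p 21228 with h173 | h173
  · exact (Table.relOK_iff relzPaths 21106 122).mp Cfsg.Agent.Lib.Helper16.McLM.LCovC40.rel173 p (by omega) (by omega) _ hm
  rcases Nat.lt_or_ge p 21350 with h174 | h174
  · exact (Table.relOK_iff relzPaths 21228 122).mp Cfsg.Agent.Lib.Helper16.McLM.LCovC40.rel174 p (by omega) (by omega) _ hm
  rcases Nat.lt_or_ge p 21472 with h175 | h175
  · exact (Table.relOK_iff relzPaths 21350 122).mp Cfsg.Agent.Lib.Helper16.McLM.LCovC40.rel175 p (by omega) (by omega) _ hm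
  rcases Nat.lt_or_ge p 21594 with h176 | h176
  · exact (Table.relOK_iff relzPaths 21472 122).mp Cfsg.Agent.Lib.Helper16.McLM.LCovC40.rel176 p (by omega) (by omega) _ hm
  rcases Nat.lt_or_ge p 21716 with h177 | h177
  · exact (Table.relOK_iff relzPaths 21594 122).mp Cfsg.Agent.Lib.Helper16.McLM.LCovC41.rel177 p (by omega) (by omega) _ hm
  rcases Nat.lt_or_ge p 21838 with h178 | h178
  · exact (Table.relOK_iff relzPaths 21716 122).mp Cfsg.Agent.Lib.Helper16.McLM.LCovC41.rel178 p (by omega) (by omega) _ hm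
  rcases Nat.lt_or_ge p 21960 with h179 | h179
  · exact (Table.relOK_iff relzPaths 21838 122).mp Cfsg.Agent.Lib.Helper16.McLM.LCovC41.rel179 p (by omega) (by omega) _ hm
  rcases Nat.lt_or_ge p 22082 with h180 | h180
  · exact (Table.relOK_iff relzPaths 21960 122).mp Cfsg.Agent.Lib.Helper16.McLM.LCovC41.rel180 p (by omega) (by omega) _ hm
  rcases Nat.lt_or_ge p 22204 with h181 | h181
  · exact (Table.relOK_iff relzPaths 22082 122).mp Cfsg.Agent.Lib.Helper16.McLM.LCovC41.rel181 p (by omega) (by omega) _ hm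
  exact (Table.relOK_iff relzPaths 22204 71).mp Cfsg.Agent.Lib.Helper16.McLM.LCovC42.rel182 p (by omega) (by omega) _ hm

end Cfsg.Agent.Lib.Helper16.McLM.LCovLow
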