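import Cfsg.Agent.Lib.Helper28.TC2Upper
import Cfsg.Agent.Lib.Helper16.McLM.P3DataC0
set_option autoImplicit false
set_option maxRecDepth 100000

namespace Cfsg.Agent.Lib.Helper16.McLM.P3Data
open Cfsg.Agent.Lib.Helper28.TC2Upper

/-- relators -/
def relT : BT (ℕ × List ℕ × List ℕ) := (BT.node 67 (BT.node 33 (BT.node 16 (BT.node 8 (BT.node 4 (BT.node 2 (BT.node 1 (BT.node 0 (BT.leaf (4, [0, 0, 0, 0], [1, 1, 1, 1])) (BT.leaf (3, [2, 2, 2], [3, 3, 3]))) (BT.leaf (14, [2, 0, 2, 0, 2, 0, 2, 0, 2, 0, 2, 0, 2, 0], [1, 3, 1, 3, 1, 3, 1, 3, 1, 3, 1, 3, 1, 3]))) (BT.node 3 (BT.leaf (6, [3, 1, 1, 2, 0, 0], [1, 1, 3, 0, 0, 2])) (BT.leaf (18, [0, 0, 3, 1, 2, 0, 3, 1, 2, 0, 3, 1, 2, 0, 3, 1, 2, 0], [1, 3, 0, 2, 1, 3, 0, 2, 1, 3, 0, 2, 1, 3, 0, 2, 1, 1])))) (BT.node 6 (BT.node 5 (BT.leaf (6, [1,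 1, 5, 1, 1, 4], [5, 0, 0, 4, 0, 0])) (BT.leaf (6, [1, 1, 5, 0, 0, 4], [5, 1, 1, 4, 0, 0]))) (BT.node 7 (BT.leaf (7, [4, 4, 4, 4, 4, 4, 4], [5, 5, 5, 5, 5, 5, 5])) (BT.leaf (8, [1, 1, 4, 2, 1, 1, 3, 5], [4, 2, 0, 0, 3, 5, 0, 0]))))) (BT.node 12 (BT.node 10 (BT.node 9 (BT.leaf (8, [1, 1, 4, 2, 0, 0, 3, 5], [4, 2, 1, 1, 3, 5, 0, 0])) (BT.leaf (8, [1, 2, 1, 3, 1, 4, 1, 5], [4, 0, 5, 0, 2, 0, 3, 0]))) (BT.node 11 (BT.leaf (8, [1, 2, 1, 3, 0, 4, 0, 5], [4, 1, 5, 1, 2, 0, 3, 0])) (BT.leaf (8, [1, 1, 4, 3, 1, 1, 2, 5], [4, 3, 0, 0, 2, 5, 0, 0])))) (BT.node 14 (BT.node 13 (BT.leaf (8, [1, 1, 4, 3, 0, 0, 2, 5], [4, 3, 1, 1, 2, 5, 0, 0])) (BT.leaf (8, [1, 3, 1, 4, 0, 5, 0, 2], [3, 1, 4, 1, 5, 0, 2, 0]))) (BT.node 15 (BT.leaf (8, [1, 1, 5, 2, 1, 1, 3, 4], [5, 2, 0, 0, 3, 4, 0, 0])) (BT.leaf (8,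 [1, 1, 5, 2, 0, 0, 3, 4], [5, 2, 1, 1, 3, 4, 0, 0])))))) (BT.node 25 (BT.node 21 (BT.node 19 (BT.node 18 (BT.node 17 (BT.leaf (8, [1, 1, 5, 3, 1, 1, 2, 4], [5, 3, 0, 0, 2, 4, 0, 0])) (BT.leaf (8, [1, 1, 5, 3, 0, 0, 2, 4], [5, 3, 1, 1, 2, 4, 0, 0]))) (BT.leaf (8, [1, 1, 5, 5, 1, 1, 4, 4], [5, 5, 0, 0, 4, 4, 0, 0]))) (BT.node 20 (BT.leaf (8, [1, 1, 5, 5, 0, 0, 4, 4], [5, 5, 1, 1, 4, 4, 0, 0])) (BT.leaf (9, [2, 1, 4, 1, 5, 0, 2, 0, 2], [3, 1, 3, 1, 4, 0, 5, 0, 3])))) (BT.node 23 (BT.node 22 (BT.leaf (10, [1, 1, 3, 5, 3, 5, 3, 5, 3, 5], [4, 2, 4, 2, 4, 2, 4, 2, 0, 0])) (BT.leaf (10, [2, 4, 2, 5, 1, 2, 4, 0, 3, 5], [4, 2, 1, 5, 3, 0, 4, 3, 5, 3]))) (BT.node 24 (BT.leaf (10, [1, 1, 4, 2, 5, 1, 1, 4, 3, 5], [4, 2, 5, 0, 0, 4, 3, 5, 0, 0])) (BT.leaf (10, [1, 1, 4, 2, 5, 0, 0, 4, 3, 5], [4,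 2, 5, 1, 1, 4, 3, 5, 0, 0]))))) (BT.node 29 (BT.node 27 (BT.node 26 (BT.leaf (10, [2, 0, 5, 3, 1, 4, 3, 5, 3, 4], [5, 2, 4, 2, 5, 0, 2, 4, 1, 3])) (BT.leaf (10, [0, 3, 5, 3, 5, 5, 2, 0, 3, 4], [5, 2, 1, 3, 4, 4, 2, 4, 2, 1]))) (BT.node 28 (BT.leaf (10, [3, 5, 5, 1, 4, 3, 5, 5, 0, 4], [5, 1, 4, 4, 2, 5, 0, 4, 4, 2])) (BT.leaf (10, [1, 1, 5, 1, 4, 1, 1, 5, 0, 4], [5, 1, 4, 0, 0, 5, 0, 4, 0, 0])))) (BT.node 31 (BT.node 30 (BT.leaf (10, [1, 1, 5, 1, 4, 0, 0, 5, 0, 4], [5, 1, 4, 1, 1, 5, 0, 4, 0, 0])) (BT.leaf (10, [1, 1, 5, 1, 3, 1, 1, 2, 0, 4], [5, 1, 3, 0, 0, 2, 0, 4, 0, 0]))) (BT.node 32 (BT.leaf (10, [1, 1, 5, 1, 3, 0, 0, 2, 0, 4], [5, 1, 3, 1, 1, 2, 0, 4, 0, 0])) (BT.leaf (10, [2, 4, 2, 1, 4, 2, 4, 2, 0, 4], [5, 1, 3, 5, 3, 5, 0, 3, 5, 3]))))))) (BT.node 50 (BT.node 42 (BT.node 38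 (BT.node 36 (BT.node 35 (BT.node 34 (BT.leaf (2, [6, 6], [7, 7])) (BT.leaf (6, [1, 6, 1, 6, 1, 6], [7, 0, 7, 0, 7, 0]))) (BT.leaf (8, [2, 6, 2, 6, 2, 6, 2, 6], [7, 3, 7, 3, 7, 3, 7, 3]))) (BT.node 37 (BT.leaf (9, [2, 6, 3, 6, 3, 6, 3, 6, 2], [3, 7, 2, 7, 2, 7, 2, 7, 3])) (BT.leaf (10, [1, 4, 0, 6, 1, 6, 1, 6, 5, 1], [0, 4, 7, 0, 7, 0, 7, 1, 5, 0])))) (BT.node 40 (BT.node 39 (BT.leaf (10, [1, 4, 1, 6, 0, 6, 0, 6, 5, 1], [0, 4, 7, 1, 7, 1, 7, 0, 5, 0])) (BT.leaf (10, [1, 5, 0, 6, 1, 6, 1, 6, 4, 1], [0, 5, 7, 0, 7, 0, 7, 1, 4, 0]))) (BT.node 41 (BT.leaf (10, [1, 5, 1, 6, 0, 6, 0, 6, 4, 1], [0, 5, 7, 1, 7, 1, 7, 0, 4, 0])) (BT.leaf (10, [1, 1, 5, 6, 0, 6, 0, 6, 1, 4], [5, 0, 7, 1, 7, 1, 7, 4, 0, 0]))))) (BT.node 46 (BT.node 44 (BT.node 43 (BT.leaf (10, [1, 1, 5, 6, 1, 6, 1, 6, 0, 4], [5,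 1, 7, 0, 7, 0, 7, 4, 0, 0])) (BT.leaf (10, [4, 6, 4, 6, 4, 6, 4, 6, 4, 6], [7, 5, 7, 5, 7, 5, 7, 5, 7, 5]))) (BT.node 45 (BT.leaf (11, [6, 3, 6, 4, 3, 1, 4, 3, 1, 6, 2], [3, 7, 0, 2, 5, 0, 2, 5, 7, 2, 7])) (BT.leaf (11, [1, 2, 5, 1, 2, 5, 6, 2, 6, 3, 6], [7, 2, 7, 3, 7, 4, 3, 0, 4, 3, 0])))) (BT.node 48 (BT.node 47 (BT.leaf (11, [5, 1, 5, 2, 5, 0, 5, 6, 1, 1, 6], [7, 0, 0, 7, 4, 1, 4, 3, 4, 0, 4])) (BT.leaf (11, [5, 1, 5, 2, 5, 0, 5, 6, 0, 0, 6], [7, 1, 1, 7, 4, 1, 4, 3, 4, 0, 4]))) (BT.node 49 (BT.leaf (12, [3, 6, 3, 6, 4, 3, 1, 4, 3, 1, 6, 3], [2, 7, 0, 2, 5, 0, 2, 5, 7, 2, 7, 2])) (BT.leaf (12, [3, 6, 3, 6, 4, 3, 0, 4, 3, 0, 6, 3], [2, 7, 1, 2, 5, 1, 2, 5, 7, 2, 7, 2])))))) (BT.node 59 (BT.node 55 (BT.node 53 (BT.node 52 (BT.node 51 (BT.leaf (12, [2, 6, 2, 0, 2, 5, 0, 2, 5, 6, 3,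 6], [7, 2, 7, 4, 3, 1, 4, 3, 1, 3, 7, 3])) (BT.leaf (12, [2, 6, 2, 4, 3, 1, 4, 3, 1, 6, 3, 6], [7, 2, 7, 0, 2, 5, 0, 2, 5, 3, 7, 3]))) (BT.leaf (12, [3, 1, 2, 0, 2, 6, 3, 1, 2, 0, 2, 6], [7, 3, 1, 3, 0, 2, 7, 3, 1, 3, 0, 2]))) (BT.node 54 (BT.leaf (12, [1, 2, 5, 1, 2, 5, 3, 6, 3, 6, 2, 6], [7, 3, 7, 2, 7, 2, 4, 3, 0, 4, 3, 0])) (BT.leaf (12, [5, 6, 4, 6, 5, 6, 4, 6, 5, 6, 4, 6], [7, 5, 7, 4, 7, 5, 7, 4, 7, 5, 7, 4])))) (BT.node 57 (BT.node 56 (BT.leaf (13, [5, 6, 1, 3, 6, 5, 3, 0, 5, 5, 6, 4, 0], [1, 5, 7, 4, 4, 1, 2, 4, 7, 2, 0, 7, 4])) (BT.leaf (13, [6, 3, 6, 4, 4, 1, 3, 5, 2, 4, 1, 6, 2], [3, 7, 0, 5, 3, 4, 2, 0, 5, 5, 7, 2, 7]))) (BT.node 58 (BT.leaf (13, [6, 3, 6, 4, 4, 0, 3, 5, 2, 4, 0, 6, 2], [3, 7, 1, 5, 3, 4, 2, 1, 5, 5, 7, 2, 7])) (BT.leaf (13, [5, 1, 5, 2, 5, 0, 5, 6, 4,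 1, 1, 5, 6], [7, 4, 0, 0, 5, 7, 4, 1, 4, 3, 4, 0, 4]))))) (BT.node 63 (BT.node 61 (BT.node 60 (BT.leaf (13, [5, 1, 5, 2, 5, 0, 5, 6, 4, 0, 0, 5, 6], [7, 4, 1, 1, 5, 7, 4, 1, 4, 3, 4, 0, 4])) (BT.leaf (13, [5, 1, 5, 2, 5, 0, 5, 6, 2, 1, 1, 3, 6], [7, 2, 0, 0, 3, 7, 4, 1, 4, 3, 4, 0, 4]))) (BT.node 62 (BT.leaf (13, [3, 1, 2, 0, 2, 6, 3, 4, 1, 5, 0, 3, 6], [7, 2, 1, 4, 0, 5, 2, 7, 3, 1, 3, 0, 2])) (BT.leaf (13, [5, 1, 5, 2, 5, 0, 5, 6, 2, 0, 0, 3, 6], [7, 2, 1, 1, 3, 7, 4, 1, 4, 3, 4, 0, 4])))) (BT.node 65 (BT.node 64 (BT.leaf (13, [1, 5, 1, 5, 2, 5, 1, 5, 6, 1, 6, 0, 6], [7, 1, 7, 0, 7, 4, 0, 4, 3, 4, 0, 4, 0])) (BT.leaf (13, [5, 1, 5, 2, 5, 0, 5, 6, 3, 1, 1, 2, 6], [7, 3, 0, 0, 2, 7, 4, 1, 4, 3, 4, 0, 4]))) (BT.node 66 (BT.leaf (13, [5, 1, 5, 2, 5, 0, 5, 6, 3, 0, 0, 2, 6], [7, 3, 1,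 1, 2, 7, 4, 1, 4, 3, 4, 0, 4])) (BT.leaf (13, [5, 1, 5, 2, 5, 0, 5, 6, 5, 1, 1, 4, 6], [7, 5, 0, 0, 4, 7, 4, 1, 4, 3, 4, 0, 4])))))))) (BT.node 101 (BT.node 84 (BT.node 76 (BT.node 72 (BT.node 70 (BT.node 69 (BT.node 68 (BT.leaf (13, [5, 1, 5, 2, 5, 0, 5, 6, 5, 0, 0, 4, 6], [7, 5, 1, 1, 4, 7, 4, 1, 4, 3, 4, 0, 4])) (BT.leaf (14, [1, 5, 6, 4, 4, 1, 3, 3, 4, 6, 2, 0, 6, 4], [5, 7, 1, 3, 7, 5, 2, 2, 0, 5, 5, 7, 4, 0]))) (BT.leaf (14, [4, 6, 4, 6, 4, 1, 6, 1, 6, 1, 4, 6, 4, 6], [7, 5, 7, 5, 0, 7, 0, 7, 0, 5, 7, 5, 7, 5]))) (BT.node 71 (BT.leaf (14, [4, 6, 4, 6, 4, 0, 6, 0, 6, 0, 4, 6, 4, 6], [7, 5, 7, 5, 1, 7, 1, 7, 1, 5, 7, 5, 7, 5])) (BT.leaf (15, [2, 1, 5, 6, 3, 1, 4, 2, 1, 4, 4, 6, 3, 5, 0], [1, 4, 2, 7, 5, 5, 0, 3, 5, 0, 2, 7, 4, 0, 3])))) (BT.node 74 (BT.node 73 (BT.leaf (15, [2,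 1, 5, 6, 3, 0, 4, 2, 0, 4, 4, 6, 3, 5, 0], [1, 4, 2, 7, 5, 5, 1, 3, 5, 1, 2, 7, 4, 0, 3])) (BT.leaf (15, [2, 5, 6, 1, 1, 5, 2, 4, 3, 5, 6, 3, 0, 5, 0], [1, 4, 1, 2, 7, 4, 2, 5, 3, 4, 0, 0, 7, 4, 3]))) (BT.node 75 (BT.leaf (15, [4, 2, 6, 4, 2, 5, 0, 0, 3, 4, 6, 4, 0, 3, 0], [1, 2, 1, 5, 7, 5, 2, 1, 1, 4, 3, 5, 7, 3, 5])) (BT.leaf (15, [4, 1, 2, 6, 5, 5, 1, 3, 5, 1, 2, 6, 4, 3, 0], [1, 2, 5, 7, 3, 0, 4, 2, 0, 4, 4, 7, 3, 0, 5]))))) (BT.node 80 (BT.node 78 (BT.node 77 (BT.leaf (15, [4, 1, 2, 6, 5, 5, 0, 3, 5, 0, 2, 6, 4, 3, 0], [1, 2, 5, 7, 3, 1, 4, 2, 1, 4, 4, 7, 3, 0, 5])) (BT.leaf (15, [5, 1, 5, 2, 5, 0, 5, 6, 4, 4, 1, 1, 5, 5, 6], [7, 4, 4, 0, 0, 5, 5, 7, 4, 1, 4, 3, 4, 0, 4]))) (BT.node 79 (BT.leaf (15, [5, 1, 5, 2, 5, 0, 5, 6, 4, 4, 0, 0, 5, 5, 6], [7, 4, 4, 1, 1, 5, 5, 7, 4, 1,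 4, 3, 4, 0, 4])) (BT.leaf (15, [5, 1, 5, 2, 5, 0, 5, 6, 4, 2, 1, 1, 3, 5, 6], [7, 4, 2, 0, 0, 3, 5, 7, 4, 1, 4, 3, 4, 0, 4])))) (BT.node 82 (BT.node 81 (BT.leaf (15, [5, 1, 5, 2, 5, 0, 5, 6, 4, 2, 0, 0, 3, 5, 6], [7, 4, 2, 1, 1, 3, 5, 7, 4, 1, 4, 3, 4, 0, 4])) (BT.leaf (15, [5, 3, 1, 3, 5, 1, 5, 3, 6, 5, 2, 4, 3, 5, 6], [7, 4, 2, 5, 3, 4, 7, 2, 4, 0, 4, 2, 0, 2, 4]))) (BT.node 83 (BT.leaf (15, [3, 1, 4, 2, 1, 4, 4, 6, 3, 5, 1, 2, 0, 5, 6], [7, 4, 1, 3, 0, 4, 2, 7, 5, 5, 0, 3, 5, 0, 2])) (BT.leaf (15, [2, 1, 4, 4, 3, 5, 5, 6, 2, 1, 6, 4, 0, 5, 6], [7, 4, 1, 5, 7, 0, 3, 7, 4, 4, 2, 5, 5, 0, 3])))))) (BT.node 93 (BT.node 89 (BT.node 87 (BT.node 86 (BT.node 85 (BT.leaf (15, [1, 1, 5, 2, 4, 3, 5, 6, 3, 1, 5, 1, 2, 5, 6], [7, 4, 3, 0, 4, 0, 2, 7, 4, 2, 5, 3, 4, 0, 0])) (BT.leaf (15, [3,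 1, 4, 2, 1, 4, 4, 6, 3, 1, 5, 0, 2, 5, 6], [7, 4, 3, 1, 4, 0, 2, 7, 5, 5, 0, 3, 5, 0, 2]))) (BT.leaf (15, [3, 1, 2, 0, 2, 6, 2, 1, 2, 4, 4, 4, 2, 5, 6], [7, 4, 3, 5, 5, 5, 3, 0, 3, 7, 3, 1, 3, 0, 2]))) (BT.node 88 (BT.leaf (15, [5, 1, 5, 2, 5, 0, 5, 6, 2, 5, 1, 1, 4, 3, 6], [7, 2, 5, 0, 0, 4, 3, 7, 4, 1, 4, 3, 4, 0, 4])) (BT.leaf (15, [5, 1, 5, 2, 5, 0, 5, 6, 2, 5, 0, 0, 4, 3, 6], [7, 2, 5, 1, 1, 4, 3, 7, 4, 1, 4, 3, 4, 0, 4])))) (BT.node 91 (BT.node 90 (BT.leaf (15, [5, 1, 5, 2, 5, 0, 5, 6, 1, 4, 1, 1, 5, 0, 6], [7, 1, 4, 0, 0, 5, 0, 7, 4, 1, 4, 3, 4, 0, 4])) (BT.leaf (15, [5, 1, 5, 2, 5, 0, 5, 6, 1, 4, 0, 0, 5, 0, 6], [7, 1, 4, 1, 1, 5, 0, 7, 4, 1, 4, 3, 4, 0, 4]))) (BT.node 92 (BT.leaf (15, [5, 1, 5, 2, 5, 0, 5, 6, 1, 2, 1, 1, 3, 0, 6], [7, 1, 2, 0, 0, 3, 0, 7, 4, 1, 4, 3, 4, 0,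 4])) (BT.leaf (15, [5, 1, 5, 2, 5, 0, 5, 6, 1, 2, 0, 0, 3, 0, 6], [7, 1, 2, 1, 1, 3, 0, 7, 4, 1, 4, 3, 4, 0, 4]))))) (BT.node 97 (BT.node 95 (BT.node 94 (BT.leaf (15, [5, 2, 5, 1, 2, 4, 2, 5, 6, 1, 3, 6, 3, 0, 6], [7, 1, 2, 7, 2, 0, 7, 4, 3, 5, 3, 0, 4, 3, 4])) (BT.leaf (15, [5, 1, 5, 2, 5, 0, 5, 6, 1, 3, 1, 1, 2, 0, 6], [7, 1, 3, 0, 0, 2, 0, 7, 4, 1, 4, 3, 4, 0, 4]))) (BT.node 96 (BT.leaf (15, [5, 1, 5, 2, 5, 0, 5, 6, 1, 3, 0, 0, 2, 0, 6], [7, 1, 3, 1, 1, 2, 0, 7, 4, 1, 4, 3, 4, 0, 4])) (BT.leaf (15, [4, 3, 0, 3, 5, 2, 4, 4, 6, 1, 2, 6, 2, 0, 6], [7, 1, 3, 7, 3, 0, 7, 5, 5, 3, 4, 2, 1, 2, 5])))) (BT.node 99 (BT.node 98 (BT.leaf (15, [5, 1, 5, 2, 5, 0, 5, 6, 1, 5, 1, 1, 4, 0, 6], [7, 1, 5, 0, 0, 4, 0, 7, 4, 1, 4, 3, 4, 0, 4])) (BT.leaf (15, [5, 1, 5, 2, 5, 0, 5, 6, 1, 5, 0, 0, 4, 0,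 6], [7, 1, 5, 1, 1, 4, 0, 7, 4, 1, 4, 3, 4, 0, 4]))) (BT.node 100 (BT.leaf (15, [5, 1, 5, 2, 5, 0, 5, 6, 3, 4, 1, 1, 5, 2, 6], [7, 3, 4, 0, 0, 5, 2, 7, 4, 1, 4, 3, 4, 0, 4])) (BT.leaf (15, [5, 1, 5, 2, 5, 0, 5, 6, 3, 4, 0, 0, 5, 2, 6], [7, 3, 4, 1, 1, 5, 2, 7, 4, 1, 4, 3, 4, 0, 4]))))))) (BT.node 118 (BT.node 110 (BT.node 106 (BT.node 104 (BT.node 103 (BT.node 102 (BT.leaf (15, [1, 1, 6, 3, 1, 4, 6, 0, 6, 1, 6, 5, 0, 2, 6], [7, 3, 1, 4, 7, 0, 7, 1, 7, 5, 0, 2, 7, 0, 0])) (BT.leaf (15, [5, 5, 1, 3, 5, 1, 2, 6, 4, 3, 1, 4, 0, 2, 6], [7, 3, 1, 5, 0, 2, 5, 7, 3, 0, 4, 2, 0, 4, 4]))) (BT.leaf (15, [1, 1, 4, 2, 5, 3, 4, 6, 4, 3, 0, 4, 0, 2, 6], [7, 3, 1, 5, 1, 2, 5, 7, 5, 2, 4, 3, 5, 0, 0]))) (BT.node 105 (BT.leaf (15, [5, 1, 5, 2, 5, 0, 5, 6, 3, 5, 1, 1, 4, 2, 6], [7, 3, 5, 0, 0, 4, 2,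 7, 4, 1, 4, 3, 4, 0, 4])) (BT.leaf (15, [5, 5, 1, 3, 5, 1, 2, 6, 4, 1, 3, 0, 4, 2, 6], [7, 3, 5, 1, 2, 0, 5, 7, 3, 0, 4, 2, 0, 4, 4])))) (BT.node 108 (BT.node 107 (BT.leaf (15, [5, 1, 5, 2, 5, 0, 5, 6, 3, 5, 0, 0, 4, 2, 6], [7, 3, 5, 1, 1, 4, 2, 7, 4, 1, 4, 3, 4, 0, 4])) (BT.leaf (15, [2, 4, 1, 4, 2, 1, 2, 4, 6, 4, 2, 5, 3, 4, 6], [7, 5, 2, 4, 3, 5, 7, 5, 3, 0, 3, 5, 0, 5, 3]))) (BT.node 109 (BT.leaf (15, [5, 1, 5, 2, 5, 0, 5, 6, 5, 2, 1, 1, 3, 4, 6], [7, 5, 2, 0, 0, 3, 4, 7, 4, 1, 4, 3, 4, 0, 4])) (BT.leaf (15, [5, 1, 5, 2, 5, 0, 5, 6, 5, 2, 0, 0, 3, 4, 6], [7, 5, 2, 1, 1, 3, 4, 7, 4, 1, 4, 3, 4, 0, 4]))))) (BT.node 114 (BT.node 112 (BT.node 111 (BT.leaf (15, [1, 2, 4, 0, 4, 6, 2, 4, 4, 1, 6, 5, 0, 4, 6], [7, 5, 1, 4, 7, 0, 5, 5, 3, 7, 5, 1, 5, 3, 0])) (BT.leaf (15, [5, 1, 5, 2, 5,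 0, 5, 6, 5, 3, 1, 1, 2, 4, 6], [7, 5, 3, 0, 0, 2, 4, 7, 4, 1, 4, 3, 4, 0, 4]))) (BT.node 113 (BT.leaf (15, [5, 1, 5, 2, 5, 0, 5, 6, 5, 3, 0, 0, 2, 4, 6], [7, 5, 3, 1, 1, 2, 4, 7, 4, 1, 4, 3, 4, 0, 4])) (BT.leaf (15, [5, 1, 5, 2, 5, 0, 5, 6, 5, 5, 1, 1, 4, 4, 6], [7, 5, 5, 0, 0, 4, 4, 7, 4, 1, 4, 3, 4, 0, 4])))) (BT.node 116 (BT.node 115 (BT.leaf (15, [5, 1, 5, 2, 5, 0, 5, 6, 5, 5, 0, 0, 4, 4, 6], [7, 5, 5, 1, 1, 4, 4, 7, 4, 1, 4, 3, 4, 0, 4])) (BT.leaf (15, [5, 5, 6, 4, 6, 5, 5, 6, 4, 6, 5, 5, 6, 4, 6], [7, 5, 7, 4, 4, 7, 5, 7, 4, 4, 7, 5, 7, 4, 4]))) (BT.node 117 (BT.leaf (16, [1, 2, 1, 5, 6, 5, 3, 1, 1, 3, 4, 3, 5, 6, 3, 5], [4, 2, 7, 4, 2, 5, 2, 0, 0, 2, 4, 7, 4, 0, 3, 0])) (BT.leaf (16, [1, 2, 1, 5, 6, 5, 3, 1, 3, 4, 1, 4, 2, 6, 3, 5], [4, 2, 7, 3, 5, 0, 5, 2, 0, 2, 4, 7, 4, 0,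 3, 0])))))) (BT.node 126 (BT.node 122 (BT.node 120 (BT.node 119 (BT.leaf (16, [3, 5, 6, 1, 2, 0, 2, 5, 1, 5, 5, 5, 6, 5, 2, 4], [5, 3, 4, 7, 4, 4, 4, 0, 4, 3, 1, 3, 0, 7, 4, 2])) (BT.leaf (16, [3, 5, 6, 1, 2, 1, 2, 5, 0, 5, 5, 5, 6, 5, 2, 4], [5, 3, 4, 7, 4, 4, 4, 1, 4, 3, 0, 3, 0, 7, 4, 2]))) (BT.node 121 (BT.leaf (16, [3, 5, 6, 5, 5, 5, 1, 2, 1, 4, 4, 4, 6, 5, 2, 4], [5, 3, 4, 7, 5, 5, 5, 0, 3, 0, 4, 4, 4, 7, 4, 2])) (BT.leaf (16, [3, 5, 6, 5, 5, 5, 0, 2, 0, 4, 4, 4, 6, 5, 2, 4], [5, 3, 4, 7, 5, 5, 5, 1, 3, 1, 4, 4, 4, 7, 4, 2])))) (BT.node 124 (BT.node 123 (BT.leaf (16, [1, 3, 4, 1, 4, 4, 1, 4, 6, 5, 5, 2, 5, 3, 5, 6], [7, 4, 2, 4, 3, 4, 4, 7, 5, 0, 5, 5, 0, 5, 2, 0])) (BT.leaf (16, [3, 1, 4, 2, 1, 4, 4, 6, 3, 5, 1, 3, 3, 0, 5, 6], [7, 4, 1, 2, 2, 0, 4, 2, 7, 5, 5, 0, 3, 5, 0, 2])))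 (BT.node 125 (BT.leaf (16, [3, 1, 5, 1, 2, 5, 6, 5, 5, 3, 5, 3, 5, 2, 5, 6], [7, 4, 3, 4, 2, 4, 2, 4, 4, 7, 4, 3, 0, 4, 0, 2])) (BT.leaf (16, [3, 1, 5, 1, 2, 5, 6, 2, 1, 5, 3, 1, 4, 2, 5, 6], [7, 4, 3, 5, 0, 2, 4, 0, 3, 7, 4, 3, 0, 4, 0, 2]))))) (BT.node 130 (BT.node 128 (BT.node 127 (BT.leaf (16, [1, 4, 2, 5, 3, 4, 1, 6, 3, 5, 5, 0, 3, 5, 3, 6], [7, 2, 4, 2, 1, 4, 4, 2, 7, 0, 5, 2, 4, 3, 5, 0])) (BT.leaf (16, [1, 2, 4, 4, 4, 1, 4, 2, 6, 1, 2, 4, 1, 5, 3, 6], [7, 2, 4, 0, 5, 3, 0, 7, 3, 5, 0, 5, 5, 5, 3, 0]))) (BT.node 129 (BT.leaf (16, [3, 1, 3, 0, 2, 6, 4, 3, 4, 4, 4, 4, 3, 0, 3, 6], [7, 2, 1, 2, 5, 5, 5, 5, 2, 5, 7, 3, 1, 2, 0, 2])) (BT.leaf (16, [1, 3, 1, 4, 4, 0, 2, 4, 6, 3, 1, 6, 2, 0, 3, 6], [7, 2, 1, 3, 7, 0, 2, 7, 5, 3, 1, 5, 5, 0, 2, 0])))) (BT.node 132 (BT.node 131 (BT.leaf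 (16, [4, 1, 3, 1, 4, 2, 6, 4, 3, 5, 0, 2, 4, 0, 3, 6], [7, 2, 1, 5, 3, 1, 4, 2, 5, 7, 3, 5, 0, 2, 0, 5])) (BT.leaf (16, [5, 3, 0, 5, 5, 6, 4, 4, 3, 4, 0, 4, 6, 0, 3, 6], [7, 2, 1, 7, 5, 1, 5, 2, 5, 5, 7, 4, 4, 1, 2, 4]))) (BT.node 133 (BT.leaf (16, [3, 5, 1, 5, 5, 5, 3, 1, 6, 2, 4, 0, 5, 3, 0, 6], [7, 1, 2, 4, 1, 5, 3, 7, 0, 2, 4, 4, 4, 0, 4, 2])) (BT.leaf (16, [1, 2, 5, 1, 2, 5, 2, 6, 3, 4, 3, 0, 4, 3, 0, 6], [7, 1, 2, 5, 1, 2, 5, 2, 7, 3, 4, 3, 0, 4, 3, 0])))))))))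
/-- subgroup generators -/
def subT : BT (ℕ × List ℕ × List ℕ) := (BT.node 1 (BT.node 0 (BT.leaf (1, [0], [1])) (BT.leaf (1, [2], [3]))) (BT.leaf (1, [4], [5])))
/-- fact chunks -/
def colET : BT ℕ := (BT.node 197 (BT.node 98 (BT.node 49 (BT.node 24 (BT.node 12 (BT.node 6 (BT.node 3 (BT.node 1 (BT.node 0 (BT.leaf cE0) (BT.leaf cE1)) (BT.node 2 (BT.leaf cE2) (BT.leaf cE3))) (BT.node 5 (BT.node 4 (BT.leaf cE4) (BT.leaf cE5)) (BT.leaf cE6))) (BT.node 9 (BT.node 8 (BT.node 7 (BT.leaf cE7) (BT.leaf cE8)) (BT.leaf cE9)) (BT.node 11 (BT.node 10 (BT.leaf cE10) (BT.leaf cE11)) (BT.leaf cE12)))) (BT.node 18 (BT.node 15 (BT.node 14 (BT.node 13 (BT.leaf cE13) (BT.leaf cE14)) (BT.leaf cE15)) (BT.node 17 (BT.node 16 (BT.leaf cE16) (BT.leaf cE17)) (BT.leaf cE18))) (BT.node 21 (BT.node 20 (BT.node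 19 (BT.leaf cE19) (BT.leaf cE20)) (BT.leaf cE21)) (BT.node 23 (BT.node 22 (BT.leaf cE22) (BT.leaf cE23)) (BT.leaf cE24))))) (BT.node 37 (BT.node 31 (BT.node 28 (BT.node 26 (BT.node 25 (BT.leaf cE25) (BT.leaf cE26)) (BT.node 27 (BT.leaf cE27) (BT.leaf cE28))) (BT.node 30 (BT.node 29 (BT.leaf cE29) (BT.leaf cE30)) (BT.leaf cE31))) (BT.node 34 (BT.node 33 (BT.node 32 (BT.leaf cE32) (BT.leaf cE33)) (BT.leaf cE34)) (BT.node 36 (BT.node 35 (BT.leaf cE35) (BT.leaf cE36)) (BT.leaf cE37)))) (BT.node 43 (BT.node 40 (BT.node 39 (BT.node 38 (BT.leaf cE38) (BT.leaf cE39)) (BT.leaf cE40)) (BT.node 42 (BT.node 41 (BT.leaf cE41) (BT.leaf cE42)) (BT.leaf cE43))) (BT.node 46 (BT.node 45 (BT.node 44 (BT.leaf cE44) (BT.leaf cE45)) (BT.leaf cE46)) (BT.node 48 (BT.node 47 (BT.leaf cE47) (BT.leaf cE48))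 (BT.leaf cE49)))))) (BT.node 74 (BT.node 62 (BT.node 56 (BT.node 53 (BT.node 51 (BT.node 50 (BT.leaf cE50) (BT.leaf cE51)) (BT.node 52 (BT.leaf cE52) (BT.leaf cE53))) (BT.node 55 (BT.node 54 (BT.leaf cE54) (BT.leaf cE55)) (BT.leaf cE56))) (BT.node 59 (BT.node 58 (BT.node 57 (BT.leaf cE57) (BT.leaf cE58)) (BT.leaf cE59)) (BT.node 61 (BT.node 60 (BT.leaf cE60) (BT.leaf cE61)) (BT.leaf cE62)))) (BT.node 68 (BT.node 65 (BT.node 64 (BT.node 63 (BT.leaf cE63) (BT.leaf cE64)) (BT.leaf cE65)) (BT.node 67 (BT.node 66 (BT.leaf cE66) (BT.leaf cE67)) (BT.leaf cE68))) (BT.node 71 (BT.node 70 (BT.node 69 (BT.leaf cE69) (BT.leaf cE70)) (BT.leaf cE71)) (BT.node 73 (BT.node 72 (BT.leaf cE72) (BT.leaf cE73)) (BT.leaf cE74))))) (BT.node 86 (BT.node 80 (BT.node 77 (BT.node 76 (BT.node 75 (BT.leaf cE75)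 (BT.leaf cE76)) (BT.leaf cE77)) (BT.node 79 (BT.node 78 (BT.leaf cE78) (BT.leaf cE79)) (BT.leaf cE80))) (BT.node 83 (BT.node 82 (BT.node 81 (BT.leaf cE81) (BT.leaf cE82)) (BT.leaf cE83)) (BT.node 85 (BT.node 84 (BT.leaf cE84) (BT.leaf cE85)) (BT.leaf cE86)))) (BT.node 92 (BT.node 89 (BT.node 88 (BT.node 87 (BT.leaf cE87) (BT.leaf cE88)) (BT.leaf cE89)) (BT.node 91 (BT.node 90 (BT.leaf cE90) (BT.leaf cE91)) (BT.leaf cE92))) (BT.node 95 (BT.node 94 (BT.node 93 (BT.leaf cE93) (BT.leaf cE94)) (BT.leaf cE95)) (BT.node 97 (BT.node 96 (BT.leaf cE96) (BT.leaf cE97)) (BT.leaf cE98))))))) (BT.node 148 (BT.node 123 (BT.node 111 (BT.node 105 (BT.node 102 (BT.node 100 (BT.node 99 (BT.leaf cE99) (BT.leaf cE100)) (BT.node 101 (BT.leaf cE101) (BT.leaf cE102))) (BT.node 104 (BT.node 103 (BT.leaf cE103)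 (BT.leaf cE104)) (BT.leaf cE105))) (BT.node 108 (BT.node 107 (BT.node 106 (BT.leaf cE106) (BT.leaf cE107)) (BT.leaf cE108)) (BT.node 110 (BT.node 109 (BT.leaf cE109) (BT.leaf cE110)) (BT.leaf cE111)))) (BT.node 117 (BT.node 114 (BT.node 113 (BT.node 112 (BT.leaf cE112) (BT.leaf cE113)) (BT.leaf cE114)) (BT.node 116 (BT.node 115 (BT.leaf cE115) (BT.leaf cE116)) (BT.leaf cE117))) (BT.node 120 (BT.node 119 (BT.node 118 (BT.leaf cE118) (BT.leaf cE119)) (BT.leaf cE120)) (BT.node 122 (BT.node 121 (BT.leaf cE121) (BT.leaf cE122)) (BT.leaf cE123))))) (BT.node 136 (BT.node 130 (BT.node 127 (BT.node 125 (BT.node 124 (BT.leaf cE124) (BT.leaf cE125)) (BT.node 126 (BT.leaf cE126) (BT.leaf cE127))) (BT.node 129 (BT.node 128 (BT.leaf cE128) (BT.leaf cE129)) (BT.leaf cE130))) (BT.node 133 (BT.node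 132 (BT.node 131 (BT.leaf cE131) (BT.leaf cE132)) (BT.leaf cE133)) (BT.node 135 (BT.node 134 (BT.leaf cE134) (BT.leaf cE135)) (BT.leaf cE136)))) (BT.node 142 (BT.node 139 (BT.node 138 (BT.node 137 (BT.leaf cE137) (BT.leaf cE138)) (BT.leaf cE139)) (BT.node 141 (BT.node 140 (BT.leaf cE140) (BT.leaf cE141)) (BT.leaf cE142))) (BT.node 145 (BT.node 144 (BT.node 143 (BT.leaf cE143) (BT.leaf cE144)) (BT.leaf cE145)) (BT.node 147 (BT.node 146 (BT.leaf cE146) (BT.leaf cE147)) (BT.leaf cE148)))))) (BT.node 173 (BT.node 161 (BT.node 155 (BT.node 152 (BT.node 150 (BT.node 149 (BT.leaf cE149) (BT.leaf cE150)) (BT.node 151 (BT.leaf cE151) (BT.leaf cE152))) (BT.node 154 (BT.node 153 (BT.leaf cE153) (BT.leaf cE154)) (BT.leaf cE155))) (BT.node 158 (BT.node 157 (BT.node 156 (BT.leaf cE156) (BT.leaf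 cE157)) (BT.leaf cE158)) (BT.node 160 (BT.node 159 (BT.leaf cE159) (BT.leaf cE160)) (BT.leaf cE161)))) (BT.node 167 (BT.node 164 (BT.node 163 (BT.node 162 (BT.leaf cE162) (BT.leaf cE163)) (BT.leaf cE164)) (BT.node 166 (BT.node 165 (BT.leaf cE165) (BT.leaf cE166)) (BT.leaf cE167))) (BT.node 170 (BT.node 169 (BT.node 168 (BT.leaf cE168) (BT.leaf cE169)) (BT.leaf cE170)) (BT.node 172 (BT.node 171 (BT.leaf cE171) (BT.leaf cE172)) (BT.leaf cE173))))) (BT.node 185 (BT.node 179 (BT.node 176 (BT.node 175 (BT.node 174 (BT.leaf cE174) (BT.leaf cE175)) (BT.leaf cE176)) (BT.node 178 (BT.node 177 (BT.leaf cE177) (BT.leaf cE178)) (BT.leaf cE179))) (BT.node 182 (BT.node 181 (BT.node 180 (BT.leaf cE180) (BT.leaf cE181)) (BT.leaf cE182)) (BT.node 184 (BT.node 183 (BT.leaf cE183) (BT.leaf cE184)) (BT.leaf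 cE185)))) (BT.node 191 (BT.node 188 (BT.node 187 (BT.node 186 (BT.leaf cE186) (BT.leaf cE187)) (BT.leaf cE188)) (BT.node 190 (BT.node 189 (BT.leaf cE189) (BT.leaf cE190)) (BT.leaf cE191))) (BT.node 194 (BT.node 193 (BT.node 192 (BT.leaf cE192) (BT.leaf cE193)) (BT.leaf cE194)) (BT.node 196 (BT.node 195 (BT.leaf cE195) (BT.leaf cE196)) (BT.leaf cE197)))))))) (BT.node 296 (BT.node 247 (BT.node 222 (BT.node 210 (BT.node 204 (BT.node 201 (BT.node 199 (BT.node 198 (BT.leaf cE198) (BT.leaf cE199)) (BT.node 200 (BT.leaf cE200) (BT.leaf cE201))) (BT.node 203 (BT.node 202 (BT.leaf cE202) (BT.leaf cE203)) (BT.leaf cE204))) (BT.node 207 (BT.node 206 (BT.node 205 (BT.leaf cE205) (BT.leaf cE206)) (BT.leaf cE207)) (BT.node 209 (BT.node 208 (BT.leaf cE208) (BT.leaf cE209)) (BT.leaf cE210)))) (BT.node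 216 (BT.node 213 (BT.node 212 (BT.node 211 (BT.leaf cE211) (BT.leaf cE212)) (BT.leaf cE213)) (BT.node 215 (BT.node 214 (BT.leaf cE214) (BT.leaf cE215)) (BT.leaf cE216))) (BT.node 219 (BT.node 218 (BT.node 217 (BT.leaf cE217) (BT.leaf cE218)) (BT.leaf cE219)) (BT.node 221 (BT.node 220 (BT.leaf cE220) (BT.leaf cE221)) (BT.leaf cE222))))) (BT.node 235 (BT.node 229 (BT.node 226 (BT.node 224 (BT.node 223 (BT.leaf cE223) (BT.leaf cE224)) (BT.node 225 (BT.leaf cE225) (BT.leaf cE226))) (BT.node 228 (BT.node 227 (BT.leaf cE227) (BT.leaf cE228)) (BT.leaf cE229))) (BT.node 232 (BT.node 231 (BT.node 230 (BT.leaf cE230) (BT.leaf cE231)) (BT.leaf cE232)) (BT.node 234 (BT.node 233 (BT.leaf cE233) (BT.leaf cE234)) (BT.leaf cE235)))) (BT.node 241 (BT.node 238 (BT.node 237 (BT.node 236 (BT.leaf cE236)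 (BT.leaf cE237)) (BT.leaf cE238)) (BT.node 240 (BT.node 239 (BT.leaf cE239) (BT.leaf cE240)) (BT.leaf cE241))) (BT.node 244 (BT.node 243 (BT.node 242 (BT.leaf cE242) (BT.leaf cE243)) (BT.leaf cE244)) (BT.node 246 (BT.node 245 (BT.leaf cE245) (BT.leaf cE246)) (BT.leaf cE247)))))) (BT.node 272 (BT.node 260 (BT.node 254 (BT.node 251 (BT.node 249 (BT.node 248 (BT.leaf cE248) (BT.leaf cE249)) (BT.node 250 (BT.leaf cE250) (BT.leaf cE251))) (BT.node 253 (BT.node 252 (BT.leaf cE252) (BT.leaf cE253)) (BT.leaf cE254))) (BT.node 257 (BT.node 256 (BT.node 255 (BT.leaf cE255) (BT.leaf cE256)) (BT.leaf cE257)) (BT.node 259 (BT.node 258 (BT.leaf cE258) (BT.leaf cE259)) (BT.leaf cE260)))) (BT.node 266 (BT.node 263 (BT.node 262 (BT.node 261 (BT.leaf cE261) (BT.leaf cE262)) (BT.leaf cE263)) (BT.node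 265 (BT.node 264 (BT.leaf cE264) (BT.leaf cE265)) (BT.leaf cE266))) (BT.node 269 (BT.node 268 (BT.node 267 (BT.leaf cE267) (BT.leaf cE268)) (BT.leaf cE269)) (BT.node 271 (BT.node 270 (BT.leaf cE270) (BT.leaf cE271)) (BT.leaf cE272))))) (BT.node 284 (BT.node 278 (BT.node 275 (BT.node 274 (BT.node 273 (BT.leaf cE273) (BT.leaf cE274)) (BT.leaf cE275)) (BT.node 277 (BT.node 276 (BT.leaf cE276) (BT.leaf cE277)) (BT.leaf cE278))) (BT.node 281 (BT.node 280 (BT.node 279 (BT.leaf cE279) (BT.leaf cE280)) (BT.leaf cE281)) (BT.node 283 (BT.node 282 (BT.leaf cE282) (BT.leaf cE283)) (BT.leaf cE284)))) (BT.node 290 (BT.node 287 (BT.node 286 (BT.node 285 (BT.leaf cE285) (BT.leaf cE286)) (BT.leaf cE287)) (BT.node 289 (BT.node 288 (BT.leaf cE288) (BT.leaf cE289)) (BT.leaf cE290))) (BT.node 293 (BT.node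 292 (BT.node 291 (BT.leaf cE291) (BT.leaf cE292)) (BT.leaf cE293)) (BT.node 295 (BT.node 294 (BT.leaf cE294) (BT.leaf cE295)) (BT.leaf cE296))))))) (BT.node 346 (BT.node 321 (BT.node 309 (BT.node 303 (BT.node 300 (BT.node 298 (BT.node 297 (BT.leaf cE297) (BT.leaf cE298)) (BT.node 299 (BT.leaf cE299) (BT.leaf cE300))) (BT.node 302 (BT.node 301 (BT.leaf cE301) (BT.leaf cE302)) (BT.leaf cE303))) (BT.node 306 (BT.node 305 (BT.node 304 (BT.leaf cE304) (BT.leaf cE305)) (BT.leaf cE306)) (BT.node 308 (BT.node 307 (BT.leaf cE307) (BT.leaf cE308)) (BT.leaf cE309)))) (BT.node 315 (BT.node 312 (BT.node 311 (BT.node 310 (BT.leaf cE310) (BT.leaf cE311)) (BT.leaf cE312)) (BT.node 314 (BT.node 313 (BT.leaf cE313) (BT.leaf cE314)) (BT.leaf cE315))) (BT.node 318 (BT.node 317 (BT.node 316 (BT.leaf cE316)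 (BT.leaf cE317)) (BT.leaf cE318)) (BT.node 320 (BT.node 319 (BT.leaf cE319) (BT.leaf cE320)) (BT.leaf cE321))))) (BT.node 334 (BT.node 328 (BT.node 325 (BT.node 323 (BT.node 322 (BT.leaf cE322) (BT.leaf cE323)) (BT.node 324 (BT.leaf cE324) (BT.leaf cE325))) (BT.node 327 (BT.node 326 (BT.leaf cE326) (BT.leaf cE327)) (BT.leaf cE328))) (BT.node 331 (BT.node 330 (BT.node 329 (BT.leaf cE329) (BT.leaf cE330)) (BT.leaf cE331)) (BT.node 333 (BT.node 332 (BT.leaf cE332) (BT.leaf cE333)) (BT.leaf cE334)))) (BT.node 340 (BT.node 337 (BT.node 336 (BT.node 335 (BT.leaf cE335) (BT.leaf cE336)) (BT.leaf cE337)) (BT.node 339 (BT.node 338 (BT.leaf cE338) (BT.leaf cE339)) (BT.leaf cE340))) (BT.node 343 (BT.node 342 (BT.node 341 (BT.leaf cE341) (BT.leaf cE342)) (BT.leaf cE343)) (BT.node 345 (BT.node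 344 (BT.leaf cE344) (BT.leaf cE345)) (BT.leaf cE346)))))) (BT.node 371 (BT.node 359 (BT.node 353 (BT.node 350 (BT.node 348 (BT.node 347 (BT.leaf cE347) (BT.leaf cE348)) (BT.node 349 (BT.leaf cE349) (BT.leaf cE350))) (BT.node 352 (BT.node 351 (BT.leaf cE351) (BT.leaf cE352)) (BT.leaf cE353))) (BT.node 356 (BT.node 355 (BT.node 354 (BT.leaf cE354) (BT.leaf cE355)) (BT.leaf cE356)) (BT.node 358 (BT.node 357 (BT.leaf cE357) (BT.leaf cE358)) (BT.leaf cE359)))) (BT.node 365 (BT.node 362 (BT.node 361 (BT.node 360 (BT.leaf cE360) (BT.leaf cE361)) (BT.leaf cE362)) (BT.node 364 (BT.node 363 (BT.leaf cE363) (BT.leaf cE364)) (BT.leaf cE365))) (BT.node 368 (BT.node 367 (BT.node 366 (BT.leaf cE366) (BT.leaf cE367)) (BT.leaf cE368)) (BT.node 370 (BT.node 369 (BT.leaf cE369) (BT.leaf cE370)) (BT.leaf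 cE371))))) (BT.node 383 (BT.node 377 (BT.node 374 (BT.node 373 (BT.node 372 (BT.leaf cE372) (BT.leaf cE373)) (BT.leaf cE374)) (BT.node 376 (BT.node 375 (BT.leaf cE375) (BT.leaf cE376)) (BT.leaf cE377))) (BT.node 380 (BT.node 379 (BT.node 378 (BT.leaf cE378) (BT.leaf cE379)) (BT.leaf cE380)) (BT.node 382 (BT.node 381 (BT.leaf cE381) (BT.leaf cE382)) (BT.leaf cE383)))) (BT.node 389 (BT.node 386 (BT.node 385 (BT.node 384 (BT.leaf cE384) (BT.leaf cE385)) (BT.leaf cE386)) (BT.node 388 (BT.node 387 (BT.leaf cE387) (BT.leaf cE388)) (BT.leaf cE389))) (BT.node 392 (BT.node 391 (BT.node 390 (BT.leaf cE390) (BT.leaf cE391)) (BT.leaf cE392)) (BT.node 394 (BT.node 393 (BT.leaf cE393) (BT.leaf cE394)) (BT.leaf cE395)))))))))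
/-- justification chunks -/
def colJT : BT ℕ := (BT.node 197 (BT.node 98 (BT.node 49 (BT.node 24 (BT.node 12 (BT.node 6 (BT.node 3 (BT.node 1 (BT.node 0 (BT.leaf cJ0) (BT.leaf cJ1)) (BT.node 2 (BT.leaf cJ2) (BT.leaf cJ3))) (BT.node 5 (BT.node 4 (BT.leaf cJ4) (BT.leaf cJ5)) (BT.leaf cJ6))) (BT.node 9 (BT.node 8 (BT.node 7 (BT.leaf cJ7) (BT.leaf cJ8)) (BT.leaf cJ9)) (BT.node 11 (BT.node 10 (BT.leaf cJ10) (BT.leaf cJ11)) (BT.leaf cJ12)))) (BT.node 18 (BT.node 15 (BT.node 14 (BT.node 13 (BT.leaf cJ13) (BT.leaf cJ14)) (BT.leaf cJ15)) (BT.node 17 (BT.node 16 (BT.leaf cJ16) (BT.leaf cJ17)) (BT.leaf cJ18))) (BT.node 21 (BT.node 20 (BT.node 19 (BT.leaf cJ19) (BT.leaf cJ20)) (BT.leaf cJ21)) (BT.node 23 (BT.node 22 (BT.leaf cJ22) (BT.leaf cJ23)) (BT.leaf cJ24))))) (BT.node 37 (BT.node 31 (BT.node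 28 (BT.node 26 (BT.node 25 (BT.leaf cJ25) (BT.leaf cJ26)) (BT.node 27 (BT.leaf cJ27) (BT.leaf cJ28))) (BT.node 30 (BT.node 29 (BT.leaf cJ29) (BT.leaf cJ30)) (BT.leaf cJ31))) (BT.node 34 (BT.node 33 (BT.node 32 (BT.leaf cJ32) (BT.leaf cJ33)) (BT.leaf cJ34)) (BT.node 36 (BT.node 35 (BT.leaf cJ35) (BT.leaf cJ36)) (BT.leaf cJ37)))) (BT.node 43 (BT.node 40 (BT.node 39 (BT.node 38 (BT.leaf cJ38) (BT.leaf cJ39)) (BT.leaf cJ40)) (BT.node 42 (BT.node 41 (BT.leaf cJ41) (BT.leaf cJ42)) (BT.leaf cJ43))) (BT.node 46 (BT.node 45 (BT.node 44 (BT.leaf cJ44) (BT.leaf cJ45)) (BT.leaf cJ46)) (BT.node 48 (BT.node 47 (BT.leaf cJ47) (BT.leaf cJ48)) (BT.leaf cJ49)))))) (BT.node 74 (BT.node 62 (BT.node 56 (BT.node 53 (BT.node 51 (BT.node 50 (BT.leaf cJ50) (BT.leaf cJ51)) (BT.node 52 (BT.leaf cJ52) (BT.leaf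 cJ53))) (BT.node 55 (BT.node 54 (BT.leaf cJ54) (BT.leaf cJ55)) (BT.leaf cJ56))) (BT.node 59 (BT.node 58 (BT.node 57 (BT.leaf cJ57) (BT.leaf cJ58)) (BT.leaf cJ59)) (BT.node 61 (BT.node 60 (BT.leaf cJ60) (BT.leaf cJ61)) (BT.leaf cJ62)))) (BT.node 68 (BT.node 65 (BT.node 64 (BT.node 63 (BT.leaf cJ63) (BT.leaf cJ64)) (BT.leaf cJ65)) (BT.node 67 (BT.node 66 (BT.leaf cJ66) (BT.leaf cJ67)) (BT.leaf cJ68))) (BT.node 71 (BT.node 70 (BT.node 69 (BT.leaf cJ69) (BT.leaf cJ70)) (BT.leaf cJ71)) (BT.node 73 (BT.node 72 (BT.leaf cJ72) (BT.leaf cJ73)) (BT.leaf cJ74))))) (BT.node 86 (BT.node 80 (BT.node 77 (BT.node 76 (BT.node 75 (BT.leaf cJ75) (BT.leaf cJ76)) (BT.leaf cJ77)) (BT.node 79 (BT.node 78 (BT.leaf cJ78) (BT.leaf cJ79)) (BT.leaf cJ80))) (BT.node 83 (BT.node 82 (BT.node 81 (BT.leaf cJ81) (BT.leaf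 cJ82)) (BT.leaf cJ83)) (BT.node 85 (BT.node 84 (BT.leaf cJ84) (BT.leaf cJ85)) (BT.leaf cJ86)))) (BT.node 92 (BT.node 89 (BT.node 88 (BT.node 87 (BT.leaf cJ87) (BT.leaf cJ88)) (BT.leaf cJ89)) (BT.node 91 (BT.node 90 (BT.leaf cJ90) (BT.leaf cJ91)) (BT.leaf cJ92))) (BT.node 95 (BT.node 94 (BT.node 93 (BT.leaf cJ93) (BT.leaf cJ94)) (BT.leaf cJ95)) (BT.node 97 (BT.node 96 (BT.leaf cJ96) (BT.leaf cJ97)) (BT.leaf cJ98))))))) (BT.node 148 (BT.node 123 (BT.node 111 (BT.node 105 (BT.node 102 (BT.node 100 (BT.node 99 (BT.leaf cJ99) (BT.leaf cJ100)) (BT.node 101 (BT.leaf cJ101) (BT.leaf cJ102))) (BT.node 104 (BT.node 103 (BT.leaf cJ103) (BT.leaf cJ104)) (BT.leaf cJ105))) (BT.node 108 (BT.node 107 (BT.node 106 (BT.leaf cJ106) (BT.leaf cJ107)) (BT.leaf cJ108)) (BT.node 110 (BT.node 109 (BT.leaf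 cJ109) (BT.leaf cJ110)) (BT.leaf cJ111)))) (BT.node 117 (BT.node 114 (BT.node 113 (BT.node 112 (BT.leaf cJ112) (BT.leaf cJ113)) (BT.leaf cJ114)) (BT.node 116 (BT.node 115 (BT.leaf cJ115) (BT.leaf cJ116)) (BT.leaf cJ117))) (BT.node 120 (BT.node 119 (BT.node 118 (BT.leaf cJ118) (BT.leaf cJ119)) (BT.leaf cJ120)) (BT.node 122 (BT.node 121 (BT.leaf cJ121) (BT.leaf cJ122)) (BT.leaf cJ123))))) (BT.node 136 (BT.node 130 (BT.node 127 (BT.node 125 (BT.node 124 (BT.leaf cJ124) (BT.leaf cJ125)) (BT.node 126 (BT.leaf cJ126) (BT.leaf cJ127))) (BT.node 129 (BT.node 128 (BT.leaf cJ128) (BT.leaf cJ129)) (BT.leaf cJ130))) (BT.node 133 (BT.node 132 (BT.node 131 (BT.leaf cJ131) (BT.leaf cJ132)) (BT.leaf cJ133)) (BT.node 135 (BT.node 134 (BT.leaf cJ134) (BT.leaf cJ135)) (BT.leaf cJ136)))) (BT.node 142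 (BT.node 139 (BT.node 138 (BT.node 137 (BT.leaf cJ137) (BT.leaf cJ138)) (BT.leaf cJ139)) (BT.node 141 (BT.node 140 (BT.leaf cJ140) (BT.leaf cJ141)) (BT.leaf cJ142))) (BT.node 145 (BT.node 144 (BT.node 143 (BT.leaf cJ143) (BT.leaf cJ144)) (BT.leaf cJ145)) (BT.node 147 (BT.node 146 (BT.leaf cJ146) (BT.leaf cJ147)) (BT.leaf cJ148)))))) (BT.node 173 (BT.node 161 (BT.node 155 (BT.node 152 (BT.node 150 (BT.node 149 (BT.leaf cJ149) (BT.leaf cJ150)) (BT.node 151 (BT.leaf cJ151) (BT.leaf cJ152))) (BT.node 154 (BT.node 153 (BT.leaf cJ153) (BT.leaf cJ154)) (BT.leaf cJ155))) (BT.node 158 (BT.node 157 (BT.node 156 (BT.leaf cJ156) (BT.leaf cJ157)) (BT.leaf cJ158)) (BT.node 160 (BT.node 159 (BT.leaf cJ159) (BT.leaf cJ160)) (BT.leaf cJ161)))) (BT.node 167 (BT.node 164 (BT.node 163 (BT.node 162 (BT.leaf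 cJ162) (BT.leaf cJ163)) (BT.leaf cJ164)) (BT.node 166 (BT.node 165 (BT.leaf cJ165) (BT.leaf cJ166)) (BT.leaf cJ167))) (BT.node 170 (BT.node 169 (BT.node 168 (BT.leaf cJ168) (BT.leaf cJ169)) (BT.leaf cJ170)) (BT.node 172 (BT.node 171 (BT.leaf cJ171) (BT.leaf cJ172)) (BT.leaf cJ173))))) (BT.node 185 (BT.node 179 (BT.node 176 (BT.node 175 (BT.node 174 (BT.leaf cJ174) (BT.leaf cJ175)) (BT.leaf cJ176)) (BT.node 178 (BT.node 177 (BT.leaf cJ177) (BT.leaf cJ178)) (BT.leaf cJ179))) (BT.node 182 (BT.node 181 (BT.node 180 (BT.leaf cJ180) (BT.leaf cJ181)) (BT.leaf cJ182)) (BT.node 184 (BT.node 183 (BT.leaf cJ183) (BT.leaf cJ184)) (BT.leaf cJ185)))) (BT.node 191 (BT.node 188 (BT.node 187 (BT.node 186 (BT.leaf cJ186) (BT.leaf cJ187)) (BT.leaf cJ188)) (BT.node 190 (BT.node 189 (BT.leaf cJ189) (BT.leaf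 cJ190)) (BT.leaf cJ191))) (BT.node 194 (BT.node 193 (BT.node 192 (BT.leaf cJ192) (BT.leaf cJ193)) (BT.leaf cJ194)) (BT.node 196 (BT.node 195 (BT.leaf cJ195) (BT.leaf cJ196)) (BT.leaf cJ197)))))))) (BT.node 296 (BT.node 247 (BT.node 222 (BT.node 210 (BT.node 204 (BT.node 201 (BT.node 199 (BT.node 198 (BT.leaf cJ198) (BT.leaf cJ199)) (BT.node 200 (BT.leaf cJ200) (BT.leaf cJ201))) (BT.node 203 (BT.node 202 (BT.leaf cJ202) (BT.leaf cJ203)) (BT.leaf cJ204))) (BT.node 207 (BT.node 206 (BT.node 205 (BT.leaf cJ205) (BT.leaf cJ206)) (BT.leaf cJ207)) (BT.node 209 (BT.node 208 (BT.leaf cJ208) (BT.leaf cJ209)) (BT.leaf cJ210)))) (BT.node 216 (BT.node 213 (BT.node 212 (BT.node 211 (BT.leaf cJ211) (BT.leaf cJ212)) (BT.leaf cJ213)) (BT.node 215 (BT.node 214 (BT.leaf cJ214) (BT.leaf cJ215)) (BT.leaf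 cJ216))) (BT.node 219 (BT.node 218 (BT.node 217 (BT.leaf cJ217) (BT.leaf cJ218)) (BT.leaf cJ219)) (BT.node 221 (BT.node 220 (BT.leaf cJ220) (BT.leaf cJ221)) (BT.leaf cJ222))))) (BT.node 235 (BT.node 229 (BT.node 226 (BT.node 224 (BT.node 223 (BT.leaf cJ223) (BT.leaf cJ224)) (BT.node 225 (BT.leaf cJ225) (BT.leaf cJ226))) (BT.node 228 (BT.node 227 (BT.leaf cJ227) (BT.leaf cJ228)) (BT.leaf cJ229))) (BT.node 232 (BT.node 231 (BT.node 230 (BT.leaf cJ230) (BT.leaf cJ231)) (BT.leaf cJ232)) (BT.node 234 (BT.node 233 (BT.leaf cJ233) (BT.leaf cJ234)) (BT.leaf cJ235)))) (BT.node 241 (BT.node 238 (BT.node 237 (BT.node 236 (BT.leaf cJ236) (BT.leaf cJ237)) (BT.leaf cJ238)) (BT.node 240 (BT.node 239 (BT.leaf cJ239) (BT.leaf cJ240)) (BT.leaf cJ241))) (BT.node 244 (BT.node 243 (BT.node 242 (BT.leaf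 cJ242) (BT.leaf cJ243)) (BT.leaf cJ244)) (BT.node 246 (BT.node 245 (BT.leaf cJ245) (BT.leaf cJ246)) (BT.leaf cJ247)))))) (BT.node 272 (BT.node 260 (BT.node 254 (BT.node 251 (BT.node 249 (BT.node 248 (BT.leaf cJ248) (BT.leaf cJ249)) (BT.node 250 (BT.leaf cJ250) (BT.leaf cJ251))) (BT.node 253 (BT.node 252 (BT.leaf cJ252) (BT.leaf cJ253)) (BT.leaf cJ254))) (BT.node 257 (BT.node 256 (BT.node 255 (BT.leaf cJ255) (BT.leaf cJ256)) (BT.leaf cJ257)) (BT.node 259 (BT.node 258 (BT.leaf cJ258) (BT.leaf cJ259)) (BT.leaf cJ260)))) (BT.node 266 (BT.node 263 (BT.node 262 (BT.node 261 (BT.leaf cJ261) (BT.leaf cJ262)) (BT.leaf cJ263)) (BT.node 265 (BT.node 264 (BT.leaf cJ264) (BT.leaf cJ265)) (BT.leaf cJ266))) (BT.node 269 (BT.node 268 (BT.node 267 (BT.leaf cJ267) (BT.leaf cJ268)) (BT.leaf cJ269)) (BT.node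 271 (BT.node 270 (BT.leaf cJ270) (BT.leaf cJ271)) (BT.leaf cJ272))))) (BT.node 284 (BT.node 278 (BT.node 275 (BT.node 274 (BT.node 273 (BT.leaf cJ273) (BT.leaf cJ274)) (BT.leaf cJ275)) (BT.node 277 (BT.node 276 (BT.leaf cJ276) (BT.leaf cJ277)) (BT.leaf cJ278))) (BT.node 281 (BT.node 280 (BT.node 279 (BT.leaf cJ279) (BT.leaf cJ280)) (BT.leaf cJ281)) (BT.node 283 (BT.node 282 (BT.leaf cJ282) (BT.leaf cJ283)) (BT.leaf cJ284)))) (BT.node 290 (BT.node 287 (BT.node 286 (BT.node 285 (BT.leaf cJ285) (BT.leaf cJ286)) (BT.leaf cJ287)) (BT.node 289 (BT.node 288 (BT.leaf cJ288) (BT.leaf cJ289)) (BT.leaf cJ290))) (BT.node 293 (BT.node 292 (BT.node 291 (BT.leaf cJ291) (BT.leaf cJ292)) (BT.leaf cJ293)) (BT.node 295 (BT.node 294 (BT.leaf cJ294) (BT.leaf cJ295)) (BT.leaf cJ296))))))) (BT.node 346 (BT.node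 321 (BT.node 309 (BT.node 303 (BT.node 300 (BT.node 298 (BT.node 297 (BT.leaf cJ297) (BT.leaf cJ298)) (BT.node 299 (BT.leaf cJ299) (BT.leaf cJ300))) (BT.node 302 (BT.node 301 (BT.leaf cJ301) (BT.leaf cJ302)) (BT.leaf cJ303))) (BT.node 306 (BT.node 305 (BT.node 304 (BT.leaf cJ304) (BT.leaf cJ305)) (BT.leaf cJ306)) (BT.node 308 (BT.node 307 (BT.leaf cJ307) (BT.leaf cJ308)) (BT.leaf cJ309)))) (BT.node 315 (BT.node 312 (BT.node 311 (BT.node 310 (BT.leaf cJ310) (BT.leaf cJ311)) (BT.leaf cJ312)) (BT.node 314 (BT.node 313 (BT.leaf cJ313) (BT.leaf cJ314)) (BT.leaf cJ315))) (BT.node 318 (BT.node 317 (BT.node 316 (BT.leaf cJ316) (BT.leaf cJ317)) (BT.leaf cJ318)) (BT.node 320 (BT.node 319 (BT.leaf cJ319) (BT.leaf cJ320)) (BT.leaf cJ321))))) (BT.node 334 (BT.node 328 (BT.node 325 (BT.node 323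 (BT.node 322 (BT.leaf cJ322) (BT.leaf cJ323)) (BT.node 324 (BT.leaf cJ324) (BT.leaf cJ325))) (BT.node 327 (BT.node 326 (BT.leaf cJ326) (BT.leaf cJ327)) (BT.leaf cJ328))) (BT.node 331 (BT.node 330 (BT.node 329 (BT.leaf cJ329) (BT.leaf cJ330)) (BT.leaf cJ331)) (BT.node 333 (BT.node 332 (BT.leaf cJ332) (BT.leaf cJ333)) (BT.leaf cJ334)))) (BT.node 340 (BT.node 337 (BT.node 336 (BT.node 335 (BT.leaf cJ335) (BT.leaf cJ336)) (BT.leaf cJ337)) (BT.node 339 (BT.node 338 (BT.leaf cJ338) (BT.leaf cJ339)) (BT.leaf cJ340))) (BT.node 343 (BT.node 342 (BT.node 341 (BT.leaf cJ341) (BT.leaf cJ342)) (BT.leaf cJ343)) (BT.node 345 (BT.node 344 (BT.leaf cJ344) (BT.leaf cJ345)) (BT.leaf cJ346)))))) (BT.node 371 (BT.node 359 (BT.node 353 (BT.node 350 (BT.node 348 (BT.node 347 (BT.leaf cJ347) (BT.leaf cJ348))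 (BT.node 349 (BT.leaf cJ349) (BT.leaf cJ350))) (BT.node 352 (BT.node 351 (BT.leaf cJ351) (BT.leaf cJ352)) (BT.leaf cJ353))) (BT.node 356 (BT.node 355 (BT.node 354 (BT.leaf cJ354) (BT.leaf cJ355)) (BT.leaf cJ356)) (BT.node 358 (BT.node 357 (BT.leaf cJ357) (BT.leaf cJ358)) (BT.leaf cJ359)))) (BT.node 365 (BT.node 362 (BT.node 361 (BT.node 360 (BT.leaf cJ360) (BT.leaf cJ361)) (BT.leaf cJ362)) (BT.node 364 (BT.node 363 (BT.leaf cJ363) (BT.leaf cJ364)) (BT.leaf cJ365))) (BT.node 368 (BT.node 367 (BT.node 366 (BT.leaf cJ366) (BT.leaf cJ367)) (BT.leaf cJ368)) (BT.node 370 (BT.node 369 (BT.leaf cJ369) (BT.leaf cJ370)) (BT.leaf cJ371))))) (BT.node 383 (BT.node 377 (BT.node 374 (BT.node 373 (BT.node 372 (BT.leaf cJ372) (BT.leaf cJ373)) (BT.leaf cJ374)) (BT.node 376 (BT.node 375 (BT.leaf cJ375)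 (BT.leaf cJ376)) (BT.leaf cJ377))) (BT.node 380 (BT.node 379 (BT.node 378 (BT.leaf cJ378) (BT.leaf cJ379)) (BT.leaf cJ380)) (BT.node 382 (BT.node 381 (BT.leaf cJ381) (BT.leaf cJ382)) (BT.leaf cJ383)))) (BT.node 389 (BT.node 386 (BT.node 385 (BT.node 384 (BT.leaf cJ384) (BT.leaf cJ385)) (BT.leaf cJ386)) (BT.node 388 (BT.node 387 (BT.leaf cJ387) (BT.leaf cJ388)) (BT.leaf cJ389))) (BT.node 392 (BT.node 391 (BT.node 390 (BT.leaf cJ390) (BT.leaf cJ391)) (BT.leaf cJ392)) (BT.node 394 (BT.node 393 (BT.leaf cJ393) (BT.leaf cJ394)) (BT.leaf cJ395)))))))))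
/-- parent chunks -/
def parCT : BT ℕ := (BT.node 21 (BT.node 10 (BT.node 5 (BT.node 2 (BT.node 1 (BT.node 0 (BT.leaf cP0) (BT.leaf cP1)) (BT.leaf cP2)) (BT.node 4 (BT.node 3 (BT.leaf cP3) (BT.leaf cP4)) (BT.leaf cP5))) (BT.node 8 (BT.node 7 (BT.node 6 (BT.leaf cP6) (BT.leaf cP7)) (BT.leaf cP8)) (BT.node 9 (BT.leaf cP9) (BT.leaf cP10)))) (BT.node 16 (BT.node 13 (BT.node 12 (BT.node 11 (BT.leaf cP11) (BT.leaf cP12)) (BT.leaf cP13)) (BT.node 15 (BT.node 14 (BT.leaf cP14) (BT.leaf cP15)) (BT.leaf cP16))) (BT.node 19 (BT.node 18 (BT.node 17 (BT.leaf cP17) (BT.leaf cP18)) (BT.leaf cP19)) (BT.node 20 (BT.leaf cP20) (BT.leaf cP21))))) (BT.node 32 (BT.node 27 (BT.node 24 (BT.node 23 (BT.node 22 (BT.leaf cP22) (BT.leaf cP23)) (BT.leaf cP24)) (BT.node 26 (BT.node 25 (BT.leaf cP25) (BT.leaf cP26))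 (BT.leaf cP27))) (BT.node 30 (BT.node 29 (BT.node 28 (BT.leaf cP28) (BT.leaf cP29)) (BT.leaf cP30)) (BT.node 31 (BT.leaf cP31) (BT.leaf cP32)))) (BT.node 38 (BT.node 35 (BT.node 34 (BT.node 33 (BT.leaf cP33) (BT.leaf cP34)) (BT.leaf cP35)) (BT.node 37 (BT.node 36 (BT.leaf cP36) (BT.leaf cP37)) (BT.leaf cP38))) (BT.node 41 (BT.node 40 (BT.node 39 (BT.leaf cP39) (BT.leaf cP40)) (BT.leaf cP41)) (BT.node 42 (BT.leaf cP42) (BT.leaf cP43))))))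
/-- the certificate -/
def data : Data where
  k := 8
  N := 22275
  W := 33
  MW := 8589934592
  B := 32768
  CH := 512
  NCH := 44
  colE := colET
  JW := 64
  MJ := 18446744073709551616
  A := 1048576
  colJ := colJT
  PW := 25
  MP := 33554432
  parC := parCT
  inv := (BT.node 4 (BT.node 2 (BT.node 1 (BT.node 0 (BT.leaf 1) (BT.leaf 0)) (BT.leaf 3)) (BT.node 3 (BT.leaf 2) (BT.leaf 5))) (BT.node 6 (BT.node 5 (BT.leaf 4) (BT.leaf 7)) (BT.node 7 (BT.leaf 6) (BT.leaf 8))))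
  rel := relT
  sub := subT
  fuel := 4

end Cfsg.Agent.Lib.Helper16.McLM.P3Data
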