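import Cfsg.Agent.Lib.Helper28.TC2Glue
import Cfsg.Agent.Lib.Helper28.TC2Range
import Cfsg.Agent.Lib.Helper16.McLM.P3Link
import Cfsg.Agent.Lib.Helper16.McLM.P3M0
import Cfsg.Agent.Lib.Helper16.McLM.P3M1
import Cfsg.Agent.Lib.Helper16.McLM.P3U0
import Cfsg.Agent.Lib.Helper16.McLM.P3U1
import Cfsg.Agent.Lib.Helper16.McLM.P3U2
import Cfsg.Agent.Lib.Helper16.McLM.P3U3
import Cfsg.Agent.Lib.Helper16.McLM.P3U4
import Cfsg.Agent.Lib.Helper16.McLM.P3U5
import Cfsg.Agent.Lib.Helper16.McLM.P3U6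

set_option autoImplicit false
set_option maxRecDepth 100000
open Cfsg

namespace Cfsg.Agent.Lib.Helper16.McLM.P3MainU
open Cfsg.Agent.Lib.Helper28.TC2Upper Cfsg.Agent.Lib.Helper28.TC2Lower Cfsg.Agent.Lib.Helper28.TC2Glue Cfsg.Agent.Lib.Helper28.TC2Range
open Cfsg.Agent.Lib.Helper16.McLM.P3Data Cfsg.Agent.Lib.Helper16.McLM.P3Table Cfsg.Agent.Lib.Helper16.McLM.P3Link

theorem hchk : ∀ v, v < data.N → data.checkNode v = true := by
  intro v hv
  have hv' : v < 22275 := hv
  rcases Nat.lt_or_ge v 667 with h0 | h0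
  · exact (data.checkRange_iff 0 667).mp Cfsg.Agent.Lib.Helper16.McLM.P3U0.chk0 v (by omega) (by omega)
  rcases Nat.lt_or_ge v 1334 with h1 | h1
  · exact (data.checkRange_iff 667 667).mp Cfsg.Agent.Lib.Helper16.McLM.P3U0.chk1 v (by omega) (by omega)
  rcases Nat.lt_or_ge v 2001 with h2 | h2
  · exact (data.checkRange_iff 1334 667).mp Cfsg.Agent.Lib.Helper16.McLM.P3U0.chk2 v (by omega) (by omega)
  rcases Nat.lt_or_ge v 2668 with h3 | h3
  · exact (data.checkRange_iff 2001 667).mp Cfsg.Agent.Lib.Helper16.McLM.P3U0.chk3 v (by omega) (by omega)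
  rcases Nat.lt_or_ge v 3335 with h4 | h4
  · exact (data.checkRange_iff 2668 667).mp Cfsg.Agent.Lib.Helper16.McLM.P3U0.chk4 v (by omega) (by omega)
  rcases Nat.lt_or_ge v 4002 with h5 | h5
  · exact (data.checkRange_iff 3335 667).mp Cfsg.Agent.Lib.Helper16.McLM.P3U1.chk5 v (by omega) (by omega)
  rcases Nat.lt_or_ge v 4669 with h6 | h6
  · exact (data.checkRange_iff 4002 667).mp Cfsg.Agent.Lib.Helper16.McLM.P3U1.chk6 v (by omega) (by omega)
  rcases Nat.lt_or_ge v 5336 with h7 | h7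
  · exact (data.checkRange_iff 4669 667).mp Cfsg.Agent.Lib.Helper16.McLM.P3U1.chk7 v (by omega) (by omega)
  rcases Nat.lt_or_ge v 6003 with h8 | h8
  · exact (data.checkRange_iff 5336 667).mp Cfsg.Agent.Lib.Helper16.McLM.P3U1.chk8 v (by omega) (by omega)
  rcases Nat.lt_or_ge v 6670 with h9 | h9
  · exact (data.checkRange_iff 6003 667).mp Cfsg.Agent.Lib.Helper16.McLM.P3U1.chk9 v (by omega) (by omega)
  rcases Nat.lt_or_ge v 7337 with h10 | h10
  · exact (data.checkRange_iff 6670 667).mp Cfsg.Agent.Lib.Helper16.McLM.P3U2.chk10 v (by omega) (by omega)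
  rcases Nat.lt_or_ge v 8004 with h11 | h11
  · exact (data.checkRange_iff 7337 667).mp Cfsg.Agent.Lib.Helper16.McLM.P3U2.chk11 v (by omega) (by omega)
  rcases Nat.lt_or_ge v 8671 with h12 | h12
  · exact (data.checkRange_iff 8004 667).mp Cfsg.Agent.Lib.Helper16.McLM.P3U2.chk12 v (by omega) (by omega)
  rcases Nat.lt_or_ge v 9338 with h13 | h13
  · exact (data.checkRange_iff 8671 667).mp Cfsg.Agent.Lib.Helper16.McLM.P3U2.chk13 v (by omega) (by omega)
  rcases Nat.lt_or_ge v 10005 with h14 | h14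
  · exact (data.checkRange_iff 9338 667).mp Cfsg.Agent.Lib.Helper16.McLM.P3U2.chk14 v (by omega) (by omega)
  rcases Nat.lt_or_ge v 10672 with h15 | h15
  · exact (data.checkRange_iff 10005 667).mp Cfsg.Agent.Lib.Helper16.McLM.P3U3.chk15 v (by omega) (by omega)
  rcases Nat.lt_or_ge v 11339 with h16 | h16
  · exact (data.checkRange_iff 10672 667).mp Cfsg.Agent.Lib.Helper16.McLM.P3U3.chk16 v (by omega) (by omega)
  rcases Nat.lt_or_ge v 12006 with h17 | h17
  · exact (data.checkRange_iff 11339 667).mp Cfsg.Agent.Lib.Helper16.McLM.P3U3.chk17 v (by omega) (by omega)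
  rcases Nat.lt_or_ge v 12673 with h18 | h18
  · exact (data.checkRange_iff 12006 667).mp Cfsg.Agent.Lib.Helper16.McLM.P3U3.chk18 v (by omega) (by omega)
  rcases Nat.lt_or_ge v 13340 with h19 | h19
  · exact (data.checkRange_iff 12673 667).mp Cfsg.Agent.Lib.Helper16.McLM.P3U3.chk19 v (by omega) (by omega)
  rcases Nat.lt_or_ge v 14007 with h20 | h20
  · exact (data.checkRange_iff 13340 667).mp Cfsg.Agent.Lib.Helper16.McLM.P3U4.chk20 v (by omega) (by omega)
  rcases Nat.lt_or_ge v 14674 with h21 | h21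
  · exact (data.checkRange_iff 14007 667).mp Cfsg.Agent.Lib.Helper16.McLM.P3U4.chk21 v (by omega) (by omega)
  rcases Nat.lt_or_ge v 15341 with h22 | h22
  · exact (data.checkRange_iff 14674 667).mp Cfsg.Agent.Lib.Helper16.McLM.P3U4.chk22 v (by omega) (by omega)
  rcases Nat.lt_or_ge v 16008 with h23 | h23
  · exact (data.checkRange_iff 15341 667).mp Cfsg.Agent.Lib.Helper16.McLM.P3U4.chk23 v (by omega) (by omega)
  rcases Nat.lt_or_ge v 16675 with h24 | h24
  · exact (data.checkRange_iff 16008 667).mp Cfsg.Agent.Lib.Helper16.McLM.P3U4.chk24 v (by omega) (by omega)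
  rcases Nat.lt_or_ge v 17342 with h25 | h25
  · exact (data.checkRange_iff 16675 667).mp Cfsg.Agent.Lib.Helper16.McLM.P3U5.chk25 v (by omega) (by omega)
  rcases Nat.lt_or_ge v 18009 with h26 | h26
  · exact (data.checkRange_iff 17342 667).mp Cfsg.Agent.Lib.Helper16.McLM.P3U5.chk26 v (by omega) (by omega)
  rcases Nat.lt_or_ge v 18676 with h27 | h27
  · exact (data.checkRange_iff 18009 667).mp Cfsg.Agent.Lib.Helper16.McLM.P3U5.chk27 v (by omega) (by omega)
  rcases Nat.lt_or_ge v 19343 with h28 | h28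
  · exact (data.checkRange_iff 18676 667).mp Cfsg.Agent.Lib.Helper16.McLM.P3U5.chk28 v (by omega) (by omega)
  rcases Nat.lt_or_ge v 20010 with h29 | h29
  · exact (data.checkRange_iff 19343 667).mp Cfsg.Agent.Lib.Helper16.McLM.P3U5.chk29 v (by omega) (by omega)
  rcases Nat.lt_or_ge v 20677 with h30 | h30
  · exact (data.checkRange_iff 20010 667).mp Cfsg.Agent.Lib.Helper16.McLM.P3U6.chk30 v (by omega) (by omega)
  rcases Nat.lt_or_ge v 21344 with h31 | h31
  · exact (data.checkRange_iff 20677 667).mp Cfsg.Agent.Lib.Helper16.McLM.P3U6.chk31 v (by omega) (by omega)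
  rcases Nat.lt_or_ge v 22011 with h32 | h32
  · exact (data.checkRange_iff 21344 667).mp Cfsg.Agent.Lib.Helper16.McLM.P3U6.chk32 v (by omega) (by omega)
  exact (data.checkRange_iff 22011 264).mp Cfsg.Agent.Lib.Helper16.McLM.P3U6.chk33 v (by omega) (by omega)

theorem hrows : ∀ v, v < data.N → Data.rowOK data v = true := by
  intro v hv
  have hv' : v < 22275 := hv
  rcases Nat.lt_or_ge v 6000 with h0 | h0
  · exact (Data.finalRange_iff data 0 6000).mp Cfsg.Agent.Lib.Helper16.McLM.P3M0.fin0 v (by omega) (by omega)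
  rcases Nat.lt_or_ge v 12000 with h1 | h1
  · exact (Data.finalRange_iff data 6000 6000).mp Cfsg.Agent.Lib.Helper16.McLM.P3M0.fin1 v (by omega) (by omega)
  rcases Nat.lt_or_ge v 18000 with h2 | h2
  · exact (Data.finalRange_iff data 12000 6000).mp Cfsg.Agent.Lib.Helper16.McLM.P3M0.fin2 v (by omega) (by omega)
  exact (Data.finalRange_iff data 18000 4275).mp Cfsg.Agent.Lib.Helper16.McLM.P3M0.fin3 v (by omega) (by omega)

theorem hfin : data.finalOK = true := Data.finalOK_of_rows data Cfsg.Agent.Lib.Helper16.McLM.P3M0.hlive0 (by decide) hrows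

theorem pc0 : Data.countFrom data 0 6000 = 6000 := Cfsg.Agent.Lib.Helper16.McLM.P3M1.cnt0
theorem pc1 : Data.countFrom data 0 12000 = 12000 := Data.countFrom_step data pc0 Cfsg.Agent.Lib.Helper16.McLM.P3M1.cnt1 (by norm_num) (by norm_num)
theorem pc2 : Data.countFrom data 0 18000 = 18000 := Data.countFrom_step data pc1 Cfsg.Agent.Lib.Helper16.McLM.P3M1.cnt2 (by norm_num) (by norm_num)
theorem pc3 : Data.countFrom data 0 22275 = 22275 := Data.countFrom_step data pc2 Cfsg.Agent.Lib.Helper16.McLM.P3M1.cnt3 (by norm_num) (by norm_num)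

theorem hcount : data.countLive = 22275 := by
  rw [Data.countLive_eq]
  exact pc3

/-- the number of cosets is at most `22275` -/
theorem mainU : Finite (PresentedGroup rels ⧸ (Subgroup.closure S).map (PresentedGroup.mk rels)) ∧
    Nat.card (PresentedGroup rels ⧸ (Subgroup.closure S).map (PresentedGroup.mk rels)) ≤ 22275 := by
  have h := upper link hchk hfin
  rw [hcount] at h
  exact h

end Cfsg.Agent.Lib.Helper16.McLM.P3MainU
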