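import Cfsg.Agent.Lib.Helper3.Cover.Finite
import Cfsg.Agent.Lib.Helper3.Cover.Lower
import Cfsg.Agent.Lib.Helper28.TC2Tower
import Cfsg.Agent.Lib.Helper28.TC2Tower2
import Cfsg.Agent.Lib.Helper4.McL.Iso
import Cfsg.Agent.Lib.Helper16.McLM.CoverLow
import Cfsg.Agent.Lib.Helper16.McLM.E1MainU
import Cfsg.Agent.Lib.Helper16.McLM.E2MainU
import Cfsg.Agent.Lib.Helper16.McLM.P3MainU
import Cfsg.Agent.Lib.Helper16.McLM.E3MainU
import Cfsg.Agent.Lib.Helper16.McLM.L275Low
import Cfsg.Agent.Lib.Helper16.McLM.LCovLow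

set_option autoImplicit false
set_option maxRecDepth 100000

/-!
# The Schur multiplier of the McLaughlin group has order 3

`P3 = ⟨a, b, c, d | R⟩` with `⟨a, b⟩` a quotient of `SL(2, 7)` (presentation `P1`) and `⟨a, b, c⟩` a quotient of the
double cover of `A8` (presentation `P2`).  The covering presentations `E1`, `E2`, `E3` have orders at most `336`,
`120 * 336` and `66825 * 40320`; `P3` has order at most `22275 * 40320` and acts on the 275 points of the
McLaughlin group of the definitions (helper4's model), so it is that group; `E3` acts on `3 * 22275` points with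
a relator acting as an element of order 3.
-/

namespace Cfsg.Agent.Lib.Helper16.McLM.McLMain

open Cfsg Cfsg.Agent.Lib.Helper3.Cover
open Cfsg.Agent.Lib.Helper28.TC2Upper Cfsg.Agent.Lib.Helper28.TC2Lower Cfsg.Agent.Lib.Helper28.TC2Glue
open Cfsg.Agent.Lib.Helper28.TC2Tower Cfsg.Agent.Lib.Helper28.TC2Tower2
open Cfsg.Agent.Lib.Helper10.SX

/-- the covering data of the presentation of `SL(2, 7)` -/
abbrev D1 : CoverData E1Def.Gen := E1Def.cover
/-- the covering data of the presentation of `2.A8` -/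
abbrev D2 : CoverData E2Def.Gen := E2Def.cover
/-- the covering data of the presentation of `McL` -/
abbrev D3 : CoverData E3Def.Gen := E3Def.cover

/-- the generators of the first group as generators of the second -/
def up12 : E1Def.Gen → E2Def.Gen
  | .a => .a
  | .b => .b

/-- the generators of the second group as generators of the third -/
def up23 : E2Def.Gen → E3Def.Gen
  | .a => .a
  | .b => .b
  | .c => .c

theorem upE12 : ∀ L ∈ E1Def.relWords, upWord up12 L ∈ E2Def.relWords := by decide +kernel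
theorem upE23 : ∀ L ∈ E2Def.relWords, upWord up23 L ∈ E3Def.relWords := by decide +kernel
theorem upP23 : ∀ L ∈ E2Def.R, upWord up23 L ∈ E3Def.R := by decide +kernel

/-! ### the orders of the covering groups -/

theorem cardE1' : Finite (PresentedGroup E1Link.rels) ∧ Nat.card (PresentedGroup E1Link.rels) ≤ 336 := by
  obtain ⟨hq, hqle⟩ := E1MainU.mainU
  have e : (Subgroup.closure E1Link.S).map (PresentedGroup.mk E1Link.rels) = ⊥ := by
    show (Subgroup.closure {1}).map _ = ⊥
    rw [Subgroup.closure_singleton_one, Subgroup.map_bot]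
  have hH : Finite ↥((Subgroup.closure E1Link.S).map (PresentedGroup.mk E1Link.rels)) := by
    rw [e]; infer_instance
  have hc : Nat.card ↥((Subgroup.closure E1Link.S).map (PresentedGroup.mk E1Link.rels)) ≤ 1 := by
    rw [e, Subgroup.card_bot]
  have h := card_le_of_quot _ hH hq hqle hc
  rwa [mul_one] at h

theorem cardE1 : Finite D1.E ∧ Nat.card D1.E ≤ 336 := cardE1'

theorem hS2 : ∀ s ∈ E2Link.S, ∃ b, s = FreeGroup.of (up12 b) := by
  intro s hs
  simp only [E2Link.S, Set.mem_insert_iff, Set.mem_singleton_iff] at hs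
  rcases hs with rfl | rfl
  exacts [⟨.a, rfl⟩, ⟨.b, rfl⟩]

theorem cardE2' : Finite (PresentedGroup E2Link.rels) ∧
    Nat.card (PresentedGroup E2Link.rels) ≤ 120 * 336 := by
  haveI : Finite (PresentedGroup D1.relsE) := cardE1.1
  have hrel := hrel_of_words E2Link.rels D1.relsE up12 E2Link.relWords E1Def.relWords
    E2Link.link.hrels (fun _ => Iff.rfl) upE12
  obtain ⟨hfin, hle⟩ := card_le_of_subpres E2Link.rels D1.relsE up12 hrel E2Link.S hS2
  obtain ⟨hq, hqle⟩ := E2MainU.mainU
  exact card_le_of_quot _ hfin hq hqle (le_trans hle cardE1.2)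

theorem cardE2 : Finite D2.E ∧ Nat.card D2.E ≤ 40320 := cardE2'

theorem hS3 : ∀ s ∈ E3Link.S, ∃ b, s = FreeGroup.of (up23 b) := by
  intro s hs
  simp only [E3Link.S, Set.mem_insert_iff, Set.mem_singleton_iff] at hs
  rcases hs with rfl | rfl | rfl
  exacts [⟨.a, rfl⟩, ⟨.b, rfl⟩, ⟨.c, rfl⟩]

theorem cardE3' : Finite (PresentedGroup E3Link.rels) ∧
    Nat.card (PresentedGroup E3Link.rels) ≤ 66825 * 40320 := by
  haveI : Finite (PresentedGroup D2.relsE) := cardE2.1
  have hrel := hrel_of_words E3Link.rels D2.relsE up23 E3Link.relWords E2Def.relWords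
    E3Link.link.hrels (fun _ => Iff.rfl) upE23
  obtain ⟨hfin, hle⟩ := card_le_of_subpres E3Link.rels D2.relsE up23 hrel E3Link.S hS3
  obtain ⟨hq, hqle⟩ := E3MainU.mainU
  exact card_le_of_quot _ hfin hq hqle (le_trans hle cardE2.2)

theorem cardE3 : Finite D3.E ∧ Nat.card D3.E ≤ 3 * 898128000 := cardE3'

/-! ### the order of the group `P3` -/

theorem cardP2 : Finite D2.P ∧ Nat.card D2.P ≤ 40320 := by
  haveI := cardE2.1
  exact ⟨Finite.of_surjective _ D2.proj_surjective,
    le_trans (Nat.card_le_card_of_surjective _ D2.proj_surjective) cardE2.2⟩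

theorem hSP3 : ∀ s ∈ P3Link.S, ∃ b, s = FreeGroup.of (up23 b) := by
  intro s hs
  simp only [P3Link.S, Set.mem_insert_iff, Set.mem_singleton_iff] at hs
  rcases hs with rfl | rfl | rfl
  exacts [⟨.a, rfl⟩, ⟨.b, rfl⟩, ⟨.c, rfl⟩]

theorem cardP3' : Finite (PresentedGroup P3Link.rels) ∧
    Nat.card (PresentedGroup P3Link.rels) ≤ 22275 * 40320 := by
  haveI : Finite (PresentedGroup (relSet E2Def.R)) := cardP2.1
  have hrel := hrel_of_words P3Link.rels (relSet E2Def.R) up23 P3Link.relWords E2Def.R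
    P3Link.link.hrels (fun _ => Iff.rfl) upP23
  obtain ⟨hfin, hle⟩ := card_le_of_subpres P3Link.rels (relSet E2Def.R) up23 hrel P3Link.S hSP3
  obtain ⟨hq, hqle⟩ := P3MainU.mainU
  exact card_le_of_quot _ hfin hq hqle (le_trans hle cardP2.2)

/-- the presented group, with the relators in list form -/
abbrev PP : Type := PresentedGroup (relSet E3Def.R)

theorem cardPP : Finite PP ∧ Nat.card PP ≤ 898128000 := cardP3'

/-! ### the action on 275 points -/

theorem lwk275 : ∀ xb, P3Link.lw xb < L275Table.table.k := by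
  rintro ⟨x, b⟩; cases x <;> cases b <;> decide
theorem lwinv275 : ∀ x, P3Link.lw (x, false) = L275Table.table.invl (P3Link.lw (x, true)) := by
  intro x; cases x <;> decide +kernel
theorem hmem275 : ∀ L ∈ E3Def.R, pathOf P3Link.lw L ∈ L275Table.chkPaths := by decide +kernel

/-- the word of the first generator of helper4's group -/
def wA : List (E3Def.Gen × Bool) := [(.c, false), (.b, false), (.d, true), (.c, false), (.c, false), (.a, false), (.a, false), (.b, true), (.c, true), (.d, true), (.c, true), (.d, true), (.b, false), (.c, false), (.d, true)]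
/-- the word of the second generator of helper4's group -/
def wB : List (E3Def.Gen × Bool) := [(.c, false), (.a, false), (.d, true), (.a, true), (.c, false), (.d, true), (.c, true), (.c, true), (.c, true), (.a, true), (.d, true), (.c, true), (.b, false)]

theorem walkA : ∀ i, i < 275 → L275Table.table.walkT (pathOf P3Link.lw wA) i = ap 275 Cfsg.Agent.Lib.Helper4.McL.cA i := by
  decide +kernel
theorem walkB : ∀ i, i < 275 → L275Table.table.walkT (pathOf P3Link.lw wB) i = ap 275 Cfsg.Agent.Lib.Helper4.McL.cB i := by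
  decide +kernel

theorem iso : Nonempty (D3.P ≃* ↥Cfsg.Spor.McL) ∧ Nat.card D3.P = 898128000 := by
  haveI := cardPP.1
  haveI := Cfsg.Agent.Lib.Helper4.McL.finite_P
  obtain ⟨φ, hφ⟩ : ∃ φ : PP →* Equiv.Perm (Fin 275), ∀ (L : List (E3Def.Gen × Bool)) (p : Fin 275),
      (φ (PresentedGroup.mk _ (FreeGroup.mk L)) p).val =
        L275Table.table.walkT (pathOf P3Link.lw L) p.val :=
    lower_hom E3Def.R P3Link.lw L275Table.table L275Low.hT lwk275 lwinv275
      (fun L hL => L275Low.hchkT _ (hmem275 L hL))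
  have hle : Cfsg.Agent.Lib.Helper4.McL.P ≤ φ.range := by
    apply grp_le_iff.mpr
    intro c hc
    simp only [List.mem_cons, List.not_mem_nil, or_false] at hc
    rcases hc with rfl | rfl
    · refine ⟨PresentedGroup.mk _ (FreeGroup.mk wA), ?_⟩
      apply Equiv.ext
      intro p
      apply Fin.ext
      rw [hφ wA p, perm_apply_val Cfsg.Agent.Lib.Helper4.McL.valid_A]
      exact walkA p.val p.2
    · refine ⟨PresentedGroup.mk _ (FreeGroup.mk wB), ?_⟩
      apply Equiv.ext
      intro p
      apply Fin.ext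
      rw [hφ wB p, perm_apply_val Cfsg.Agent.Lib.Helper4.McL.valid_B]
      exact walkB p.val p.2
  have hcP : Nat.card ↥Cfsg.Agent.Lib.Helper4.McL.P = 898128000 := Cfsg.Agent.Lib.Helper4.McL.card_P
  have h1 : Nat.card ↥φ.range ≤ Nat.card PP := Nat.card_le_card_of_surjective _ φ.rangeRestrict_surjective
  have h2 : Nat.card ↥Cfsg.Agent.Lib.Helper4.McL.P ≤ Nat.card ↥φ.range := Subgroup.card_le_of_le hle
  have h3 := cardPP.2
  have hrange : Nat.card ↥φ.range = 898128000 := le_antisymm (le_trans h1 h3) (by rw [← hcP]; exact h2)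
  have hPP : Nat.card PP = 898128000 := le_antisymm h3 (by rw [← hrange]; exact h1)
  have heq : Cfsg.Agent.Lib.Helper4.McL.P = φ.range :=
    Subgroup.eq_of_le_of_card_ge hle (by rw [hrange, hcP])
  have hbij : Function.Bijective φ.rangeRestrict :=
    (φ.rangeRestrict_surjective).bijective_of_nat_card_le (by rw [hrange, hPP])
  let e1 : PP ≃* ↥φ.range := MulEquiv.ofBijective φ.rangeRestrict hbij
  let e2 : ↥φ.range ≃* ↥Cfsg.Agent.Lib.Helper4.McL.P := MulEquiv.subgroupCongr heq.symm
  exact ⟨⟨(e1.trans e2).trans Cfsg.Agent.Lib.Helper4.McL.mclIso.symm⟩, hPP⟩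

/-! ### the kernel -/

theorem lwkC : ∀ xb, E3Link.lw xb < LCovTable.table.k := by
  rintro ⟨x, b⟩; cases x <;> cases b <;> decide
theorem lwinvC : ∀ x, E3Link.lw (x, false) = LCovTable.table.invl (E3Link.lw (x, true)) := by
  intro x; cases x <;> decide +kernel

/-- the relators acting as the central letter -/
def K1 : List (List (E3Def.Gen × Bool)) := [E3Def.R.getD 45 [], E3Def.R.getD 54 [], E3Def.R.getD 63 [], E3Def.R.getD 71 [], E3Def.R.getD 72 [], E3Def.R.getD 76 [], E3Def.R.getD 77 [], E3Def.R.getD 78 [], E3Def.R.getD 88 [], E3Def.R.getD 104 [], E3Def.R.getD 105 [], E3Def.R.getD 107 [], E3Def.R.getD 109 [], E3Def.R.getD 112 [], E3Def.R.getD 124 [], E3Def.R.getD 132 [], E3Def.R.getD 134 []]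
/-- the relators acting as the square of the central letter -/
def K2 : List (List (E3Def.Gen × Bool)) := [E3Def.R.getD 73 [], E3Def.R.getD 74 [], E3Def.R.getD 75 [], E3Def.R.getD 83 [], E3Def.R.getD 84 [], E3Def.R.getD 86 [], E3Def.R.getD 87 [], E3Def.R.getD 118 [], E3Def.R.getD 119 [], E3Def.R.getD 120 [], E3Def.R.getD 121 [], E3Def.R.getD 122 [], E3Def.R.getD 123 [], E3Def.R.getD 125 [], E3Def.R.getD 126 [], E3Def.R.getD 127 [], E3Def.R.getD 128 [], E3Def.R.getD 129 [], E3Def.R.getD 130 []]

/-- the exponent of the central letter in the action of a relator -/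
def kr (L : List (E3Def.Gen × Bool)) : ℕ := if L ∈ K1 then 1 else if L ∈ K2 then 2 else 0

theorem hmemR : ∀ L ∈ E3Def.R, pathOf E3Link.lw L ++ List.replicate (kr L) 9 ∈ LCovTable.relzPaths := by
  decide +kernel
theorem hmemN : ∀ L ∈ D3.norms, pathOf E3Link.lw L ∈ LCovTable.relzPaths := by decide +kernel
theorem hmemC : ∀ x : E3Def.Gen, [8, E3Link.lw (x, true), 9, E3Link.lw (x, false)] ∈ LCovTable.commPaths := by
  intro x; cases x <;> decide +kernel

/-- the relator `(d c)^5` -/
def zc : List (E3Def.Gen × Bool) := E3Def.R.getD 45 []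

theorem zc_mem : zc ∈ E3Def.R := by decide +kernel

theorem walk_zc : LCovTable.table.walkT (pathOf E3Link.lw zc) 0 ≠ 0 := by decide +kernel
theorem walk_zc2 : LCovTable.table.walkT (pathOf E3Link.lw (zc ++ zc)) 0 ≠ 0 := by decide +kernel

/-- an element of the kernel whose order is not 1 or 2 -/
theorem ker_elt : ∃ z ∈ D3.proj.ker, z ≠ 1 ∧ z ^ 2 ≠ 1 := by
  have hinv : LCovTable.table.invl 8 = 9 := by decide +kernel
  obtain ⟨φ, hφ⟩ := CoverLow.cover_hom D3 E3Link.lw LCovLow.hT lwkC lwinvC 8 22275 (by decide) rfl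
    LCovLow.hz
    (fun x q hq => by
      rw [hinv]
      exact LCovLow.hcommT _ (hmemC x) q hq)
    kr
    (fun L hL p hp => by
      rw [hinv]
      exact LCovLow.hrelzT _ (hmemR L hL) p hp)
    (fun L hL p hp => LCovLow.hrelzT _ (hmemN L hL) p hp)
  refine ⟨PresentedGroup.mk D3.relsE (FreeGroup.mk zc), ?_, ?_, ?_⟩
  · rw [MonoidHom.mem_ker, D3.proj_mk]
    exact PresentedGroup.one_of_mem ⟨zc, zc_mem, rfl⟩
  · intro h
    have h1 : φ (PresentedGroup.mk _ (FreeGroup.mk zc)) ≠ 1 :=
      ne_one_of_walk φ hφ zc ⟨0, by decide⟩ walk_zc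
    apply h1
    have : (PresentedGroup.mk (relSet E3Def.relWords) (FreeGroup.mk zc)) = 1 := h
    rw [this, map_one]
  · have e : (PresentedGroup.mk D3.relsE (FreeGroup.mk zc)) ^ 2 =
        PresentedGroup.mk D3.relsE (FreeGroup.mk (zc ++ zc)) := by
      rw [pow_two, ← map_mul, FreeGroup.mul_mk]
    rw [e]
    intro h
    have h1 : φ (PresentedGroup.mk _ (FreeGroup.mk (zc ++ zc))) ≠ 1 :=
      ne_one_of_walk φ hφ (zc ++ zc) ⟨0, by decide⟩ walk_zc2
    apply h1
    have : (PresentedGroup.mk (relSet E3Def.relWords) (FreeGroup.mk (zc ++ zc))) = 1 := h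
    rw [this, map_one]

theorem card_ker : Nat.card D3.proj.ker = 3 := by
  haveI := cardE3.1
  have h1 := D3.card_E
  rw [iso.2] at h1
  have h2 := cardE3.2
  have h3 : Nat.card D3.proj.ker ≤ 3 := by
    rw [h1] at h2
    exact Nat.le_of_mul_le_mul_right h2 (by norm_num)
  have h4 : 3 ≤ Nat.card D3.proj.ker := by
    obtain ⟨z, hz, hz1, hz2⟩ := ker_elt
    let z' : D3.proj.ker := ⟨z, hz⟩
    have ho : orderOf z' ≤ Nat.card D3.proj.ker := orderOf_le_card
    have hpos : 0 < orderOf z' := orderOf_pos z'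
    by_contra hlt
    have hlt' : orderOf z' < 3 := by omega
    have hcases : orderOf z' = 1 ∨ orderOf z' = 2 := by omega
    rcases hcases with h | h
    · apply hz1
      have h5 : z' = 1 := orderOf_eq_one_iff.mp h
      exact congrArg Subtype.val h5
    · apply hz2
      have h5 : z' ^ 2 = 1 := by rw [← h]; exact pow_orderOf_eq_one z'
      have h6 := congrArg Subtype.val h5
      rw [Subgroup.coe_pow, Subgroup.coe_one] at h6
      exact h6
  exact le_antisymm h3 h4

/-- the Schur multiplier of the McLaughlin group is cyclic of order 3 -/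
theorem schur_McL : Cfsg.HasCyclicSchurMultiplier ↥Cfsg.Spor.McL 3 := by
  haveI := cardE3.1
  obtain ⟨φ⟩ := iso.1
  haveI : Fact (Nat.Prime 3) := ⟨Nat.prime_three⟩
  have hc : IsCyclic D3.proj.ker := isCyclic_of_prime_card card_ker
  have e : Nat.card D3.proj.ker = Nat.card (Multiplicative (ZMod 3)) := by
    rw [card_ker, Nat.card_eq_fintype_card]; rfl
  exact D3.hasSchurMultiplier φ (mulEquivOfCyclicCardEq e)

end Cfsg.Agent.Lib.Helper16.McLM.McLMain
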